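import Mathlib

/-! The `2 ⊗ 4` orthogonal model for `S₃ × S₆` in dimension 8 over the field with two elements. -/

set_option autoImplicit false

namespace Cfsg.Agent.H70.CHZ

/-- The `4`-space: even subsets of six points modulo complement, in the basis `e₁₂, e₂₃, e₃₄, e₄₅`. -/
abbrev W4 : Type := ZMod 2 × ZMod 2 × ZMod 2 × ZMod 2

/-- The `8`-space `1 ⊗ u + ω ⊗ v`. -/
abbrev V8 : Type := W4 × W4

/-- The abstract group `S₃ × S₆`. -/
abbrev P36 : Type := Equiv.Perm (Fin 3) × Equiv.Perm (Fin 6)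

/-- A representative subset of six points. -/
def wLift (w : W4) : Fin 6 → ZMod 2 :=
  ![w.1, w.1 + w.2.1, w.2.1 + w.2.2.1, w.2.2.1 + w.2.2.2, w.2.2.2, 0]

/-- The coordinates of an even subset. -/
def wRed (x : Fin 6 → ZMod 2) : W4 :=
  (x 0 + x 5, x 1 + x 0, x 2 + x 1 + x 0 + x 5, x 3 + x 2 + x 1 + x 0)

/-- The action of `S₆` on the `4`-space. -/
def wAct (g : Equiv.Perm (Fin 6)) (w : W4) : W4 := wRed fun i => wLift w (g⁻¹ i)

/-- The alternating form on the `4`-space. -/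
def wB (a b : W4) : ZMod 2 :=
  a.1 * b.2.1 + a.2.1 * b.1 + a.2.1 * b.2.2.1 + a.2.2.1 * b.2.1 + a.2.2.1 * b.2.2.2 + a.2.2.2 * b.2.2.1

/-- The three nonzero vectors of the `2`-space, as coordinates over `1, ω`. -/
def ptVec : Fin 3 → ZMod 2 × ZMod 2 := ![(1, 0), (0, 1), (1, 1)]

/-- The action of `S₃ × S₆` on the tensor product. -/
def vAct (p : P36) (x : V8) : V8 :=
  ((ptVec (p.1 0)).1 • wAct p.2 x.1 + (ptVec (p.1 1)).1 • wAct p.2 x.2,
   (ptVec (p.1 0)).2 • wAct p.2 x.1 + (ptVec (p.1 1)).2 • wAct p.2 x.2)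

/-- The quadratic form. -/
def vq (x : V8) : ZMod 2 := wB x.1 x.2

/-- Its polar form. -/
def vB (x y : V8) : ZMod 2 := wB x.1 y.2 + wB x.2 y.1

/-- The element of order three of the first factor. -/
def cyc : P36 := (finRotate 3, 1)

/-- The involution of the first factor fixing the coordinate `1`. -/
def sig : P36 := (Equiv.swap 1 2, 1)

end Cfsg.Agent.H70.CHZ
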