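import Cfsg.Agent.H18.Singular.Final
import Cfsg.Agent.H18.Singular.Setting
import Cfsg.Agent.H70.CHZ.Model

/-! Setting: an involution centralizer `C(z)` with `Q = O₂(C(z))` extraspecial of order `2⁹` and
`C(z)/Q` between `S₃ × A₆` and `S₃ × S₆`. -/

set_option autoImplicit false

namespace Cfsg.Agent.H70.CHZ

variable {G : Type*} [Group G]

/-- `z ^ e` for `e : ZMod 2`. -/
def zb (z : G) (e : ZMod 2) : G := if e = 0 then 1 else z

/-- `π` maps `C(z)` onto a subgroup of `S₃ × S₆` containing `A₃ × A₆`, with kernel `Q`. -/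
structure Base (z : G) (Q : Subgroup G) (π : G → P36) : Prop where
  sing : H18.SingPt Q z
  core : H18.HasCore Q z
  card : Nat.card Q = 512
  π_mul : ∀ a b : G, a * z = z * a → b * z = z * b → π (a * b) = π a * π b
  π_ker : ∀ a : G, a * z = z * a → (π a = 1 ↔ a ∈ Q)
  π_range : ∀ p : P36, Equiv.Perm.sign p.1 = 1 → Equiv.Perm.sign p.2 = 1 → ∃ a : G, a * z = z * a ∧ π a = p

/-- The case `[V, c]` of dimension two: a quaternion normal subgroup `E` on whose three cyclic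
subgroups of order 4 the first factor acts naturally, with `c` centralizing `C_Q(E)` modulo `⟨z⟩`. -/
structure Split (z : G) (Q : Subgroup G) (π : G → P36) (E : Subgroup G) : Prop extends Base z Q π where
  le : E ≤ Q
  mem : z ∈ E
  cardE : Nat.card E = 8
  norm : ∀ a : G, a * z = z * a → ∀ e ∈ E, a * e * a⁻¹ ∈ E
  sqE : ∀ e ∈ E, e ≠ 1 → e ≠ z → e * e = z
  card0 : Nat.card (Q ⊓ Subgroup.centralizer (E : Set G) : Subgroup G) = 128
  split : ∀ x ∈ Q, ∃ e ∈ E, ∃ y ∈ Q ⊓ Subgroup.centralizer (E : Set G), x = e * y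
  cyc_fix : ∀ a : G, a * z = z * a → π a = cyc →
    ∀ y ∈ Q ⊓ Subgroup.centralizer (E : Set G), y⁻¹ * (a * y * a⁻¹) ∈ Subgroup.zpowers z
  cyc_move : ∀ a : G, a * z = z * a → π a = cyc →
    ∀ e ∈ E, e⁻¹ * (a * e * a⁻¹) ∈ Subgroup.zpowers z → e ∈ Subgroup.zpowers z
  fst_fix : ∀ a : G, a * z = z * a → (π a).1 = 1 →
    ∀ e ∈ E, e⁻¹ * (a * e * a⁻¹) ∈ Subgroup.zpowers z
  fst_move : ∀ a : G, a * z = z * a → Equiv.Perm.sign (π a).1 = -1 →
    ∃ e ∈ E, e⁻¹ * (a * e * a⁻¹) ∉ Subgroup.zpowers z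

/-- The tensor case: `Q/⟨z⟩` is the model module. -/
structure Tensor (z : G) (Q : Subgroup G) (π : G → P36) (φ : G → V8) : Prop extends Base z Q π where
  φ_mul : ∀ a ∈ Q, ∀ b ∈ Q, φ (a * b) = φ a + φ b
  φ_ker : ∀ a ∈ Q, (φ a = 0 ↔ a = 1 ∨ a = z)
  φ_surj : ∀ v : V8, ∃ a ∈ Q, φ a = v
  φ_sq : ∀ a ∈ Q, a * a = zb z (vq (φ a))
  φ_comm : ∀ a ∈ Q, ∀ b ∈ Q, a * b * a⁻¹ * b⁻¹ = zb z (vB (φ a) (φ b))
  φ_act : ∀ a : G, a * z = z * a → ∀ q ∈ Q, φ (a * q * a⁻¹) = vAct (π a) (φ q)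

/-- The subgroup `Q` of the conjugate point. -/
abbrev cQ (Q : Subgroup G) (g : G) : Subgroup G := Q.map (MulAut.conj g).toMonoidHom

/-- The quotient map of the conjugate point. -/
abbrev cπ (π : G → P36) (g : G) : G → P36 := fun a => π (g⁻¹ * a * g)

/-- The coordinates of the conjugate point. -/
abbrev cφ (φ : G → V8) (g : G) : G → V8 := fun a => φ (g⁻¹ * a * g)

theorem mem_cQ {Q : Subgroup G} {g a : G} : a ∈ cQ Q g ↔ g⁻¹ * a * g ∈ Q := by
  constructor
  · rintro ⟨p, hp, rfl⟩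
    simpa [mul_assoc] using hp
  · intro hq
    exact ⟨_, hq, by simp [mul_assoc]⟩

variable [Finite G] {z : G} {Q : Subgroup G} {π : G → P36}

/-- Symmetry: `z^g ∈ Q` implies `z ∈ Q^g`. -/
theorem Base.symm (h : Base z Q π) {g : G} (hg : g * z * g⁻¹ ∈ Q) : z ∈ cQ Q g :=
  h.sing.symm_of_conj_big (h.sing.conj g) (by rw [h.card]; norm_num) rfl
    (fun q => by rw [mem_cQ]; simp [mul_assoc]) hg

omit [Finite G] in
theorem comm_conj_iff {g a x : G} :
    a * (g * x * g⁻¹) = g * x * g⁻¹ * a ↔ (g⁻¹ * a * g) * x = x * (g⁻¹ * a * g) := by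
  constructor
  · intro ha
    calc (g⁻¹ * a * g) * x = g⁻¹ * (a * (g * x * g⁻¹)) * g := by group
      _ = g⁻¹ * ((g * x * g⁻¹) * a) * g := by rw [ha]
      _ = x * (g⁻¹ * a * g) := by group
  · intro ha
    calc a * (g * x * g⁻¹) = g * ((g⁻¹ * a * g) * x) * g⁻¹ := by group
      _ = g * (x * (g⁻¹ * a * g)) * g⁻¹ := by rw [ha]
      _ = g * x * g⁻¹ * a := by group

omit [Finite G] in
/-- The setting passes to conjugates. -/
theorem Base.conj (h : Base z Q π) (g : G) : Base (g * z * g⁻¹) (cQ Q g) (cπ π g) where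
  sing := h.sing.conj g
  core := h.core.conj g
  card := by rw [Subgroup.card_map_of_injective (MulAut.conj g).injective]; exact h.card
  π_mul a b ha hb := by
    show π _ = π _ * π _
    rw [show g⁻¹ * (a * b) * g = (g⁻¹ * a * g) * (g⁻¹ * b * g) by group,
      h.π_mul _ _ (comm_conj_iff.mp ha) (comm_conj_iff.mp hb)]
  π_ker a ha := by rw [mem_cQ]; exact h.π_ker _ (comm_conj_iff.mp ha)
  π_range p hp1 hp := by
    obtain ⟨a, ha, rfl⟩ := h.π_range p hp1 hp
    refine ⟨g * a * g⁻¹, comm_conj_iff.mpr (by simpa [mul_assoc] using ha), ?_⟩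
    show π _ = π a
    rw [show g⁻¹ * (g * a * g⁻¹) * g = a by group]

omit [Finite G] in
/-- The tensor case passes to conjugates. -/
theorem Tensor.conj {φ : G → V8} (h : Tensor z Q π φ) (g : G) :
    Tensor (g * z * g⁻¹) (cQ Q g) (cπ π g) (cφ φ g) where
  toBase := h.toBase.conj g
  φ_mul a ha b hb := by
    show φ _ = φ _ + φ _
    rw [show g⁻¹ * (a * b) * g = (g⁻¹ * a * g) * (g⁻¹ * b * g) by group,
      h.φ_mul _ (mem_cQ.mp ha) _ (mem_cQ.mp hb)]
  φ_ker a ha := by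
    have h1 := h.φ_ker _ (mem_cQ.mp ha)
    show φ (g⁻¹ * a * g) = 0 ↔ _
    rw [h1]
    constructor
    · rintro (e | e)
      · exact Or.inl (by rw [show a = g * (g⁻¹ * a * g) * g⁻¹ by group, e]; group)
      · exact Or.inr (by rw [show a = g * (g⁻¹ * a * g) * g⁻¹ by group, e])
    · rintro (e | e) <;> subst e
      · exact Or.inl (by group)
      · exact Or.inr (by group)
  φ_surj v := by
    obtain ⟨a, ha, rfl⟩ := h.φ_surj v
    refine ⟨g * a * g⁻¹, mem_cQ.mpr (by simpa [mul_assoc] using ha), ?_⟩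
    show φ _ = φ a
    rw [show g⁻¹ * (g * a * g⁻¹) * g = a by group]
  φ_sq a ha := by
    have h1 := h.φ_sq _ (mem_cQ.mp ha)
    show a * a = zb (g * z * g⁻¹) (vq (φ (g⁻¹ * a * g)))
    rw [show a * a = g * ((g⁻¹ * a * g) * (g⁻¹ * a * g)) * g⁻¹ by group, h1]
    unfold zb
    split_ifs <;> group
  φ_comm a ha b hb := by
    have h1 := h.φ_comm _ (mem_cQ.mp ha) _ (mem_cQ.mp hb)
    show a * b * a⁻¹ * b⁻¹ = zb (g * z * g⁻¹) (vB (φ (g⁻¹ * a * g)) (φ (g⁻¹ * b * g)))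
    rw [show a * b * a⁻¹ * b⁻¹ = g * ((g⁻¹ * a * g) * (g⁻¹ * b * g) * (g⁻¹ * a * g)⁻¹ * (g⁻¹ * b * g)⁻¹) * g⁻¹ by group, h1]
    unfold zb
    split_ifs <;> group
  φ_act a ha q hq := by
    show φ _ = vAct (π _) (φ _)
    rw [show g⁻¹ * (a * q * a⁻¹) * g = (g⁻¹ * a * g) * (g⁻¹ * q * g) * (g⁻¹ * a * g)⁻¹ by group]
    exact h.φ_act _ (comm_conj_iff.mp ha) _ (mem_cQ.mp hq)

omit [Finite G] in
/-- The split case passes to conjugates. -/
theorem Split.conj {E : Subgroup G} (h : Split z Q π E) (g : G) :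
    Split (g * z * g⁻¹) (cQ Q g) (cπ π g) (cQ E g) := by
  have hz : ∀ x : G, x ∈ Subgroup.zpowers (g * z * g⁻¹) ↔ g⁻¹ * x * g ∈ Subgroup.zpowers z := by
    intro x
    rw [← mem_cQ, cQ, MonoidHom.map_zpowers]
    rfl
  have hcent : ∀ x : G, x ∈ cQ Q g ⊓ Subgroup.centralizer (cQ E g : Set G) ↔
      g⁻¹ * x * g ∈ Q ⊓ Subgroup.centralizer (E : Set G) := by
    intro x
    simp only [Subgroup.mem_inf, mem_cQ, Subgroup.mem_centralizer_iff, SetLike.mem_coe]
    refine and_congr_right fun _ => ⟨fun hx e he => ?_, fun hx e he => ?_⟩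
    · exact (comm_conj_iff.mp (hx (g * e * g⁻¹) (by simpa [mul_assoc] using he)).symm).symm
    · have h' := (comm_conj_iff (x := g⁻¹ * e * g)).mpr (hx _ he).symm
      rw [show g * (g⁻¹ * e * g) * g⁻¹ = e by group] at h'
      exact h'.symm
  refine
    { toBase := h.toBase.conj g
      le := Subgroup.map_mono h.le
      mem := mem_cQ.mpr (by simpa [mul_assoc] using h.mem)
      cardE := by rw [Subgroup.card_map_of_injective (MulAut.conj g).injective]; exact h.cardE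
      norm := fun a ha e he => mem_cQ.mpr (by
        rw [show g⁻¹ * (a * e * a⁻¹) * g = (g⁻¹ * a * g) * (g⁻¹ * e * g) * (g⁻¹ * a * g)⁻¹ by group]
        exact h.norm _ (comm_conj_iff.mp ha) _ (mem_cQ.mp he))
      sqE := fun e he h1 h2 => ?_
      card0 := ?_
      split := fun x hx => ?_
      cyc_fix := fun a ha hp y hy => ?_
      cyc_move := fun a ha hp e he hm => ?_
      fst_fix := fun a ha hp e he => ?_
      fst_move := fun a ha hp => ?_ }
  · have := h.sqE _ (mem_cQ.mp he) (fun e' => h1 (by rw [show e = g * (g⁻¹ * e * g) * g⁻¹ by group, e']; group))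
      (fun e' => h2 (by rw [show e = g * (g⁻¹ * e * g) * g⁻¹ by group, e']))
    rw [show e * e = g * ((g⁻¹ * e * g) * (g⁻¹ * e * g)) * g⁻¹ by group, this]
  · have : cQ Q g ⊓ Subgroup.centralizer (cQ E g : Set G) = cQ (Q ⊓ Subgroup.centralizer (E : Set G)) g := by
      ext x; rw [hcent, mem_cQ]
    rw [this, Subgroup.card_map_of_injective (MulAut.conj g).injective]; exact h.card0
  · obtain ⟨e, he, y, hy, hxy⟩ := h.split _ (mem_cQ.mp hx)
    refine ⟨g * e * g⁻¹, mem_cQ.mpr (by simpa [mul_assoc] using he), g * y * g⁻¹,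
      (hcent _).mpr (by simpa [mul_assoc] using hy), ?_⟩
    rw [conj_mul, ← hxy]; group
  · rw [hz]
    have := h.cyc_fix _ (comm_conj_iff.mp ha) hp _ ((hcent _).mp hy)
    simpa [mul_assoc] using this
  · rw [hz] at hm ⊢
    exact h.cyc_move _ (comm_conj_iff.mp ha) hp _ (mem_cQ.mp he) (by simpa [mul_assoc] using hm)
  · rw [hz]
    have := h.fst_fix _ (comm_conj_iff.mp ha) hp _ (mem_cQ.mp he)
    simpa [mul_assoc] using this
  · obtain ⟨e, he, hm⟩ := h.fst_move _ (comm_conj_iff.mp ha) hp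
    refine ⟨g * e * g⁻¹, mem_cQ.mpr (by simpa [mul_assoc] using he), fun hc => hm ?_⟩
    rw [hz] at hc
    simpa [mul_assoc] using hc

end Cfsg.Agent.H70.CHZ
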