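import Cfsg.Agent.H70.CHZ.Base
import Cfsg.Agent.H28.ZStar

/-! From an isolated `z` to non-simplicity. -/

set_option autoImplicit false

namespace Cfsg.Agent.H70.CHZ

variable {G : Type*} [Group G] [Finite G]

/-- An isolated `z` in the setting of `Base` excludes simplicity, by the `Z*`-theorem. -/
theorem not_simple_of_isolated {z : G} {Q : Subgroup G} {π : G → P36} (h : Base z Q π)
    (hiso : ∀ g : G, Commute z (g * z * g⁻¹) → g * z * g⁻¹ = z) : ¬ IsSimpleGroup G := by
  intro hs
  have : Fact (Nat.Prime 2) := ⟨Nat.prime_two⟩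
  have hz : orderOf z = 2 := orderOf_eq_prime (by rw [pow_two, h.sing.xx]) h.sing.xne
  have hstar : H28.IsIsolatedInvolution z := ⟨hz, hiso⟩
  have hN : (Cfsg.pPrimeCore 2 G).Normal := H19.pPrimeCore_normal 2 G
  rcases hs.eq_bot_or_eq_top_of_normal _ hN with e | e
  · have hc : z ∈ Subgroup.center G := Subgroup.mem_center_iff.mpr fun g => by
      have h1 := H28.zStar hstar g
      rw [e, Subgroup.mem_bot, mul_inv_eq_one, mul_inv_eq_iff_eq_mul] at h1
      exact h1.symm
    have htop : Subgroup.center G = ⊤ :=
      (hs.eq_bot_or_eq_top_of_normal _ inferInstance).resolve_left fun e' => by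
        rw [e', Subgroup.mem_bot] at hc
        exact h.sing.xne hc
    let _ : CommGroup G :=
      { ‹Group G› with
        mul_comm := fun a b => (Subgroup.mem_center_iff.mp (htop ▸ Subgroup.mem_top b) a) }
    have hp : (Nat.card G).Prime := IsSimpleGroup.prime_card
    have hd : 512 ∣ Nat.card G := h.card ▸ Subgroup.card_subgroup_dvd_card Q
    rcases hp.eq_one_or_self_of_dvd 512 hd with e1 | e1
    · norm_num at e1
    · rw [← e1] at hp
      norm_num at hp
  · have h1 : (Nat.card G).Coprime 2 := by
      have := H19.pPrimeCore_coprime (G := G) 2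
      rwa [e, Subgroup.card_top] at this
    have h2 : 2 ∣ Nat.card G := hz ▸ orderOf_dvd_natCard z
    have h3 := h1.coprime_dvd_left h2
    norm_num at h3

end Cfsg.Agent.H70.CHZ
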