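import Cfsg.Agent.H70.CHZ.Base

/-! The fixed-point-free case for the setting of `Base`. -/

set_option autoImplicit false

namespace Cfsg.Agent.H70.CHZ

variable {G : Type*} [Group G]

/-- An element of order three of the first factor fixes no nontrivial coset of `⟨z⟩` in `Q`. -/
def Fpf (z : G) (Q : Subgroup G) (π : G → P36) : Prop :=
  ∀ a : G, a * z = z * a → π a = cyc →
    ∀ q ∈ Q, q⁻¹ * (a * q * a⁻¹) ∈ Subgroup.zpowers z → q ∈ Subgroup.zpowers z

end Cfsg.Agent.H70.CHZ
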