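import Cfsg.Agent.H70.CHZ.Base

/-!
# Fixed points of elements of odd order on `Q / ⟨z⟩`
-/

set_option autoImplicit false
set_option linter.unusedSectionVars false

namespace Cfsg.Agent.H70.CHZ

open Cfsg.Agent.H18

variable {G : Type*} [Group G]

/-- `a` fixes the coset `q⟨z⟩`. -/
def Fix (z a q : G) : Prop := q⁻¹ * (a * q * a⁻¹) ∈ Subgroup.zpowers z

/-- The centralizer of `a` in `Q`. -/
abbrev FQ (Q : Subgroup G) (a : G) : Subgroup G := Q ⊓ Subgroup.centralizer ({a} : Set G)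

/-- The centralizer in `Q` of the centralizer of `a` in `Q`. -/
abbrev WQ (Q : Subgroup G) (a : G) : Subgroup G := Q ⊓ Subgroup.centralizer (FQ Q a : Set G)

variable [Finite G] {z : G} {Q : Subgroup G} {π : G → P36}

namespace Base

variable (h : Base z Q π)
include h

theorem zz : z * z = 1 := h.sing.xx

theorem pair {w : G} (hw : w ∈ Subgroup.zpowers z) : w = 1 ∨ w = z := h.sing.pair hw

theorem mem_zp {w : G} : w ∈ Subgroup.zpowers z ↔ w = 1 ∨ w = z :=
  H18.mem_zpowers_iff_pair h.zz w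

theorem comm_zp {a w : G} (ha : a * z = z * a) (hw : w ∈ Subgroup.zpowers z) : a * w = w * a := by
  rcases h.pair hw with rfl | rfl
  · simp
  · exact ha

theorem π_one_aux : π 1 = 1 :=
  (h.π_ker 1 (by simp)).2 Q.one_mem

theorem π_inv_aux {a : G} (ha : a * z = z * a) : π a⁻¹ = (π a)⁻¹ := by
  have ha' : a⁻¹ * z = z * a⁻¹ := (show Commute a z from ha).inv_left
  have := h.π_mul _ _ ha' ha
  rw [inv_mul_cancel, h.π_one_aux] at this
  exact eq_inv_of_mul_eq_one_left this.symm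

theorem π_pow {a : G} (ha : a * z = z * a) (k : ℕ) : π (a ^ k) = π a ^ k := by
  induction k with
  | zero => simpa using h.π_one_aux
  | succ k ih =>
    rw [pow_succ, pow_succ, h.π_mul _ _ ((show Commute a z from ha).pow_left k).eq ha, ih]

theorem π_conj_aux {a b : G} (ha : a * z = z * a) (hb : b * z = z * b) :
    π (b⁻¹ * a * b) = (π b)⁻¹ * π a * π b := by
  have hb' : b⁻¹ * z = z * b⁻¹ := (show Commute b z from hb).inv_left
  rw [h.π_mul _ _ (Commute.mul_left (show Commute b⁻¹ z from hb') ha).eq hb, h.π_mul _ _ hb' ha,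
    h.π_inv_aux hb]

theorem conj_mem {a q : G} (ha : a * z = z * a) (hq : q ∈ Q) : a * q * a⁻¹ ∈ Q :=
  h.sing.norm a ha q hq

theorem fix_Q {a q : G} (ha : a ∈ Q) (hq : q ∈ Q) : Fix z a q := by
  have := h.sing.comm (Q.inv_mem hq) ha
  unfold Fix
  simpa [mul_assoc] using this

theorem fix_one (q : G) : Fix z 1 q := by
  simp [Fix]

theorem fix_mul {a b q : G} (ha : a * z = z * a) (h1 : Fix z a q) (h2 : Fix z b q) :
    Fix z (a * b) q := by
  unfold Fix at *
  have e : q⁻¹ * (a * b * q * (a * b)⁻¹)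
      = q⁻¹ * (a * q * a⁻¹) * (a * (q⁻¹ * (b * q * b⁻¹)) * a⁻¹) := by group
  rw [e, h.comm_zp ha h2, mul_inv_cancel_right]
  exact mul_mem h1 h2

theorem fix_inv {a q : G} (ha : a * z = z * a) (h1 : Fix z a q) : Fix z a⁻¹ q := by
  unfold Fix at *
  have e : q⁻¹ * (a⁻¹ * q * a⁻¹⁻¹) = a⁻¹ * (q⁻¹ * (a * q * a⁻¹))⁻¹ * a := by group
  rw [e, mul_assoc, ← h.comm_zp ha (inv_mem h1), inv_mul_cancel_left]
  exact inv_mem h1

theorem fix_pow {a q : G} (ha : a * z = z * a) (h1 : Fix z a q) (k : ℕ) : Fix z (a ^ k) q := by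
  induction k with
  | zero => simpa using h.fix_one q
  | succ k ih => rw [pow_succ]; exact h.fix_mul ((show Commute a z from ha).pow_left k).eq ih h1

theorem fix_congr {a b q : G} (ha : a * z = z * a) (hb : b * z = z * b) (hq : q ∈ Q)
    (hπ : π a = π b) (h1 : Fix z a q) : Fix z b q := by
  have hab : (a⁻¹ * b) * z = z * (a⁻¹ * b) :=
    ((show Commute a z from ha).inv_left.mul_left hb).eq
  have hk : π (a⁻¹ * b) = 1 := by
    rw [h.π_mul _ _ (show Commute a z from ha).inv_left.eq hb, h.π_inv_aux ha, hπ, inv_mul_cancel]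
  have := h.fix_mul ha h1 (h.fix_Q ((h.π_ker _ hab).1 hk) hq)
  rwa [mul_inv_cancel_left] at this

/-- Moving the fixed coset by conjugation. -/
theorem fix_conj {a b q : G} (hb : b * z = z * b) :
    Fix z (b⁻¹ * a * b) q ↔ Fix z a (b * q * b⁻¹) := by
  unfold Fix
  have e : (b * q * b⁻¹)⁻¹ * (a * (b * q * b⁻¹) * a⁻¹)
      = b * (q⁻¹ * (b⁻¹ * a * b * q * (b⁻¹ * a * b)⁻¹)) * b⁻¹ := by group
  constructor
  · intro h1
    rw [e, h.comm_zp hb h1, mul_inv_cancel_right]
    exact h1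
  · intro h1
    rw [e] at h1
    have h2 := h.comm_zp (show Commute b z from hb).inv_left.eq h1
    have e2 : q⁻¹ * (b⁻¹ * a * b * q * (b⁻¹ * a * b)⁻¹)
        = b⁻¹ * (b * (q⁻¹ * (b⁻¹ * a * b * q * (b⁻¹ * a * b)⁻¹)) * b⁻¹) * b := by group
    rw [e2, h2, inv_mul_cancel_right]
    exact h1

/-- An element of odd order fixing a coset centralizes it. -/
theorem fix_exact {a q : G} {n : ℕ} (ha : a * z = z * a) (hn : Odd n) (han : a ^ n = 1)
    (h1 : Fix z a q) : a * q = q * a := by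
  set w := q⁻¹ * (a * q * a⁻¹) with hw
  have h2 : a * q * a⁻¹ = q * w := by rw [hw]; group
  have h3 : ∀ k : ℕ, a ^ k * q * (a ^ k)⁻¹ = q * w ^ k := by
    intro k
    induction k with
    | zero => simp
    | succ k ih =>
      calc a ^ (k + 1) * q * (a ^ (k + 1))⁻¹ = a * (a ^ k * q * (a ^ k)⁻¹) * a⁻¹ := by
            rw [pow_succ']; group
        _ = (a * q * a⁻¹) * (a * w ^ k * a⁻¹) := by rw [ih]; group
        _ = q * w * w ^ k := by rw [h2, h.comm_zp ha (pow_mem h1 k), mul_inv_cancel_right]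
        _ = q * w ^ (k + 1) := by rw [pow_succ']; group
  have h4 := h3 n
  rw [han, one_mul, inv_one, mul_one] at h4
  have h5 : w ^ n = 1 := mul_left_cancel (h4.symm.trans (mul_one q).symm)
  have h6 : w = 1 := by
    rcases h.pair h1 with e | e
    · exact e
    · exfalso
      obtain ⟨m, rfl⟩ := hn
      rw [show w = z from e, pow_succ, pow_mul, pow_two, h.zz, one_pow, one_mul] at h5
      exact h.sing.xne h5
  rw [h6, mul_one] at h2
  exact mul_inv_eq_iff_eq_mul.1 h2

theorem z_mem_FQ {a : G} (ha : a * z = z * a) : z ∈ FQ Q a :=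
  ⟨h.sing.mem, Subgroup.mem_centralizer_singleton_iff.2 ha.symm⟩

theorem z_mem_WQ (a : G) : z ∈ WQ Q a :=
  ⟨h.sing.mem, Subgroup.mem_centralizer_iff.2 fun w hw => h.sing.comm_x w hw.1⟩

theorem fix_of_mem_FQ {a q : G} (hq : q ∈ FQ Q a) : Fix z a q := by
  have := Subgroup.mem_centralizer_singleton_iff.1 hq.2
  unfold Fix
  rw [← this, mul_inv_cancel_right, inv_mul_cancel]
  exact one_mem _

theorem mem_FQ_of_fix {a q : G} {n : ℕ} (ha : a * z = z * a) (hn : Odd n) (han : a ^ n = 1)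
    (hq : q ∈ Q) (h1 : Fix z a q) : q ∈ FQ Q a :=
  ⟨hq, Subgroup.mem_centralizer_singleton_iff.2 (h.fix_exact ha hn han h1).symm⟩

/-- A lift of odd order. -/
theorem exists_lift {p : P36} {n : ℕ} (hp1 : Equiv.Perm.sign p.1 = 1)
    (hp : Equiv.Perm.sign p.2 = 1) (hn : 16 % n = 1)
    (hpn : p ^ n = 1) : ∃ a : G, a * z = z * a ∧ π a = p ∧ a ^ n = 1 := by
  obtain ⟨a, ha, rfl⟩ : ∃ a, a * z = z * a ∧ π a = p := by apply h.π_range <;> assumption
  have hc : Commute a z := ha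
  refine ⟨a ^ 16, (hc.pow_left 16).eq, ?_, ?_⟩
  · rw [h.π_pow ha, ← Nat.div_add_mod 16 n, hn, pow_add, pow_mul, hpn, one_pow, one_mul, pow_one]
  · have hm : a ^ n ∈ Q := (h.π_ker _ (hc.pow_left n).eq).1 (by rw [h.π_pow ha, hpn])
    rw [← pow_mul, mul_comm, pow_mul, show (16 : ℕ) = 2 * 8 by rfl, pow_mul, pow_two]
    rcases h.pair (h.sing.sq hm) with e | e <;> rw [e]
    · simp
    · rw [show (8 : ℕ) = 2 * 4 by rfl, pow_mul, pow_two, h.zz, one_pow]

theorem pi_eq_one_of_top {a : G} (ha : a * z = z * a) (hF : Q ≤ FQ Q a) : π a = 1 :=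
  (h.π_ker a ha).2 (h.sing.mem_of_disp ha fun _ hq => h.fix_of_mem_FQ (hF hq))

/-- `Q` is generated by `C_Q(a)` and its centralizer. -/
theorem le_FQ_sup_WQ {a : G} {n : ℕ} (ha : a * z = z * a) (hn : Odd n) (han : a ^ n = 1) :
    Q ≤ FQ Q a ⊔ WQ Q a := by
  intro q hq
  set D := FQ Q a ⊔ WQ Q a with hD
  have hzD : Subgroup.zpowers z ≤ D :=
    Subgroup.zpowers_le.2 (Subgroup.mem_sup_left (h.z_mem_FQ ha))
  have hdisp : ∀ v ∈ Q, v⁻¹ * (a * v * a⁻¹) ∈ D := fun v hv =>
    Subgroup.mem_sup_right (h.sing.disp_centralizes ha inf_le_left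
      (fun w hw => h.fix_of_mem_FQ hw) hv)
  let P : ℕ → G := fun k => Nat.rec 1 (fun _ x => q * (a * x * a⁻¹)) k
  have hPs : ∀ k, P (k + 1) = q * (a * P k * a⁻¹) := fun _ => rfl
  have hPQ : ∀ k, P k ∈ Q := by
    intro k
    induction k with
    | zero => exact Q.one_mem
    | succ k ih => rw [hPs]; exact Q.mul_mem hq (h.conj_mem ha ih)
  have hP1 : ∀ k, P (k + 1) = P k * (a ^ k * q * (a ^ k)⁻¹) := by
    intro k
    induction k with
    | zero => show q * (a * 1 * a⁻¹) = 1 * (a ^ 0 * q * (a ^ 0)⁻¹); group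
    | succ k ih =>
      calc P (k + 1 + 1) = q * (a * (P k * (a ^ k * q * (a ^ k)⁻¹)) * a⁻¹) := by rw [← ih]
        _ = q * (a * P k * a⁻¹) * (a ^ (k + 1) * q * (a ^ (k + 1))⁻¹) := by rw [pow_succ']; group
        _ = P (k + 1) * (a ^ (k + 1) * q * (a ^ (k + 1))⁻¹) := by rw [← hPs]
  have hPn : P n ∈ FQ Q a := by
    refine h.mem_FQ_of_fix ha hn han (hPQ n) ?_
    have e : a * P n * a⁻¹ = q⁻¹ * P n * q := by
      calc a * P n * a⁻¹ = q⁻¹ * P (n + 1) := by rw [hPs]; group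
        _ = q⁻¹ * P n * q := by rw [hP1, han]; group
    unfold Fix
    rw [e]
    have := h.sing.comm (Q.inv_mem (hPQ n)) (Q.inv_mem hq)
    simpa [mul_assoc] using this
  have hk : ∀ k, (q ^ k)⁻¹ * P k ∈ D := by
    intro k
    induction k with
    | zero => show (q ^ 0)⁻¹ * 1 ∈ D; simp
    | succ k ih =>
      have e : (q ^ (k + 1))⁻¹ * P (k + 1)
          = ((q ^ k)⁻¹ * P k) * ((P k)⁻¹ * (a * P k * a⁻¹)) := by
        rw [hPs, pow_succ']; group
      rw [e]
      exact D.mul_mem ih (hdisp _ (hPQ k))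
  have hqn : q ^ n ∈ D := by
    have e : q ^ n = P n * ((q ^ n)⁻¹ * P n)⁻¹ := by group
    rw [e]
    exact D.mul_mem (Subgroup.mem_sup_left hPn) (D.inv_mem (hk n))
  obtain ⟨m, rfl⟩ := hn
  rw [pow_succ, pow_mul, pow_two] at hqn
  have h2 : (q * q) ^ m ∈ D := D.pow_mem (hzD (h.sing.sq hq)) m
  exact (D.mul_mem_cancel_left h2).1 hqn

theorem inf_FQ_WQ {a : G} {n : ℕ} (ha : a * z = z * a) (hn : Odd n) (han : a ^ n = 1)
    {x : G} (hx1 : x ∈ FQ Q a) (hx2 : x ∈ WQ Q a) : x ∈ Subgroup.zpowers z := by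
  refine h.mem_zp.2 (h.sing.cent x fun w hw => ?_)
  have hle : FQ Q a ⊔ WQ Q a ≤ Subgroup.centralizer ({x} : Set G) :=
    sup_le (fun v hv => Subgroup.mem_centralizer_singleton_iff.2
        (Subgroup.mem_centralizer_iff.1 hx2.2 v hv))
      (fun v hv => Subgroup.mem_centralizer_singleton_iff.2
        ((Subgroup.mem_centralizer_iff.1 hv.2 x hx1).symm))
  exact Subgroup.mem_centralizer_singleton_iff.1 (hle (h.le_FQ_sup_WQ ha hn han hw))

theorem card_FQ_mul_WQ {a : G} (ha : a * z = z * a) :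
    Nat.card (FQ Q a) * Nat.card (WQ Q a) = 1024 := by
  have := h.sing.card_mul (FQ Q a) inf_le_left (h.z_mem_FQ ha)
  rw [h.card] at this
  exact this

theorem card_two_pow {H : Subgroup G} (hH : H ≤ Q) : ∃ k ≤ 9, Nat.card H = 2 ^ k := by
  have h1 : Nat.card H ∣ 2 ^ 9 := by
    rw [show (2 : ℕ) ^ 9 = Nat.card Q by rw [h.card]; norm_num]
    exact Subgroup.card_dvd_of_le hH
  exact (Nat.dvd_prime_pow Nat.prime_two).1 h1

/-- Fixed points modulo a prime. -/
theorem card_modEq {a : G} {r : ℕ} [Fact r.Prime] (har : a ^ r = 1) {H : Subgroup G} (hH : H ≤ Q)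
    (hinv : ∀ x ∈ H, a * x * a⁻¹ ∈ H) :
    Nat.card H ≡ Nat.card (H ⊓ FQ Q a : Subgroup G) [MOD r] := by
  have hpow : ∀ k : ℕ, ∀ x ∈ H, a ^ k * x * (a ^ k)⁻¹ ∈ H := by
    intro k
    induction k with
    | zero => intro x hx; simpa using hx
    | succ k ih =>
      intro x hx
      have := hinv _ (ih x hx)
      rwa [show a * (a ^ k * x * (a ^ k)⁻¹) * a⁻¹ = a ^ (k + 1) * x * (a ^ (k + 1))⁻¹ by
        rw [pow_succ']; group] at this
  have hzp : ∀ g : ↥(Subgroup.zpowers a), ∀ x ∈ H, (g : G) * x * (g : G)⁻¹ ∈ H := by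
    rintro ⟨g, hg⟩ x hx
    obtain ⟨k, hk⟩ : ∃ k : ℕ, a ^ k = g := mem_powers_iff_mem_zpowers.2 hg
    subst hk
    exact hpow k x hx
  let _ : MulAction ↥(Subgroup.zpowers a) ↥H :=
    { smul := fun g x => ⟨(g : G) * x * (g : G)⁻¹, hzp g x x.2⟩
      one_smul := fun x => Subtype.ext (show ((1 : ↥(Subgroup.zpowers a)) : G) * x * _ = x by simp)
      mul_smul := fun g g' x => Subtype.ext (show (g * g' : G) * x * (g * g' : G)⁻¹ = _ by
        show _ = (g : G) * ((g' : G) * x * (g' : G)⁻¹) * (g : G)⁻¹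
        group) }
  have hP : IsPGroup r ↥(Subgroup.zpowers a) := by
    obtain ⟨j, -, hj⟩ := (Nat.dvd_prime_pow (Fact.out : r.Prime)).1
      (show orderOf a ∣ r ^ 1 by rw [pow_one]; exact orderOf_dvd_of_pow_eq_one har)
    exact IsPGroup.of_card (n := j) (by rw [Nat.card_zpowers, hj])
  refine (hP.card_modEq_card_fixedPoints ↥H).trans ?_
  rw [Nat.card_congr (?_ : _ ≃ ↥(H ⊓ FQ Q a : Subgroup G))]
  refine
    { toFun := fun x => ⟨(x.1 : G), x.1.2, hH x.1.2, Subgroup.mem_centralizer_singleton_iff.2 ?_⟩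
      invFun := fun y => ⟨⟨y, y.2.1⟩, fun g => Subtype.ext ?_⟩
      left_inv := fun _ => rfl
      right_inv := fun _ => rfl }
  · have h1 := congrArg Subtype.val (x.2 ⟨a, Subgroup.mem_zpowers a⟩)
    exact (mul_inv_eq_iff_eq_mul.1 h1).symm
  · have h1 : Commute a (y : G) :=
      (Subgroup.mem_centralizer_singleton_iff.1 y.2.2.2).symm
    obtain ⟨k, hk⟩ := g.2
    show (g : G) * y * (g : G)⁻¹ = y
    rw [← hk]
    show a ^ k * (y : G) * (a ^ k)⁻¹ = y
    rw [(h1.zpow_left k).eq, mul_inv_cancel_right]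

/-- Invariance of `C_Q(a)`. -/
theorem FQ_inv {a b q : G} {n k : ℕ} (ha : a * z = z * a) (hn : Odd n) (han : a ^ n = 1)
    (hb : b * z = z * b) (hπ : (π b)⁻¹ * π a * π b = π a ^ k) (hq : q ∈ FQ Q a) :
    b * q * b⁻¹ ∈ FQ Q a := by
  refine h.mem_FQ_of_fix ha hn han (h.conj_mem hb hq.1) ((h.fix_conj hb).1 ?_)
  refine h.fix_congr ((show Commute a z from ha).pow_left k).eq ?_ hq.1 ?_
    (h.fix_pow ha (h.fix_of_mem_FQ hq) k)
  · exact ((show Commute b z from hb).inv_left.mul_left ha |>.mul_left hb).eq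
  · rw [h.π_conj_aux ha hb, hπ, h.π_pow ha]

theorem WQ_inv {a b q : G} (hb : b * z = z * b) (hF : ∀ v ∈ FQ Q a, b⁻¹ * v * b ∈ FQ Q a)
    (hq : q ∈ WQ Q a) : b * q * b⁻¹ ∈ WQ Q a := by
  refine ⟨h.conj_mem hb hq.1, Subgroup.mem_centralizer_iff.2 fun v hv => ?_⟩
  have h1 := Subgroup.mem_centralizer_iff.1 hq.2 _ (hF v hv)
  calc v * (b * q * b⁻¹) = b * ((b⁻¹ * v * b) * q) * b⁻¹ := by group
    _ = b * (q * (b⁻¹ * v * b)) * b⁻¹ := by rw [h1]
    _ = b * q * b⁻¹ * v := by group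

/-- A set stable under `g` and `z` and of size less than four times the order is a single orbit. -/
theorem cover {g : G} {n : ℕ} (hg : g * z = z * g) (hn : 0 < n) (hgn : g ^ n = 1) {S : Set G}
    (hSg : ∀ x ∈ S, g * x * g⁻¹ ∈ S) (hSz : ∀ x ∈ S, x * z ∈ S)
    (hfree : ∀ x ∈ S, ∀ k, 0 < k → k < n → ¬ Fix z (g ^ k) x) (hS : S.ncard < 4 * n)
    {s : G} (hs : s ∈ S) :
    ∀ x ∈ S, ∃ i < n, (g ^ i * s * (g ^ i)⁻¹)⁻¹ * x ∈ Subgroup.zpowers z := by
  have hgk : ∀ k, g ^ k * z = z * g ^ k := fun k => ((show Commute g z from hg).pow_left k).eq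
  have hiter : ∀ k, ∀ x ∈ S, g ^ k * x * (g ^ k)⁻¹ ∈ S := by
    intro k
    induction k with
    | zero => intro x hx; simpa using hx
    | succ k ih =>
      intro x hx
      have := hSg _ (ih x hx)
      rwa [show g * (g ^ k * x * (g ^ k)⁻¹) * g⁻¹ = g ^ (k + 1) * x * (g ^ (k + 1))⁻¹ by
        rw [pow_succ']; group] at this
  let φ : G → Fin n × Bool → G := fun y i =>
    g ^ (i.1 : ℕ) * y * (g ^ (i.1 : ℕ))⁻¹ * (if i.2 then z else 1)
  have hφmem : ∀ y ∈ S, ∀ i, φ y i ∈ S := by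
    intro y hy i
    show _ * (if i.2 then z else 1) ∈ S
    cases i.2
    · simpa using hiter _ y hy
    · simpa using hSz _ (hiter _ y hy)
  have hZb : ∀ b : Bool, (if b then z else 1) ∈ Subgroup.zpowers z := fun b => by
    cases b
    · simp
    · simp
  have hinj : ∀ y ∈ S, Function.Injective (φ y) := by
    intro y hy
    have key : ∀ (i j : Fin n) (b b' : Bool), (i : ℕ) ≤ j → φ y (i, b) = φ y (j, b') →
        (i, b) = (j, b') := by
      intro i j b b' hij he
      have hfix : Fix z (g ^ ((j : ℕ) - i)) y := by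
        rw [show φ y (i, b) = g ^ (i : ℕ) * y * (g ^ (i : ℕ))⁻¹ * (if b then z else 1) from rfl,
          show φ y (j, b') = g ^ (j : ℕ) * y * (g ^ (j : ℕ))⁻¹ * (if b' then z else 1) from rfl] at he
        unfold Fix
        have e0 : g ^ (j : ℕ) = g ^ (i : ℕ) * g ^ ((j : ℕ) - i) := by
          rw [← pow_add, Nat.add_sub_cancel' hij]
        set u := g ^ (i : ℕ) with hu
        set d := g ^ ((j : ℕ) - i) with hd
        set w := (if b then z else 1) * (if b' then z else 1)⁻¹ with hw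
        have hwm : w ∈ Subgroup.zpowers z := mul_mem (hZb b) (inv_mem (hZb b'))
        rw [e0] at he
        have h1 : u * y * u⁻¹ * w = u * d * y * (u * d)⁻¹ := by
          rw [hw, ← mul_assoc, he, mul_inv_cancel_right]
        have h2 : y⁻¹ * (d * y * d⁻¹) = u⁻¹ * w * u := by
          calc y⁻¹ * (d * y * d⁻¹) = y⁻¹ * (u⁻¹ * (u * d * y * (u * d)⁻¹) * u) := by group
            _ = y⁻¹ * (u⁻¹ * (u * y * u⁻¹ * w) * u) := by rw [h1]
            _ = u⁻¹ * w * u := by group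
        rw [h2, mul_assoc, ← h.comm_zp (hgk _) hwm, inv_mul_cancel_left]
        exact hwm
      have hij' : i = j := by
        by_contra hne
        refine hfree y hy ((j : ℕ) - i) ?_ ?_ hfix
        · have : (i : ℕ) ≠ j := fun e => hne (Fin.ext e)
          omega
        · have := j.2
          omega
      subst hij'
      have hb := mul_left_cancel he
      cases b <;> cases b' <;> simp [h.sing.xne, Ne.symm h.sing.xne] at hb ⊢
    rintro ⟨i, b⟩ ⟨j, b'⟩ he
    rcases le_total (i : ℕ) j with hij | hij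
    · exact key i j b b' hij he
    · exact (key j i b' b hij he.symm).symm
  intro x hx
  by_contra hcon
  push Not at hcon
  have hdisj : Disjoint (Set.range (φ s)) (Set.range (φ x)) := by
    rw [Set.disjoint_left]
    rintro _ ⟨⟨i, b⟩, rfl⟩ ⟨⟨j, b'⟩, he⟩
    -- `x` would be in the orbit of `s`
    refine hcon (((i : ℕ) + (n - j)) % n) (Nat.mod_lt _ hn) ?_
    set u := g ^ (i : ℕ) with hu
    set v := g ^ (j : ℕ) with hv
    have hw : g ^ (((i : ℕ) + (n - j)) % n) = v⁻¹ * u := by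
      rw [← pow_eq_pow_mod _ hgn, pow_add, hu, hv]
      have hj : g ^ (n - (j : ℕ)) = (g ^ (j : ℕ))⁻¹ := by
        refine eq_inv_of_mul_eq_one_left ?_
        rw [← pow_add, Nat.sub_add_cancel j.2.le, hgn]
      rw [hj]
      exact (Commute.pow_pow_self g _ _).inv_right.eq
    rw [hw]
    have he' : v * x * v⁻¹ * (if b' then z else 1) = u * s * u⁻¹ * (if b then z else 1) := he
    set w := (if b then z else 1) * (if b' then z else 1)⁻¹ with hwd
    have hwm : w ∈ Subgroup.zpowers z := mul_mem (hZb b) (inv_mem (hZb b'))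
    have h1 : v * x * v⁻¹ = u * s * u⁻¹ * w := by
      rw [hwd, ← mul_assoc, ← he', mul_inv_cancel_right]
    have h2 : (v⁻¹ * u * s * (v⁻¹ * u)⁻¹)⁻¹ * x = v⁻¹ * w * v := by
      calc (v⁻¹ * u * s * (v⁻¹ * u)⁻¹)⁻¹ * x
          = v⁻¹ * (u * s * u⁻¹)⁻¹ * (v * x * v⁻¹) * v := by group
        _ = v⁻¹ * w * v := by rw [h1]; group
    rw [h2, mul_assoc, ← h.comm_zp (hgk _) hwm, inv_mul_cancel_left]
    exact hwm
  have hsub : Set.range (φ s) ∪ Set.range (φ x) ⊆ S := by
    rintro _ (⟨i, rfl⟩ | ⟨i, rfl⟩)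
    · exact hφmem s hs i
    · exact hφmem x hx i
  have hle := Set.ncard_le_ncard hsub
  rw [Set.ncard_union_eq hdisj, Set.ncard_range_of_injective (hinj s hs),
    Set.ncard_range_of_injective (hinj x hx), Nat.card_prod] at hle
  simp at hle
  omega

/-- A subgroup of order at least 16 with constant squares outside `⟨z⟩` is abelian. -/
theorem comm_of_const_sq {W : Subgroup G} (hW : W ≤ Q) (hcard : 16 ≤ Nat.card W)
    {e : G} (he : ∀ x ∈ W, x ∉ Subgroup.zpowers z → x * x = e) :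
    e = 1 ∧ ∀ x ∈ W, ∀ y ∈ W, x * y = y * x := by
  have hpick : ∀ T : Finset G, T.card ≤ 8 → ∃ x ∈ W, x ∉ T := by
    intro T hT
    by_contra hc
    push Not at hc
    have h1 : (W : Set G).ncard ≤ (T : Set G).ncard := Set.ncard_le_ncard hc T.finite_toSet
    rw [Set.ncard_coe_finset] at h1
    have h2 : Nat.card W = (W : Set G).ncard := (Nat.card_coe_set_eq _)
    omega
  classical
  obtain ⟨a, ha, haT⟩ := hpick {1, z} (by
    have := Finset.card_insert_le (1 : G) {z}
    simp at this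
    omega)
  simp only [Finset.mem_insert, Finset.mem_singleton, not_or] at haT
  have hnz : ∀ x, x ≠ 1 → x ≠ z → x ∉ Subgroup.zpowers z := fun x h1 h2 hx =>
    (h.pair hx).elim h1 h2
  have haz := hnz a haT.1 haT.2
  rcases h.pair (h.sing.sq (hW ha)) with e0 | e0 <;> rw [he a ha haz] at e0
  · refine ⟨e0, fun x hx y hy => ?_⟩
    have hsq : ∀ v ∈ W, v * v = 1 := fun v hv => by
      by_cases hvz : v ∈ Subgroup.zpowers z
      · rcases h.pair hvz with e1 | e1 <;> rw [e1]
        · simp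
        · exact h.zz
      · rw [he v hv hvz, e0]
    calc x * y = (x * y)⁻¹ := eq_inv_of_mul_eq_one_left (hsq _ (W.mul_mem hx hy))
      _ = y * x := by
        rw [mul_inv_rev, inv_eq_of_mul_eq_one_right (hsq x hx), inv_eq_of_mul_eq_one_right (hsq y hy)]
  · exfalso
    subst e
    have hinv : ∀ x ∈ W, x ∉ Subgroup.zpowers z → x⁻¹ = x * z := fun x hx hxz =>
      inv_eq_of_mul_eq_one_right (by rw [← mul_assoc, he x hx hxz, h.zz])
    have hanti : ∀ x ∈ W, ∀ y ∈ W, x ∉ Subgroup.zpowers z → y ∉ Subgroup.zpowers z →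
        x * y ∉ Subgroup.zpowers z → y * x = x * y * z := by
      intro x hx y hy hxz hyz hxy
      have h1 := hinv _ (W.mul_mem hx hy) hxy
      rw [mul_inv_rev, hinv x hx hxz, hinv y hy hyz] at h1
      calc y * x = y * x * (z * z) := by rw [h.zz, mul_one]
        _ = y * (x * z) * z := by group
        _ = y * (z * x) * z := by rw [h.sing.comm_x x (hW hx)]
        _ = y * z * (x * z) := by group
        _ = x * y * z := h1
    obtain ⟨b, hb, hbT⟩ := hpick {1, z, a, a * z} (Finset.card_le_four.trans (by norm_num))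
    simp only [Finset.mem_insert, Finset.mem_singleton, not_or] at hbT
    have hbz := hnz b hbT.1 hbT.2.1
    have habz : a * b ∉ Subgroup.zpowers z := fun hh => by
      rcases h.pair hh with e1 | e1
      · exact hbT.2.2.2 (by rw [eq_inv_of_mul_eq_one_right e1, hinv a ha haz])
      · exact hbT.2.2.1 (mul_left_cancel (e1.trans (he a ha haz).symm))
    obtain ⟨d, hd, hdT⟩ := hpick {1, z, a, a * z, b, b * z, a * b, a * b * z}
      (by iterate 7 refine (Finset.card_insert_le _ _).trans (Nat.succ_le_succ ?_)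
          simp)
    simp only [Finset.mem_insert, Finset.mem_singleton, not_or] at hdT
    obtain ⟨hd1, hd2, hda, hdaz, hdb, hdbz, hdab, hdabz⟩ := hdT
    have hdz := hnz d hd1 hd2
    have hprod : ∀ x ∈ W, x ∉ Subgroup.zpowers z → d ≠ x → d ≠ x * z →
        x * d ∉ Subgroup.zpowers z := by
      intro x hx hxz h1 h2 hh
      rcases h.pair hh with e1 | e1
      · exact h2 (by rw [eq_inv_of_mul_eq_one_right e1, hinv x hx hxz])
      · exact h1 (mul_left_cancel (e1.trans (he x hx hxz).symm))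
    have h1 := hanti a ha d hd haz hdz (hprod a ha haz hda hdaz)
    have h2 := hanti b hb d hd hbz hdz (hprod b hb hbz hdb hdbz)
    have h3 := hanti _ (W.mul_mem ha hb) d hd habz hdz (hprod _ (W.mul_mem ha hb) habz hdab hdabz)
    have h4 : d * (a * b) = a * b * d := by
      calc d * (a * b) = d * a * b := by group
        _ = a * d * (z * b) := by rw [h1]; group
        _ = a * d * (b * z) := by rw [h.sing.comm_x b (hW hb)]
        _ = a * (d * b) * z := by group
        _ = a * (b * d * z) * z := by rw [h2]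
        _ = a * b * d * (z * z) := by group
        _ = a * b * d := by rw [h.zz, mul_one]
    rw [h4] at h3
    exact h.sing.xne (by simpa using h3)

end Base

end Cfsg.Agent.H70.CHZ
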