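import Cfsg.Agent.H70.CHZ.Fpf
import Cfsg.Agent.H70.CHZ.IdentifyAux
import Cfsg.Prelude.Def_Transfer
import Cfsg.Prelude.Def_CaseTheorems

/-!
# The setting from the hypotheses, and the two cases for the action of `S₃` on `Q / ⟨z⟩`
-/

set_option autoImplicit false
set_option linter.unusedSectionVars false

namespace Cfsg.Agent.H70.CHZ

open Cfsg.Agent.H18
open scoped Pointwise

/-- A five-cycle. -/
def fiveCyc : Equiv.Perm (Fin 6) :=
  Equiv.swap 0 1 * Equiv.swap 1 2 * Equiv.swap 2 3 * Equiv.swap 3 4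

theorem fiveCyc_sign : Equiv.Perm.sign fiveCyc = 1 := by decide

theorem fiveCyc_pow : fiveCyc ^ 5 = 1 := by decide

theorem fiveCyc_ne : fiveCyc ≠ 1 := by decide

theorem finRotate_pow : (finRotate 3) ^ 3 = (1 : Equiv.Perm (Fin 3)) := by decide

theorem conj_finRotate : ∀ x : Equiv.Perm (Fin 3),
    x⁻¹ * finRotate 3 * x = finRotate 3 ^ 1 ∨ x⁻¹ * finRotate 3 * x = finRotate 3 ^ 2 := by decide

theorem odd_conj_finRotate : ∀ x : Equiv.Perm (Fin 3), Equiv.Perm.sign x = -1 →
    (finRotate 3)⁻¹ * (x⁻¹ * finRotate 3 * x) = finRotate 3 := by decide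

theorem pair_pow (a : Equiv.Perm (Fin 3)) (b : Equiv.Perm (Fin 6)) (k : ℕ) :
    ((a, b) : P36) ^ k = (a ^ k, b ^ k) := rfl

theorem mixed_pow_fifteen : ((finRotate 3, fiveCyc) : P36) ^ 15 = 1 := by
  rw [pair_pow, pow_eq_pow_mod 15 finRotate_pow, pow_eq_pow_mod 15 fiveCyc_pow,
    show 15 % 3 = 0 from rfl, pow_zero, pow_zero]
  rfl

theorem mixed_pow_ten : ((finRotate 3, fiveCyc) : P36) ^ 10 = cyc := by
  rw [pair_pow, pow_eq_pow_mod 10 finRotate_pow, pow_eq_pow_mod 10 fiveCyc_pow,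
    show 10 % 3 = 1 from rfl, show 10 % 5 = 0 from rfl, pow_zero, pow_one, cyc]

theorem mixed_pow_six : ((finRotate 3, fiveCyc) : P36) ^ 6 = (1, fiveCyc) := by
  rw [pair_pow, pow_eq_pow_mod 6 finRotate_pow, pow_eq_pow_mod 6 fiveCyc_pow,
    show 6 % 3 = 0 from rfl, show 6 % 5 = 1 from rfl, pow_zero, pow_one]

theorem cyc_pow_three : cyc ^ 3 = 1 := Prod.ext finRotate_pow (one_pow 3)

/-- A subgroup of index at most five of `A₆` is everything. -/
theorem eq_top_of_index_le_five (K : Subgroup (alternatingGroup (Fin 6)))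
    (hK : K.index ≤ 5) : K = ⊤ := by
  have hs : IsSimpleGroup (alternatingGroup (Fin 6)) := alternatingGroup.isSimpleGroup (by simp)
  rcases hs.eq_bot_or_eq_top_of_normal K.normalCore inferInstance with e | e
  · exfalso
    have hinj : Function.Injective (MulAction.toPermHom (alternatingGroup (Fin 6))
        (alternatingGroup (Fin 6) ⧸ K)) := by
      rw [← MonoidHom.ker_eq_bot_iff, ← Subgroup.normalCore_eq_ker, e]
    have h1 := Nat.card_le_card_of_injective _ hinj
    rw [nat_card_alternatingGroup, Nat.card_perm, Nat.card_fin,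
      show Nat.card (alternatingGroup (Fin 6) ⧸ K) = K.index from rfl] at h1
    have h2 : Nat.factorial K.index ≤ Nat.factorial 5 := Nat.factorial_le hK
    have h3 : Nat.factorial 6 / 2 ≤ Nat.factorial 5 := h1.trans h2
    simp [Nat.factorial] at h3
  · exact top_le_iff.1 (e ▸ K.normalCore_le)

variable {G : Type*} [Group G] [Finite G] {z : G} {Q : Subgroup G} {π : G → P36}

/-- The hypotheses give the setting. -/
theorem exists_base (z : G) (hz : orderOf z = 2)
    (hQ : Cfsg.IsExtraspecial 2 ↥(Cfsg.pCore 2 ↥(Subgroup.centralizer ({z} : Set G))))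
    (hQ9 : Nat.card ↥(Cfsg.pCore 2 ↥(Subgroup.centralizer ({z} : Set G))) = 2 ^ 9)
    (hCQ : Subgroup.centralizer ((Cfsg.pCore 2 ↥(Subgroup.centralizer ({z} : Set G))) :
      Set ↥(Subgroup.centralizer ({z} : Set G))) ≤ Cfsg.pCore 2 ↥(Subgroup.centralizer ({z} : Set G)))
    (hMQ : Nonempty (↥(Subgroup.centralizer ({z} : Set G)) ⧸ Cfsg.pCore 2 ↥(Subgroup.centralizer ({z} : Set G)) ≃* (Equiv.Perm (Fin 3) × ↥(alternatingGroup (Fin 6)))) ∨
      Nonempty (↥(Subgroup.centralizer ({z} : Set G)) ⧸ Cfsg.pCore 2 ↥(Subgroup.centralizer ({z} : Set G)) ≃* (Equiv.Perm (Fin 3) × Equiv.Perm (Fin 6)))) :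
    ∃ π : G → P36, Base z
      ((Cfsg.pCore 2 ↥(Subgroup.centralizer ({z} : Set G))).map
        (Subgroup.centralizer ({z} : Set G)).subtype) π ∧
      ∀ p : P36, Equiv.Perm.sign p.2 = 1 → ∃ a : G, a * z = z * a ∧ π a = p := by
  classical
  have : Fact (Nat.Prime 2) := ⟨Nat.prime_two⟩
  set M := Subgroup.centralizer ({z} : Set G) with hM
  set Qm := Cfsg.pCore 2 ↥M with hQm
  set F := Qm.map M.subtype with hF
  have : Qm.Normal := H18.pCore_normal 2
  have hzM : z ∈ M := Subgroup.mem_centralizer_singleton_iff.2 rfl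
  have hzQ : (⟨z, hzM⟩ : ↥M) ∈ Qm := by
    have hn : (Subgroup.zpowers (⟨z, hzM⟩ : ↥M)).Normal := by
      refine ⟨fun n hn a => ?_⟩
      have hc : a * n = n * a := by
        obtain ⟨k, rfl⟩ := hn
        have h1 : Commute a ⟨z, hzM⟩ := Subtype.ext (Subgroup.mem_centralizer_singleton_iff.1 a.2)
        exact (h1.zpow_right k).eq
      rwa [hc, mul_inv_cancel_right]
    refine le_pCore hn (IsPGroup.of_card (n := 1) ?_) (Subgroup.mem_zpowers _)
    rw [Nat.card_zpowers, Subgroup.orderOf_mk, hz, pow_one]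
  set e := Qm.equivMapOfInjective M.subtype M.subtype_injective
  have hcard : Nat.card ↥F = 512 := by
    rw [hF, Subgroup.card_map_of_injective M.subtype_injective, hQ9]; norm_num
  have hC : Subgroup.centralizer (F : Set G) ≤ F := fun y hy => by
    have hyM : y ∈ M := Subgroup.mem_centralizer_singleton_iff.2
      (Subgroup.mem_centralizer_iff.1 hy z ⟨_, hzQ, rfl⟩).symm
    refine ⟨⟨y, hyM⟩, hCQ (Subgroup.mem_centralizer_iff.2 fun q hq => Subtype.ext ?_), rfl⟩
    exact Subgroup.mem_centralizer_iff.1 hy q ⟨q, hq, rfl⟩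
  obtain ⟨hsing, hcore⟩ := singPt_of_pCore z hz F rfl (isExtraspecial_equiv e hQ) hC
  have mk : ∀ φ : ↥M →* P36, φ.ker = Qm →
      (∀ p : P36, Equiv.Perm.sign p.2 = 1 → ∃ a, φ a = p) →
      ∃ π : G → P36, Base z F π ∧
        ∀ p : P36, Equiv.Perm.sign p.2 = 1 → ∃ a : G, a * z = z * a ∧ π a = p := by
    intro φ hker hsurj
    let f : G → P36 := fun a => if ha : a ∈ M then φ ⟨a, ha⟩ else 1
    have hf : ∀ a : ↥M, f a = φ a := fun a => dif_pos a.2
    have hmem : ∀ {a : G}, a * z = z * a → a ∈ M := fun ha =>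
      Subgroup.mem_centralizer_singleton_iff.2 ha
    have hfull : ∀ p : P36, Equiv.Perm.sign p.2 = 1 → ∃ a : G, a * z = z * a ∧ f a = p := by
      intro p hp
      obtain ⟨a, rfl⟩ := hsurj p hp
      exact ⟨a, Subgroup.mem_centralizer_singleton_iff.1 a.2, hf a⟩
    refine ⟨f, ⟨hsing, hcore, hcard, fun a b ha hb => ?_, fun a ha => ?_, fun p => by
      intros; apply hfull; assumption⟩, hfull⟩
    · rw [hf ⟨a, hmem ha⟩, hf ⟨b, hmem hb⟩, ← map_mul, ← hf]
      rfl
    · rw [hf ⟨a, hmem ha⟩, ← MonoidHom.mem_ker, hker]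
      exact ⟨fun h1 => ⟨_, h1, rfl⟩, fun ⟨q, hq, he⟩ => by
        have : q = ⟨a, hmem ha⟩ := Subtype.ext he
        rwa [← this]⟩
  rcases hMQ with ⟨⟨ε⟩⟩ | ⟨⟨ε⟩⟩
  · refine mk (((MonoidHom.id (Equiv.Perm (Fin 3))).prodMap (alternatingGroup (Fin 6)).subtype).comp
      (ε.toMonoidHom.comp (QuotientGroup.mk' Qm))) ?_ fun p hp => ?_
    · ext a
      have hinj : Function.Injective
          ((MonoidHom.id (Equiv.Perm (Fin 3))).prodMap (alternatingGroup (Fin 6)).subtype) :=
        Function.Injective.prodMap Function.injective_id Subtype.val_injective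
      rw [MonoidHom.mem_ker, MonoidHom.comp_apply, map_eq_one_iff _ hinj]
      exact (map_eq_one_iff ε ε.injective).trans (QuotientGroup.eq_one_iff a)
    · obtain ⟨a, ha⟩ := QuotientGroup.mk'_surjective Qm (ε.symm (p.1, ⟨p.2, hp⟩))
      refine ⟨a, ?_⟩
      show Prod.map id Subtype.val (ε (QuotientGroup.mk' Qm a)) = p
      rw [ha]
      exact (congrArg _ (ε.apply_symm_apply _)).trans rfl
  · refine mk (ε.toMonoidHom.comp (QuotientGroup.mk' Qm)) ?_ fun p _ => ?_
    · ext a
      rw [MonoidHom.mem_ker, MonoidHom.comp_apply]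
      exact (map_eq_one_iff ε ε.injective).trans (QuotientGroup.eq_one_iff a)
    · obtain ⟨a, ha⟩ := QuotientGroup.mk'_surjective Qm (ε.symm p)
      refine ⟨a, ?_⟩
      show ε (QuotientGroup.mk' Qm a) = p
      rw [ha]
      exact ε.apply_symm_apply _
where
  isExtraspecial_equiv {A B : Type _} [Group A] [Group B] (e : A ≃* B)
      (h : Cfsg.IsExtraspecial 2 A) : Cfsg.IsExtraspecial 2 B := by
    obtain ⟨⟨hp, hfr, hcom⟩, hcard⟩ := h
    have hcen : (Subgroup.center A).map e.toMonoidHom = Subgroup.center B := by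
      ext v
      constructor
      · rintro ⟨u, hu, rfl⟩
        refine Subgroup.mem_center_iff.mpr fun w => ?_
        obtain ⟨w', rfl⟩ := e.surjective w
        exact (map_mul e _ _).symm.trans
          ((congrArg e (Subgroup.mem_center_iff.mp hu w')).trans (map_mul e _ _))
      · intro hv
        obtain ⟨u, rfl⟩ := e.surjective v
        refine ⟨u, Subgroup.mem_center_iff.mpr fun w => e.injective ?_, rfl⟩
        rw [map_mul, map_mul]
        exact Subgroup.mem_center_iff.mp hv (e w)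
    refine ⟨⟨hp.of_equiv e, ?_, ?_⟩, ?_⟩
    · rw [← hcen, ← hfr]
      apply le_antisymm
      · intro v hv
        obtain ⟨u, rfl⟩ := e.surjective v
        refine ⟨u, ?_, rfl⟩
        have h' : e.symm (e u) ∈ frattini A :=
          frattini_le_comap_frattini_of_surjective (φ := e.symm.toMonoidHom) e.symm.surjective hv
        rwa [e.symm_apply_apply] at h'
      · rw [Subgroup.map_le_iff_le_comap]
        exact frattini_le_comap_frattini_of_surjective (φ := e.toMonoidHom) e.surjective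
    · rw [← hcen, ← hcom, commutator_def, commutator_def, Subgroup.map_commutator,
        Subgroup.map_top_of_surjective _ e.surjective]
    · rw [← hcen, Subgroup.card_map_of_injective e.injective, hcard]

namespace Base

variable (h : Base z Q π)
include h

/-- If the orbit of `s` under the elements over `A₆` lies in five cosets, they all fix `s`. -/
theorem fix_of_orbit {s : G} (hs : s ∈ Q) (R : Finset G) (hR : R.card ≤ 5)
    (horb : ∀ a : G, a * z = z * a → (π a).1 = 1 → Equiv.Perm.sign (π a).2 = 1 →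
      ∃ r ∈ R, r⁻¹ * (a * s * a⁻¹) ∈ Subgroup.zpowers z)
    {a : G} (ha : a * z = z * a) (h1 : (π a).1 = 1) (h2 : Equiv.Perm.sign (π a).2 = 1) :
    Fix z a s := by
  classical
  have hlift : ∀ p : alternatingGroup (Fin 6), ∃ b : G, b * z = z * b ∧ π b = (1, (p : Equiv.Perm (Fin 6))) :=
    fun p => by apply h.π_range <;> first | exact p.2 | simp
  let K : Subgroup (alternatingGroup (Fin 6)) :=
    { carrier := {p | ∀ b : G, b * z = z * b → π b = (1, (p : Equiv.Perm (Fin 6))) → Fix z b s}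
      one_mem' := fun b hb hπ => h.fix_Q ((h.π_ker b hb).1 hπ) hs
      mul_mem' := fun {p q} hp hq b hb hπ => by
        obtain ⟨b1, hb1, hπ1⟩ := hlift p
        obtain ⟨b2, hb2, hπ2⟩ := hlift q
        refine h.fix_congr ((show Commute b1 z from hb1).mul_left hb2).eq hb hs ?_
          (h.fix_mul hb1 (hp b1 hb1 hπ1) (hq b2 hb2 hπ2))
        rw [h.π_mul _ _ hb1 hb2, hπ1, hπ2, hπ]
        simp
      inv_mem' := fun {p} hp b hb hπ => by
        have hb' : b⁻¹ * z = z * b⁻¹ := (show Commute b z from hb).inv_left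
        have := h.fix_inv hb' (hp b⁻¹ hb' (by rw [h.π_inv_aux hb, hπ]; simp))
        rwa [inv_inv] at this }
  have hl := hlift
  choose b hb hπb using hl
  have hr : ∀ p : alternatingGroup (Fin 6),
      ∃ r : R, (r : G)⁻¹ * (b p * s * (b p)⁻¹) ∈ Subgroup.zpowers z := fun p => by
    obtain ⟨r, hrR, hr⟩ := horb (b p) (hb p) (by rw [hπb]) (by rw [hπb]; exact p.2)
    exact ⟨⟨r, hrR⟩, hr⟩
  choose r hr using hr
  have hK : K.index ≤ 5 := by
    let f : alternatingGroup (Fin 6) ⧸ K → R := fun x => r x.out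
    have hf : Function.Injective f := by
      intro x y hxy
      rw [← x.out_eq, ← y.out_eq]
      refine QuotientGroup.eq.2 ?_
      intro c hc hπc
      set p := x.out
      set q := y.out
      have hp1 := hr p
      have hq1 := hr q
      rw [show r p = r q from hxy] at hp1
      set u := b p
      set v := b q
      have hu : u⁻¹ * z = z * u⁻¹ := (show Commute u z from hb p).inv_left
      have hdiff : (u * s * u⁻¹)⁻¹ * (v * s * v⁻¹) ∈ Subgroup.zpowers z := by
        have := mul_mem (inv_mem hp1) hq1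
        rwa [mul_inv_rev, inv_inv, mul_assoc _ ((r q : G)), mul_inv_cancel_left] at this
      have hfix : Fix z (u⁻¹ * v) s := by
        unfold Fix
        have e : s⁻¹ * (u⁻¹ * v * s * (u⁻¹ * v)⁻¹)
            = u⁻¹ * ((u * s * u⁻¹)⁻¹ * (v * s * v⁻¹)) * u := by group
        rw [e, mul_assoc, ← h.comm_zp (hb p) hdiff, inv_mul_cancel_left]
        exact hdiff
      refine h.fix_congr ((show Commute u⁻¹ z from hu).mul_left (hb q)).eq hc hs ?_ hfix
      rw [h.π_mul _ _ hu (hb q), h.π_inv_aux (hb p), hπb, hπb, hπc]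
      simp
    have := Nat.card_le_card_of_injective f hf
    rw [Nat.card_eq_fintype_card (α := R), Fintype.card_coe] at this
    exact this.trans hR
  have : (⟨(π a).2, h2⟩ : alternatingGroup (Fin 6)) ∈ K := by
    rw [eq_top_of_index_le_five K hK]; trivial
  exact this a ha (Prod.ext h1 rfl)

/-- No subgroup of order 32 of `C_Q(C_Q(c))` on which an element of order fifteen is free. -/
theorem no_free_thirtytwo {c g : G} (hg : g * z = z * g) (hg15 : g ^ 15 = 1)
    {W : Subgroup G} (hW : W ≤ WQ Q c) (hzW : z ∈ W) (hcard : Nat.card W = 32)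
    (hinv : ∀ x ∈ W, g * x * g⁻¹ ∈ W)
    (hfree : ∀ x ∈ W, x ∉ Subgroup.zpowers z → ¬ Fix z (g ^ 10) x ∧ ¬ Fix z (g ^ 6) x)
    (hF : 8 ≤ Nat.card (FQ Q c)) (hWF : ∀ x ∈ W, x ∈ FQ Q c → x ∈ Subgroup.zpowers z) : False := by
  have hWQ : W ≤ Q := hW.trans inf_le_left
  have hZW : Subgroup.zpowers z ≤ W := Subgroup.zpowers_le.2 hzW
  set S : Set G := {x | x ∈ W ∧ x ∉ Subgroup.zpowers z}
  have hS : S.ncard < 4 * 15 := by
    have h1 : S.ncard ≤ (W : Set G).ncard := Set.ncard_le_ncard (fun x hx => hx.1)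
    have h2 : Nat.card W = (W : Set G).ncard := Nat.card_coe_set_eq _
    omega
  have hSg : ∀ x ∈ S, g * x * g⁻¹ ∈ S := fun x hx => ⟨hinv x hx.1, fun hm => hx.2 (by
    have e : x = g⁻¹ * (g * x * g⁻¹) * g := by group
    rw [e, mul_assoc, ← h.comm_zp hg hm, inv_mul_cancel_left]
    exact hm)⟩
  have hSz : ∀ x ∈ S, x * z ∈ S := fun x hx => ⟨W.mul_mem hx.1 hzW, fun hm => hx.2 (by
    simpa using mul_mem hm (inv_mem (Subgroup.mem_zpowers z)))⟩
  have hfr : ∀ x ∈ S, ∀ k, 0 < k → k < 15 → ¬ Fix z (g ^ k) x := by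
    intro x hx k hk0 hk15 hfix
    have hgk : g ^ k * z = z * g ^ k := ((show Commute g z from hg).pow_left k).eq
    have key : ∀ k < 15, 0 < k → ∃ t < 15, k * t % 15 = 10 ∨ k * t % 15 = 6 := by decide
    obtain ⟨t, -, ht⟩ := key k hk15 hk0
    have hf := h.fix_pow hgk hfix t
    rw [← pow_mul, pow_eq_pow_mod _ hg15] at hf
    rcases ht with e | e <;> rw [e] at hf
    · exact (hfree x hx.1 hx.2).1 hf
    · exact (hfree x hx.1 hx.2).2 hf
  obtain ⟨s, hs, hsz⟩ : ∃ s ∈ W, s ∉ Subgroup.zpowers z := by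
    by_contra hc'
    push Not at hc'
    have h1 := Subgroup.card_dvd_of_le (show W ≤ Subgroup.zpowers z from hc')
    rw [hcard, Nat.card_zpowers] at h1
    have h2 := Nat.le_of_dvd (orderOf_pos z) h1
    have h3 : orderOf z ≤ 2 := orderOf_le_of_pow_eq_one (by norm_num) (by rw [pow_two, h.zz])
    omega
  have hsq : ∀ x ∈ W, x ∉ Subgroup.zpowers z → x * x = s * s := by
    intro x hx hxz
    obtain ⟨i, -, hi⟩ :=
      h.cover hg (n := 15) (by norm_num) hg15 hSg hSz hfr hS (s := s) ⟨hs, hsz⟩ x ⟨hx, hxz⟩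
    have hgi : g ^ i * z = z * g ^ i := ((show Commute g z from hg).pow_left i).eq
    rw [h.sing.sq_eq_of_coset' (h.conj_mem hgi (hWQ hs)) hi, conj_mul,
      h.comm_zp hgi (h.sing.sq (hWQ hs)), mul_inv_cancel_right]
  obtain ⟨-, hcomm⟩ := h.comm_of_const_sq hWQ (by omega) hsq
  have hcent : W ≤ Q ⊓ Subgroup.centralizer (W : Set G) := fun x hx =>
    ⟨hWQ hx, Subgroup.mem_centralizer_iff.2 fun y hy => hcomm y hy x hx⟩
  have h32 := h.sing.card_mul W hWQ hzW
  rw [h.card, hcard] at h32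
  have heq := Subgroup.eq_of_le_of_card_ge hcent (by omega)
  have hle : FQ Q c ≤ Subgroup.zpowers z := fun x hx => by
    refine hWF x ?_ hx
    rw [heq]
    exact ⟨hx.1, Subgroup.mem_centralizer_iff.2 fun y hy =>
      (Subgroup.mem_centralizer_iff.1 (hW hy).2 x hx).symm⟩
  have h1 := Nat.le_of_dvd Nat.card_pos (Subgroup.card_dvd_of_le hle)
  rw [Nat.card_zpowers] at h1
  have h3 : orderOf z ≤ 2 := orderOf_le_of_pow_eq_one (by norm_num) (by rw [pow_two, h.zz])
  omega

set_option maxHeartbeats 1000000 in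
-- long case analysis with several interval_cases
/-- The dimension of `[V, c]` is neither four nor six. -/
theorem card_FQ_cyc {c : G} (hc : c * z = z * c) (hπc : π c = cyc) (hc3 : c ^ 3 = 1) :
    Nat.card (FQ Q c) = 2 ∨ Nat.card (FQ Q c) = 128 := by
  have hodd3 : Odd 3 := by decide
  have hodd5 : Odd 5 := by decide
  have : Fact (Nat.Prime 3) := ⟨Nat.prime_three⟩
  have : Fact (Nat.Prime 5) := ⟨by norm_num⟩
  obtain ⟨i, hi, hFi⟩ := h.card_two_pow (H := FQ Q c) inf_le_left
  obtain ⟨j, hj, hEj⟩ := h.card_two_pow (H := WQ Q c) inf_le_left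
  have hinvF : ∀ b : G, b * z = z * b → ∀ x ∈ FQ Q c, b * x * b⁻¹ ∈ FQ Q c := by
    intro b hb x hx
    rcases conj_finRotate (π b).1 with e | e
    · exact h.FQ_inv (k := 1) hc hodd3 hc3 hb
        (Prod.ext (by rw [hπc]; exact e) (by rw [hπc]; simp [cyc])) hx
    · exact h.FQ_inv (k := 2) hc hodd3 hc3 hb
        (Prod.ext (by rw [hπc]; exact e) (by rw [hπc]; simp [cyc])) hx
  have hinvE : ∀ b : G, b * z = z * b → ∀ x ∈ WQ Q c, b * x * b⁻¹ ∈ WQ Q c := fun b hb x hx =>
    h.WQ_inv hb (fun v hv => by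
      simpa using hinvF b⁻¹ (show Commute b z from hb).inv_left.eq v hv) hx
  have hij : i + j = 10 := by
    have := h.card_FQ_mul_WQ hc
    rw [hFi, hEj, ← pow_add] at this
    exact Nat.pow_right_injective (le_refl 2) (show 2 ^ (i + j) = 2 ^ 10 by rw [this])
  have hEF : Nat.card (WQ Q c ⊓ FQ Q c : Subgroup G) = 2 := by
    have e : (WQ Q c ⊓ FQ Q c : Subgroup G) = Subgroup.zpowers z := le_antisymm
      (fun x hx => h.inf_FQ_WQ hc hodd3 hc3 hx.2 hx.1)
      (Subgroup.zpowers_le.2 ⟨h.z_mem_WQ c, h.z_mem_FQ hc⟩)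
    rw [e, Nat.card_zpowers, orderOf_eq_prime (by rw [pow_two, h.zz]) h.sing.xne]
  have hmod := h.card_modEq (r := 3) hc3 (inf_le_left : WQ Q c ≤ Q) (hinvE c hc)
  rw [hEF, hEj] at hmod
  have hjodd : j = 1 ∨ j = 3 ∨ j = 5 ∨ j = 7 ∨ j = 9 := by
    unfold Nat.ModEq at hmod
    interval_cases j
    all_goals omega
  have hcne : ¬ Q ≤ FQ Q c := fun hle => by
    have := h.pi_eq_one_of_top hc hle
    rw [hπc] at this
    exact absurd this (by decide)
  have hj1 : j ≠ 1 := fun e => hcne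
    (Subgroup.eq_of_le_of_card_ge (inf_le_left : FQ Q c ≤ Q) (by
      rw [hFi, h.card, show i = 9 by omega]; norm_num)).ge
  suffices hj57 : ¬ (j = 5 ∨ j = 7) by
    have : j = 3 ∨ j = 9 := by omega
    rcases this with e | e
    · exact Or.inr (by rw [hFi, show i = 7 by omega]; norm_num)
    · exact Or.inl (by rw [hFi, show i = 1 by omega]; norm_num)
  intro hj57
  obtain ⟨f, hf, hπf, hf5⟩ := h.exists_lift (p := (1, fiveCyc)) (n := 5) (map_one _) fiveCyc_sign (by norm_num)
    (Prod.ext (one_pow 5) fiveCyc_pow)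
  obtain ⟨g, hg, hπg, hg15⟩ := h.exists_lift (p := (finRotate 3, fiveCyc)) (n := 15) (by decide) fiveCyc_sign
    (by norm_num) mixed_pow_fifteen
  have hg10 : π (g ^ 10) = π c := by rw [h.π_pow hg, hπg, hπc, mixed_pow_ten]
  have hg6 : π (g ^ 6) = π f := by rw [h.π_pow hg, hπg, hπf, mixed_pow_six]
  have hgp : ∀ k : ℕ, g ^ k * z = z * g ^ k := fun k => ((show Commute g z from hg).pow_left k).eq
  have hfne : ¬ Q ≤ FQ Q f := fun hle => by
    have := h.pi_eq_one_of_top hf hle
    rw [hπf] at this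
    exact fiveCyc_ne (congrArg Prod.snd this)
  -- a subgroup of order 32 with trivial fixed cosets
  have hno : ∀ W : Subgroup G, W ≤ WQ Q c → z ∈ W → Nat.card W = 32 →
      (∀ x ∈ W, g * x * g⁻¹ ∈ W) → (∀ x ∈ W, x ∈ FQ Q f → x ∈ Subgroup.zpowers z) → False := by
    intro W hW hzW hW32 hWg hWf
    refine h.no_free_thirtytwo hg hg15 hW hzW hW32 hWg (fun x hx hxz => ⟨fun hfix => hxz ?_,
      fun hfix => hxz ?_⟩) ?_ (fun x hx hx' => h.inf_FQ_WQ hc hodd3 hc3 hx' (hW hx))
    · have hxQ : x ∈ Q := (hW hx).1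
      exact h.inf_FQ_WQ hc hodd3 hc3
        (h.mem_FQ_of_fix hc hodd3 hc3 hxQ (h.fix_congr (hgp 10) hc hxQ hg10 hfix)) (hW hx)
    · have hxQ : x ∈ Q := (hW hx).1
      exact hWf x hx (h.mem_FQ_of_fix hf hodd5 hf5 hxQ (h.fix_congr (hgp 6) hf hxQ hg6 hfix))
    · rw [hFi]
      exact le_trans (by norm_num : 8 ≤ 2 ^ 3) (Nat.pow_le_pow_right (by norm_num) (by omega))
  obtain ⟨k, hk, hFk⟩ := h.card_two_pow (H := FQ Q f) inf_le_left
  have hk9 : k ≠ 9 := fun e => hfne (Subgroup.eq_of_le_of_card_ge (inf_le_left : FQ Q f ≤ Q)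
    (by rw [hFk, h.card, e]; norm_num)).ge
  rcases hj57 with e | e
  · -- dimension four
    obtain ⟨l, hl, hEfl⟩ := h.card_two_pow (H := (WQ Q c ⊓ FQ Q f : Subgroup G))
      (inf_le_left.trans inf_le_left)
    have hm := h.card_modEq (r := 5) hf5 (inf_le_left : WQ Q c ≤ Q) (hinvE f hf)
    rw [hEj, e, hEfl] at hm
    have hl15 : l = 1 ∨ l = 5 := by
      have hl5 : l ≤ 5 := by
        have := Subgroup.card_dvd_of_le (inf_le_left : (WQ Q c ⊓ FQ Q f : Subgroup G) ≤ WQ Q c)
        rw [hEfl, hEj, e] at this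
        exact Nat.pow_dvd_pow_iff_le_right'.1 this
      unfold Nat.ModEq at hm
      interval_cases l
      all_goals omega
    rcases hl15 with hl1 | hl5
    · refine hno (WQ Q c) le_rfl (h.z_mem_WQ c) (by rw [hEj, e]; norm_num) (hinvE g hg) ?_
      intro x hx hxf
      have e2 : Subgroup.zpowers z = (WQ Q c ⊓ FQ Q f : Subgroup G) := Subgroup.eq_of_le_of_card_ge
        (Subgroup.zpowers_le.2 ⟨h.z_mem_WQ c, h.z_mem_FQ hf⟩)
        (by rw [hEfl, hl1, Nat.card_zpowers, orderOf_eq_prime (by rw [pow_two, h.zz]) h.sing.xne]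
            norm_num)
      rw [e2]; exact ⟨hx, hxf⟩
    · have hEle : WQ Q c ≤ FQ Q f := by
        have := Subgroup.eq_of_le_of_card_ge (inf_le_left : (WQ Q c ⊓ FQ Q f : Subgroup G) ≤ WQ Q c)
          (by rw [hEfl, hEj, e, hl5])
        rw [← this]; exact inf_le_right
      have hF32 : Nat.card (FQ Q c) = 32 := by rw [hFi, show i = 5 by omega]; norm_num
      obtain ⟨l', hl', hFfl⟩ := h.card_two_pow (H := (FQ Q c ⊓ FQ Q f : Subgroup G))
        (inf_le_left.trans inf_le_left)
      have hm' := h.card_modEq (r := 5) hf5 (inf_le_left : FQ Q c ≤ Q) (hinvF f hf)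
      rw [hF32, hFfl] at hm'
      have hl'1 : l' = 1 := by
        have hl5 : l' ≤ 5 := by
          have := Subgroup.card_dvd_of_le (inf_le_left : (FQ Q c ⊓ FQ Q f : Subgroup G) ≤ FQ Q c)
          rw [hFfl, hF32, show (32 : ℕ) = 2 ^ 5 by norm_num] at this
          exact Nat.pow_dvd_pow_iff_le_right'.1 this
        have hne : l' ≠ 5 := fun e5 => hfne ((h.le_FQ_sup_WQ hc hodd3 hc3).trans (sup_le (by
          have := Subgroup.eq_of_le_of_card_ge (inf_le_left : (FQ Q c ⊓ FQ Q f : Subgroup G) ≤ FQ Q c)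
            (by rw [hFfl, e5, hF32]; norm_num)
          rw [← this]; exact inf_le_right) hEle))
        unfold Nat.ModEq at hm'
        interval_cases l'
        all_goals omega
      have hfree : ∀ x ∈ FQ Q c, x ∈ FQ Q f → x ∈ Subgroup.zpowers z := fun x hx hxf => by
        have e2 : Subgroup.zpowers z = (FQ Q c ⊓ FQ Q f : Subgroup G) := Subgroup.eq_of_le_of_card_ge
          (Subgroup.zpowers_le.2 ⟨h.z_mem_FQ hc, h.z_mem_FQ hf⟩)
          (by rw [hFfl, hl'1, Nat.card_zpowers, orderOf_eq_prime (by rw [pow_two, h.zz]) h.sing.xne]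
              norm_num)
        rw [e2]; exact ⟨hx, hxf⟩
      -- the cosets with a given square
      let S : G → Set G := fun v => {x | x ∈ FQ Q c ∧ x ∉ Subgroup.zpowers z ∧ x * x = v}
      have hsum : (S 1).ncard + (S z).ncard ≤ 32 := by
        have hd : Disjoint (S 1) (S z) := Set.disjoint_left.2 fun x hx hx' =>
          h.sing.xne (hx'.2.2.symm.trans hx.2.2)
        rw [← Set.ncard_union_eq hd, ← hF32]
        exact (Set.ncard_le_ncard (Set.union_subset (fun x hx => hx.1) fun x hx => hx.1)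
          ).trans (Nat.card_coe_set_eq _).ge
      have hcovS : ∀ v, (S v).ncard < 20 → ∀ s ∈ S v, False := by
        intro v hv s hs
        have hstab : ∀ b : G, b * z = z * b → ∀ x ∈ S v, b * x * b⁻¹ ∈ S v := by
          intro b hb x hx
          refine ⟨hinvF b hb x hx.1, fun hm => hx.2.1 ?_, ?_⟩
          · have e' : x = b⁻¹ * (b * x * b⁻¹) * b := by group
            rw [e', mul_assoc, ← h.comm_zp hb hm, inv_mul_cancel_left]
            exact hm
          · rw [conj_mul, h.comm_zp hb (h.sing.sq hx.1.1), mul_inv_cancel_right, hx.2.2]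
        have hSz : ∀ x ∈ S v, x * z ∈ S v := fun x hx => by
          refine ⟨mul_mem hx.1 (h.z_mem_FQ hc), fun hm => hx.2.1 (by
            simpa using mul_mem hm (inv_mem (Subgroup.mem_zpowers z))), ?_⟩
          rw [h.sing.sq_eq_of_coset' hx.1.1 (by simp), hx.2.2]
        have hfr : ∀ x ∈ S v, ∀ k, 0 < k → k < 5 → ¬ Fix z (f ^ k) x := by
          intro x hx k hk0 hk5 hfix
          have hfk : f ^ k * z = z * f ^ k := ((show Commute f z from hf).pow_left k).eq
          have key : ∀ k < 5, 0 < k → ∃ t < 5, k * t % 5 = 1 := by decide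
          obtain ⟨t, -, ht⟩ := key k hk5 hk0
          have hf1 := h.fix_pow hfk hfix t
          rw [← pow_mul, pow_eq_pow_mod _ hf5, ht, pow_one] at hf1
          exact hx.2.1 (hfree x hx.1 (h.mem_FQ_of_fix hf hodd5 hf5 hx.1.1 hf1))
        have hcov := h.cover hf (n := 5) (by norm_num) hf5 (hstab f hf) hSz hfr hv hs
        classical
        let R : Finset G := (Finset.range 5).image fun i => f ^ i * s * (f ^ i)⁻¹
        have hfix := h.fix_of_orbit hs.1.1 R (Finset.card_image_le.trans (by simp))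
          (fun b hb _ _ => by
            obtain ⟨i, hi, hiz⟩ := hcov _ (hstab b hb s hs)
            exact ⟨_, Finset.mem_image.2 ⟨i, Finset.mem_range.2 hi, rfl⟩, hiz⟩)
          hf (by rw [hπf]) (by rw [hπf]; exact fiveCyc_sign)
        exact hs.2.1 (hfree s hs.1 (h.mem_FQ_of_fix hf hodd5 hf5 hs.1.1 hfix))
      obtain ⟨v, hv⟩ : ∃ v, ∀ x ∈ FQ Q c, x ∉ Subgroup.zpowers z → x * x = v := by
        by_cases h20 : (S 1).ncard < 20
        · refine ⟨z, fun x hx hxz => (h.pair (h.sing.sq hx.1)).resolve_left fun e1 => ?_⟩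
          exact hcovS 1 h20 x ⟨hx, hxz, e1⟩
        · refine ⟨1, fun x hx hxz => (h.pair (h.sing.sq hx.1)).resolve_right fun e1 => ?_⟩
          exact hcovS z (by omega) x ⟨hx, hxz, e1⟩
      obtain ⟨-, hcomm⟩ := h.comm_of_const_sq (inf_le_left : FQ Q c ≤ Q) (by rw [hF32]; norm_num) hv
      have hle : FQ Q c ≤ Subgroup.zpowers z := fun x hx => h.inf_FQ_WQ hc hodd3 hc3 hx
        ⟨hx.1, Subgroup.mem_centralizer_iff.2 fun y hy => hcomm y hy x hx⟩
      have h1 := Nat.le_of_dvd Nat.card_pos (Subgroup.card_dvd_of_le hle)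
      rw [hF32, Nat.card_zpowers, orderOf_eq_prime (by rw [pow_two, h.zz]) h.sing.xne] at h1
      omega
  · -- dimension six
    have hF8 : Nat.card (FQ Q c) = 8 := by rw [hFi, show i = 3 by omega]; norm_num
    obtain ⟨l, hl, hFfl⟩ := h.card_two_pow (H := (FQ Q c ⊓ FQ Q f : Subgroup G))
      (inf_le_left.trans inf_le_left)
    have hm := h.card_modEq (r := 5) hf5 (inf_le_left : FQ Q c ≤ Q) (hinvF f hf)
    rw [hF8, hFfl] at hm
    have hl3 : l = 3 := by
      have hl3 : l ≤ 3 := by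
        have := Subgroup.card_dvd_of_le (inf_le_left : (FQ Q c ⊓ FQ Q f : Subgroup G) ≤ FQ Q c)
        rw [hFfl, hF8, show (8 : ℕ) = 2 ^ 3 by norm_num] at this
        exact Nat.pow_dvd_pow_iff_le_right'.1 this
      unfold Nat.ModEq at hm
      interval_cases l
      all_goals omega
    have hFle : FQ Q c ≤ FQ Q f := by
      have := Subgroup.eq_of_le_of_card_ge (inf_le_left : (FQ Q c ⊓ FQ Q f : Subgroup G) ≤ FQ Q c)
        (by rw [hFfl, hF8, hl3]; norm_num)
      rw [← this]; exact inf_le_right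
    have hk5 : k = 5 := by
      have hk3 : 3 ≤ k := by
        have := Subgroup.card_dvd_of_le hFle
        rw [hFk, hF8, show (8 : ℕ) = 2 ^ 3 by norm_num] at this
        exact Nat.pow_dvd_pow_iff_le_right'.1 this
      have hm2 := h.card_modEq (r := 5) hf5 (le_refl Q) (fun x hx => h.conj_mem hf hx)
      rw [show (Q ⊓ FQ Q f : Subgroup G) = FQ Q f from inf_eq_right.2 inf_le_left, h.card, hFk] at hm2
      unfold Nat.ModEq at hm2
      interval_cases k
      all_goals omega
    have hW32 : Nat.card (WQ Q f) = 32 := by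
      have := h.card_FQ_mul_WQ hf
      rw [hFk, hk5] at this
      omega
    refine hno (WQ Q f) (fun x hx => ⟨hx.1, Subgroup.mem_centralizer_iff.2 fun y hy =>
      Subgroup.mem_centralizer_iff.1 hx.2 y (hFle hy)⟩) (h.z_mem_WQ f) hW32 (fun x hx => ?_)
      (fun x hx hxf => h.inf_FQ_WQ hf hodd5 hf5 hxf hx)
    refine h.WQ_inv hg (fun v hv => ?_) hx
    have hg' : g⁻¹ * z = z * g⁻¹ := (show Commute g z from hg).inv_left
    have := h.FQ_inv (k := 1) hf hodd5 hf5 hg' (by
      rw [h.π_inv_aux hg, hπg, hπf, inv_inv, pow_one]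
      exact Prod.ext (by simp) (by simp)) hv
    simpa using this

/-- **The dichotomy**. -/
theorem dichotomy : Fpf z Q π ∨ ∃ E, Split z Q π E := by
  obtain ⟨c, hc, hπc, hc3⟩ := h.exists_lift (p := cyc) (n := 3) (by decide) (by simp [cyc]) (by norm_num)
    cyc_pow_three
  have hodd3 : Odd 3 := by decide
  have hz2 : Nat.card (Subgroup.zpowers z) = 2 := by
    rw [Nat.card_zpowers, orderOf_eq_prime (by rw [pow_two, h.zz]) h.sing.xne]
  rcases h.card_FQ_cyc hc hπc hc3 with h2 | h128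
  · left
    intro a ha hπa q hq hfix
    have hq' := h.mem_FQ_of_fix hc hodd3 hc3 hq (h.fix_congr ha hc hq (hπa.trans hπc.symm) hfix)
    rwa [Subgroup.eq_of_le_of_card_ge (Subgroup.zpowers_le.2 (h.z_mem_FQ hc)) (by rw [h2, hz2])]
  right
  have hE8 : Nat.card (WQ Q c) = 8 := by
    have := h.card_FQ_mul_WQ hc
    rw [h128] at this
    omega
  have hdouble : (Q ⊓ Subgroup.centralizer (WQ Q c : Set G) : Subgroup G) = FQ Q c :=
    h.sing.double (FQ Q c) inf_le_left (h.z_mem_FQ hc)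
  have hinvF : ∀ b : G, b * z = z * b → ∀ x ∈ FQ Q c, b * x * b⁻¹ ∈ FQ Q c := by
    intro b hb x hx
    rcases conj_finRotate (π b).1 with e | e
    · exact h.FQ_inv (k := 1) hc hodd3 hc3 hb
        (Prod.ext (by rw [hπc]; exact e) (by rw [hπc]; simp [cyc])) hx
    · exact h.FQ_inv (k := 2) hc hodd3 hc3 hb
        (Prod.ext (by rw [hπc]; exact e) (by rw [hπc]; simp [cyc])) hx
  have hinvE : ∀ b : G, b * z = z * b → ∀ x ∈ WQ Q c, b * x * b⁻¹ ∈ WQ Q c := fun b hb x hx =>
    h.WQ_inv hb (fun v hv => by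
      simpa using hinvF b⁻¹ (show Commute b z from hb).inv_left.eq v hv) hx
  set S : Set G := {x | x ∈ WQ Q c ∧ x ∉ Subgroup.zpowers z}
  have hSn : S.ncard < 4 * 3 := by
    have h1 : S.ncard ≤ (WQ Q c : Set G).ncard := Set.ncard_le_ncard (fun x hx => hx.1)
    have h2' : Nat.card (WQ Q c) = (WQ Q c : Set G).ncard := Nat.card_coe_set_eq _
    omega
  have hSb : ∀ b : G, b * z = z * b → ∀ x ∈ S, b * x * b⁻¹ ∈ S := fun b hb x hx =>
    ⟨hinvE b hb x hx.1, fun hm => hx.2 (by
      have e' : x = b⁻¹ * (b * x * b⁻¹) * b := by group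
      rw [e', mul_assoc, ← h.comm_zp hb hm, inv_mul_cancel_left]
      exact hm)⟩
  have hSz : ∀ x ∈ S, x * z ∈ S := fun x hx => ⟨mul_mem hx.1 (h.z_mem_WQ c), fun hm => hx.2 (by
    simpa using mul_mem hm (inv_mem (Subgroup.mem_zpowers z)))⟩
  have hck : ∀ k : ℕ, c ^ k * z = z * c ^ k := fun k => ((show Commute c z from hc).pow_left k).eq
  have hfr : ∀ x ∈ S, ∀ k, 0 < k → k < 3 → ¬ Fix z (c ^ k) x := by
    intro x hx k hk0 hk3 hfix
    have key : ∀ k < 3, 0 < k → k * k % 3 = 1 := by decide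
    have hf1 := h.fix_pow (hck k) hfix k
    rw [← pow_mul, pow_eq_pow_mod _ hc3, key k hk3 hk0, pow_one] at hf1
    exact hx.2 (h.inf_FQ_WQ hc hodd3 hc3 (h.mem_FQ_of_fix hc hodd3 hc3 hx.1.1 hf1) hx.1)
  have hcov : ∀ s ∈ S, ∀ x ∈ S, ∃ i < 3, (c ^ i * s * (c ^ i)⁻¹)⁻¹ * x ∈ Subgroup.zpowers z :=
    fun s hs => h.cover hc (n := 3) (by norm_num) hc3 (hSb c hc) hSz hfr hSn hs
  have hsq : ∀ e ∈ WQ Q c, e ≠ 1 → e ≠ z → e * e = z := by
    intro e he he1 hez
    refine (h.pair (h.sing.sq he.1)).resolve_left fun e1 => ?_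
    have heS : e ∈ S := ⟨he, fun hm => (h.pair hm).elim he1 hez⟩
    have hall : ∀ x ∈ WQ Q c, x * x = 1 := by
      intro x hx
      by_cases hxz : x ∈ Subgroup.zpowers z
      · rcases h.pair hxz with e2 | e2 <;> rw [e2]
        · simp
        · exact h.zz
      · obtain ⟨i, -, hi⟩ := hcov e heS x ⟨hx, hxz⟩
        rw [h.sing.sq_eq_of_coset' (h.conj_mem (hck i) he.1) hi, conj_mul, e1]
        simp
    have hle : WQ Q c ≤ Subgroup.zpowers z := fun x hx => by
      refine h.inf_FQ_WQ hc hodd3 hc3 ?_ hx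
      rw [← hdouble]
      refine ⟨hx.1, Subgroup.mem_centralizer_iff.2 fun y hy => ?_⟩
      calc y * x = (y * x)⁻¹ := eq_inv_of_mul_eq_one_left (hall _ (mul_mem hy hx))
        _ = x * y := by
          rw [mul_inv_rev, inv_eq_of_mul_eq_one_right (hall x hx),
            inv_eq_of_mul_eq_one_right (hall y hy)]
    exact heS.2 (hle he)
  refine ⟨WQ Q c,
    { toBase := h
      le := inf_le_left
      mem := h.z_mem_WQ c
      cardE := hE8
      norm := hinvE
      sqE := hsq
      card0 := by rw [hdouble, h128]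
      split := fun x hx => ?_
      cyc_fix := fun a ha hπa y hy => ?_
      cyc_move := fun a ha hπa e he hm => ?_
      fst_fix := fun a ha h1 e he => ?_
      fst_move := fun a ha hsg => ?_ }⟩
  · rw [hdouble]
    have hx' := h.le_FQ_sup_WQ hc hodd3 hc3 hx
    rw [sup_comm] at hx'
    have hnorm : WQ Q c ≤ Subgroup.normalizer (FQ Q c : Set G) := fun e he => by
      have hc' : ∀ v ∈ FQ Q c, e * v * e⁻¹ = v := fun v hv => by
        rw [← Subgroup.mem_centralizer_iff.1 he.2 v hv, mul_inv_cancel_right]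
      rw [Subgroup.mem_normalizer_iff]
      refine fun v => ⟨fun hv => (hc' v hv).symm ▸ hv, fun hv => ?_⟩
      have e1 : e * v * e⁻¹ = v := by
        have h1 := hc' _ hv
        exact mul_left_cancel (mul_right_cancel h1)
      rwa [e1] at hv
    have hset := Subgroup.coe_mul_of_left_le_normalizer_right (WQ Q c) (FQ Q c) hnorm
    have hx2 : x ∈ ((WQ Q c : Set G) * (FQ Q c : Set G)) := by rw [← hset]; exact hx'
    obtain ⟨e, he, y, hy, rfl⟩ := hx2
    exact ⟨e, he, y, hy, rfl⟩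
  · rw [hdouble] at hy
    exact h.fix_congr hc ha hy.1 (hπc.trans hπa.symm) (h.fix_of_mem_FQ hy)
  · exact h.inf_FQ_WQ hc hodd3 hc3
      (h.mem_FQ_of_fix hc hodd3 hc3 he.1 (h.fix_congr ha hc he.1 (hπa.trans hπc.symm) hm)) he
  · show Fix z a e
    by_cases hez : e ∈ Subgroup.zpowers z
    · unfold Fix
      rw [h.comm_zp ha hez, mul_inv_cancel_right, inv_mul_cancel]
      exact one_mem _
    have heS : e ∈ S := ⟨he, hez⟩
    classical
    let R : Finset G := (Finset.range 3).image fun i => c ^ i * e * (c ^ i)⁻¹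
    have heven : ∀ b : G, b * z = z * b → (π b).1 = 1 → Equiv.Perm.sign (π b).2 = 1 → Fix z b e :=
      fun b hb hb1 hb2 => h.fix_of_orbit he.1 R (Finset.card_image_le.trans (by simp))
        (fun b' hb' _ _ => by
          obtain ⟨i, hi, hiz⟩ := hcov e heS _ (hSb b' hb' e heS)
          exact ⟨_, Finset.mem_image.2 ⟨i, Finset.mem_range.2 hi, rfl⟩, hiz⟩) hb hb1 hb2
    obtain ⟨i, hi, hiz⟩ := hcov e heS _ (hSb a ha e heS)
    have hci := hck i
    have hci' : (c ^ i)⁻¹ * z = z * (c ^ i)⁻¹ := (show Commute (c ^ i) z from hci).inv_left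
    set b := (c ^ i)⁻¹ * a with hb
    have hbz : b * z = z * b := ((show Commute (c ^ i)⁻¹ z from hci').mul_left ha).eq
    have hfb : Fix z b e := by
      unfold Fix
      have e' : e⁻¹ * (b * e * b⁻¹)
          = (c ^ i)⁻¹ * ((c ^ i * e * (c ^ i)⁻¹)⁻¹ * (a * e * a⁻¹)) * c ^ i := by
        rw [hb]; group
      rw [e', mul_assoc, ← h.comm_zp hci hiz, inv_mul_cancel_left]
      exact hiz
    have hi0 : i = 0 := by
      by_contra hne
      have haa : a * a * z = z * (a * a) := ((show Commute a z from ha).mul_left ha).eq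
      have h2a : Fix z (a * a) e := heven _ haa (by rw [h.π_mul _ _ ha ha]; simp [h1])
        (by rw [h.π_mul _ _ ha ha, Prod.snd_mul, map_mul, Int.units_mul_self])
      have hd : Fix z ((b * b) * (a * a)⁻¹) e :=
        h.fix_mul ((show Commute b z from hbz).mul_left hbz).eq (h.fix_mul hbz hfb hfb)
          (h.fix_inv haa h2a)
      have hlt : (3 - i) * 2 % 3 < 3 := Nat.mod_lt _ (by norm_num)
      have hpos : 0 < (3 - i) * 2 % 3 := by omega
      refine hfr e heS _ hpos hlt (h.fix_congr ?_ (hck _) he.1 ?_ hd)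
      · exact (((show Commute b z from hbz).mul_left hbz).mul_left
          (show Commute (a * a) z from haa).inv_left).eq
      · rw [h.π_mul _ _ ((show Commute b z from hbz).mul_left hbz).eq
            (show Commute (a * a) z from haa).inv_left.eq, h.π_mul _ _ hbz hbz, h.π_inv_aux haa,
          h.π_mul _ _ ha ha, hb, h.π_mul _ _ hci' ha, h.π_inv_aux hci, h.π_pow hc, h.π_pow hc, hπc]
        have hpow : ((cyc ^ i)⁻¹ : P36) = cyc ^ (3 - i) := by
          refine inv_eq_of_mul_eq_one_right ?_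
          rw [← pow_add, Nat.add_sub_cancel' (by omega), cyc_pow_three]
        have hcm : Commute (π a) ((cyc ^ i)⁻¹ : P36) := by
          refine (Commute.pow_right ?_ i).inv_right
          exact Prod.ext (by simp [cyc, h1]) (by simp [cyc])
        rw [← pow_eq_pow_mod _ cyc_pow_three, pow_mul, ← hpow, pow_two]
        calc (cyc ^ i)⁻¹ * π a * ((cyc ^ i)⁻¹ * π a) * (π a * π a)⁻¹
            = (cyc ^ i)⁻¹ * (π a * (cyc ^ i)⁻¹) * (π a)⁻¹ := by group
          _ = (cyc ^ i)⁻¹ * (cyc ^ i)⁻¹ := by rw [hcm.eq]; group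
    rw [hb, hi0, pow_zero, inv_one, one_mul] at hfb
    exact hfb
  · by_contra hcon
    push Not at hcon
    obtain ⟨e, he, hez⟩ : ∃ e ∈ WQ Q c, e ∉ Subgroup.zpowers z := by
      by_contra hc'
      push Not at hc'
      have h1 := Nat.le_of_dvd Nat.card_pos
        (Subgroup.card_dvd_of_le (show WQ Q c ≤ Subgroup.zpowers z from hc'))
      omega
    have heS : e ∈ S := ⟨he, hez⟩
    have ha' : a⁻¹ * z = z * a⁻¹ := (show Commute a z from ha).inv_left
    set b := c⁻¹ * (a⁻¹ * c * a) with hb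
    have hcc : c⁻¹ * z = z * c⁻¹ := (show Commute c z from hc).inv_left
    have hac : (a⁻¹ * c * a) * z = z * (a⁻¹ * c * a) :=
      (((show Commute a⁻¹ z from ha').mul_left hc).mul_left ha).eq
    have hπb : π b = π c := by
      rw [hb, h.π_mul _ _ hcc hac, h.π_inv_aux hc, h.π_conj_aux hc ha, hπc]
      exact Prod.ext (odd_conj_finRotate _ hsg) (by simp [cyc])
    have hfix : Fix z b e := by
      have hmove : ∀ x ∈ WQ Q c, Fix z a x := fun x hx => hcon x hx
      unfold Fix
      set y := c * (a * e * a⁻¹) * c⁻¹ with hy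
      set w := e⁻¹ * (a * e * a⁻¹) with hw
      have hwm : w ∈ Subgroup.zpowers z := hmove e he
      have hyE : y ∈ WQ Q c := hinvE c hc _ (hinvE a ha _ he)
      have hw2 : y⁻¹ * (a⁻¹ * y * a⁻¹⁻¹) ∈ Subgroup.zpowers z := h.fix_inv ha (hmove y hyE)
      set w2 := y⁻¹ * (a⁻¹ * y * a⁻¹⁻¹) with hw2d
      have e' : e⁻¹ * (b * e * b⁻¹) = w * (c⁻¹ * w2 * c) := by
        rw [hw2d, hy, hw, hb]; group
      rw [e', mul_assoc c⁻¹, ← h.comm_zp hc hw2, inv_mul_cancel_left]
      exact mul_mem hwm hw2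
    have hfc : Fix z c e := h.fix_congr
      ((show Commute c⁻¹ z from hcc).mul_left hac).eq hc he.1 hπb hfix
    exact hfr e heS 1 (by norm_num) (by norm_num) (by rwa [pow_one])

end Base

end Cfsg.Agent.H70.CHZ
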