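import Cfsg.Agent.H70.CHZ.Model

/-! Finite facts on the `2 ⊗ 4` model: `wAct`, `wB`, `vAct`, `vq`, `vB`. -/

set_option autoImplicit false

namespace Cfsg.Agent.H70.CHZ

open Equiv

/-! ### The four-space -/

theorem zmod_two_add_self (a : ZMod 2) : a + a = 0 := by revert a; decide

theorem wRed_wLift (w : W4) : wRed (wLift w) = w := by revert w; decide

theorem wLift_sum (w : W4) : ∑ i, wLift w i = 0 := by revert w; decide

theorem wLift_add (a b : W4) (i : Fin 6) : wLift (a + b) i = wLift a i + wLift b i := by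
  revert a b i; decide +kernel

theorem wRed_add (x y : Fin 6 → ZMod 2) : wRed (fun i => x i + y i) = wRed x + wRed y := by
  simp only [wRed, Prod.mk_add_mk, Prod.mk.injEq]
  refine ⟨?_, ?_, ?_, ?_⟩ <;> abel

theorem wRed_add_const (x : Fin 6 → ZMod 2) (c : ZMod 2) :
    wRed (fun i => x i + c) = wRed x := by
  rw [wRed_add x fun _ => c]
  have : wRed (fun _ => c) = 0 := by revert c; decide
  rw [this, add_zero]

theorem wLift_wRed (x : Fin 6 → ZMod 2) (hx : ∑ i, x i = 0) (i : Fin 6) :
    wLift (wRed x) i = x i + x 5 := by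
  have key : ∀ a b c d e f : ZMod 2, a + b + c + d + e + f = 0 →
      ∀ j, wLift (wRed ![a, b, c, d, e, f]) j = ![a, b, c, d, e, f] j + f := by decide +kernel
  have hsix : x = ![x 0, x 1, x 2, x 3, x 4, x 5] := by ext j; fin_cases j <;> rfl
  rw [Fin.sum_univ_six] at hx
  have := key _ _ _ _ _ _ hx i
  rwa [← hsix] at this

theorem wAct_one (w : W4) : wAct 1 w = w := by
  simp [wAct, wRed_wLift]

theorem wAct_mul (g h : Perm (Fin 6)) (w : W4) : wAct (g * h) w = wAct g (wAct h w) := by
  unfold wAct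
  have hs : ∑ i, wLift w (h⁻¹ i) = 0 := (Equiv.sum_comp h⁻¹ (wLift w)).trans (wLift_sum w)
  rw [show (fun i => wLift (wRed fun j => wLift w (h⁻¹ j)) (g⁻¹ i))
      = fun i => wLift w ((g * h)⁻¹ i) + wLift w (h⁻¹ 5) from
    funext fun i => wLift_wRed _ hs _, wRed_add_const]

theorem wAct_add (g : Perm (Fin 6)) (a b : W4) : wAct g (a + b) = wAct g a + wAct g b := by
  unfold wAct
  rw [← wRed_add]
  exact congrArg wRed (funext fun i => wLift_add a b _)

theorem wAct_zero (g : Perm (Fin 6)) : wAct g 0 = 0 := by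
  have h := wAct_add g 0 0
  rw [add_zero] at h
  exact left_eq_add.mp h

theorem wAct_smul (g : Perm (Fin 6)) (c : ZMod 2) (w : W4) : wAct g (c • w) = c • wAct g w := by
  fin_cases c
  · show wAct g ((0 : ZMod 2) • w) = (0 : ZMod 2) • wAct g w
    rw [zero_smul, zero_smul, wAct_zero]
  · show wAct g ((1 : ZMod 2) • w) = (1 : ZMod 2) • wAct g w
    rw [one_smul, one_smul]

theorem wAct_bijective (g : Perm (Fin 6)) : Function.Bijective (wAct g) :=
  Function.bijective_iff_has_inverse.mpr ⟨wAct g⁻¹,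
    fun w => by rw [← wAct_mul, inv_mul_cancel, wAct_one],
    fun w => by rw [← wAct_mul, mul_inv_cancel, wAct_one]⟩

theorem wB_eq_sum (a b : W4) : wB a b = ∑ i, wLift a i * wLift b i := by
  revert a b; decide +kernel

theorem wB_wAct (g : Perm (Fin 6)) (a b : W4) : wB (wAct g a) (wAct g b) = wB a b := by
  rw [wB_eq_sum, wB_eq_sum]
  unfold wAct
  set x : Fin 6 → ZMod 2 := fun i => wLift a (g⁻¹ i) with hx
  set y : Fin 6 → ZMod 2 := fun i => wLift b (g⁻¹ i) with hy
  have sx : ∑ i, x i = 0 := (Equiv.sum_comp g⁻¹ (wLift a)).trans (wLift_sum a)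
  have sy : ∑ i, y i = 0 := (Equiv.sum_comp g⁻¹ (wLift b)).trans (wLift_sum b)
  calc ∑ i, wLift (wRed x) i * wLift (wRed y) i
      = ∑ i, (x i * y i + (x i * y 5 + (x 5 * y i + x 5 * y 5))) := by
        refine Finset.sum_congr rfl fun i _ => ?_
        rw [wLift_wRed x sx, wLift_wRed y sy]; ring
    _ = ∑ i, x i * y i := by
        rw [Finset.sum_add_distrib, Finset.sum_add_distrib, Finset.sum_add_distrib,
          ← Finset.sum_mul, ← Finset.mul_sum, sx, sy, Finset.sum_const, Finset.card_univ,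
          Fintype.card_fin, nsmul_eq_mul, show ((6 : ℕ) : ZMod 2) = 0 from by decide]
        simp
    _ = ∑ i, wLift a i * wLift b i :=
        Equiv.sum_comp g⁻¹ fun i => wLift a i * wLift b i

theorem wB_self (a : W4) : wB a a = 0 := by revert a; decide

theorem wB_comm (a b : W4) : wB a b = wB b a := by revert a b; decide +kernel

theorem wB_add_left (a b c : W4) : wB (a + b) c = wB a c + wB b c := by
  simp only [wB, Prod.fst_add, Prod.snd_add]; ring

theorem wB_add_right (a b c : W4) : wB a (b + c) = wB a b + wB a c := by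
  simp only [wB, Prod.fst_add, Prod.snd_add]; ring

theorem wB_smul_left (r : ZMod 2) (a b : W4) : wB (r • a) b = r * wB a b := by
  simp only [wB, Prod.smul_fst, Prod.smul_snd, smul_eq_mul]; ring

theorem wB_smul_right (r : ZMod 2) (a b : W4) : wB a (r • b) = r * wB a b := by
  simp only [wB, Prod.smul_fst, Prod.smul_snd, smul_eq_mul]; ring

theorem wB_nondeg (a : W4) (h : ∀ b, wB a b = 0) : a = 0 := by revert a; decide

/-- decidable equality of quadruples of vectors (too deep for the default search) -/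
instance decEqQuad : DecidableEq (W4 × W4 × W4 × W4) :=
  @instDecidableEqProd W4 (W4 × W4 × W4) inferInstance
    (@instDecidableEqProd W4 (W4 × W4) inferInstance
      (@instDecidableEqProd W4 W4 inferInstance inferInstance))

/-- the images of `g` on the basis -/
def wImg (g : Perm (Fin 6)) : W4 × W4 × W4 × W4 :=
  (wAct g (1, 0, 0, 0), wAct g (0, 1, 0, 0), wAct g (0, 0, 1, 0), wAct g (0, 0, 0, 1))

theorem wImg_injective : Function.Injective wImg := by
  intro g h e
  have hd : ∀ k : Perm (Fin 6), wImg k = wImg 1 → k = 1 := by decide +kernel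
  have key : wImg (h⁻¹ * g) = wImg 1 := by
    simp only [wImg, Prod.mk.injEq] at e ⊢
    refine ⟨?_, ?_, ?_, ?_⟩
    all_goals
      rw [wAct_mul, wAct_one]
      first
        | rw [e.1, ← wAct_mul, inv_mul_cancel, wAct_one]
        | rw [e.2.1, ← wAct_mul, inv_mul_cancel, wAct_one]
        | rw [e.2.2.1, ← wAct_mul, inv_mul_cancel, wAct_one]
        | rw [e.2.2.2, ← wAct_mul, inv_mul_cancel, wAct_one]
  exact (inv_mul_eq_one.mp (hd _ key)).symm

theorem wAct_eq_one_iff (g : Perm (Fin 6)) : (∀ w, wAct g w = w) ↔ g = 1 := by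
  refine ⟨fun h => wImg_injective ?_, fun h => h ▸ wAct_one⟩
  simp only [wImg, h, wAct_one]

theorem wAct_injective : Function.Injective wAct := fun g h e =>
  wImg_injective (by simp only [wImg, e])

/-- all sixteen vectors -/
def wAll : List W4 :=
  [0, 1].flatMap fun a => [0, 1].flatMap fun b => [0, 1].flatMap fun c =>
    [0, 1].map fun d => ((a, b, c, d) : W4)

theorem mem_wAll (w : W4) : w ∈ wAll := by revert w; decide

/-- the quadruples with the Gram matrix of the basis -/
def wFrames : List (W4 × W4 × W4 × W4) :=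
  wAll.flatMap fun a => (wAll.filter fun b => wB a b = 1).flatMap fun b =>
    (wAll.filter fun c => wB a c = 0 ∧ wB b c = 1).flatMap fun c =>
      (wAll.filter fun d => wB a d = 0 ∧ wB b d = 0 ∧ wB c d = 1).map fun d => (a, b, c, d)

theorem length_wFrames : wFrames.length = 720 := by decide +kernel

theorem mem_wFrames {f : W4 → W4} (hf : ∀ a b, wB (f a) (f b) = wB a b) :
    (f (1, 0, 0, 0), f (0, 1, 0, 0), f (0, 0, 1, 0), f (0, 0, 0, 1)) ∈ wFrames := by
  refine List.mem_flatMap.mpr ⟨_, mem_wAll _, List.mem_flatMap.mpr ⟨f (0, 1, 0, 0),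
    List.mem_filter.mpr ⟨mem_wAll _, ?_⟩, List.mem_flatMap.mpr ⟨f (0, 0, 1, 0),
    List.mem_filter.mpr ⟨mem_wAll _, ?_⟩, List.mem_map.mpr ⟨f (0, 0, 0, 1),
    List.mem_filter.mpr ⟨mem_wAll _, ?_⟩, rfl⟩⟩⟩⟩
  all_goals simp only [hf, decide_eq_true_eq]
  all_goals decide

/-- Every additive map preserving `wB` comes from a permutation. -/
theorem exists_wAct_of_isometry (f : W4 → W4) (hadd : ∀ a b, f (a + b) = f a + f b)
    (hf : ∀ a b, wB (f a) (f b) = wB a b) : ∃ g : Perm (Fin 6), ∀ w, f w = wAct g w := by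
  have hsub : Finset.univ.image wImg ⊆ wFrames.toFinset := by
    intro x hx
    obtain ⟨g, -, rfl⟩ := Finset.mem_image.mp hx
    exact List.mem_toFinset.mpr (mem_wFrames (wB_wAct g))
  have heq : Finset.univ.image wImg = wFrames.toFinset := by
    refine Finset.eq_of_subset_of_card_le hsub ?_
    rw [Finset.card_image_of_injective _ wImg_injective, Finset.card_univ, Fintype.card_perm,
      Fintype.card_fin]
    exact (List.toFinset_card_le _).trans (by rw [length_wFrames]; rfl)
  have hm := List.mem_toFinset.mpr (mem_wFrames hf)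
  rw [← heq, Finset.mem_image] at hm
  obtain ⟨g, -, hg⟩ := hm
  simp only [wImg, Prod.mk.injEq] at hg
  refine ⟨g, fun w => ?_⟩
  let d : W4 →+ W4 := AddMonoidHom.mk' (fun w => f w + wAct g w) fun a b => by
    simp only [hadd, wAct_add]; abel
  have h2 : ∀ w : W4, w + w = 0 := by decide
  have hsplit : w = w.1 • ((1, 0, 0, 0) : W4) + w.2.1 • ((0, 1, 0, 0) : W4)
      + w.2.2.1 • ((0, 0, 1, 0) : W4) + w.2.2.2 • ((0, 0, 0, 1) : W4) := by
    revert w; decide
  have hz : ∀ (r : ZMod 2) (v : W4), d v = 0 → d (r • v) = 0 := by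
    intro r v hv
    have : r = 0 ∨ r = 1 := by revert r; decide
    rcases this with rfl | rfl
    · rw [zero_smul, map_zero]
    · rw [one_smul, hv]
  have hd : d w = 0 := by
    rw [hsplit, map_add, map_add, map_add, hz _ _ ?_, hz _ _ ?_, hz _ _ ?_, hz _ _ ?_] <;>
      simp only [d, AddMonoidHom.mk'_apply, add_zero, ← hg.1, ← hg.2.1, ← hg.2.2.1, ← hg.2.2.2, h2]
  have hd' : f w + wAct g w = 0 := hd
  calc f w = f w + (wAct g w + wAct g w) := by rw [h2, add_zero]
    _ = f w + wAct g w + wAct g w := by rw [add_assoc]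
    _ = wAct g w := by rw [hd', zero_add]

/-- `S₆` has no element of order fifteen. -/
theorem pow_fifteen_perm_six : ∀ g : Perm (Fin 6), g ^ 15 = 1 → g ^ 3 = 1 ∨ g ^ 5 = 1 := by
  decide +kernel

theorem orderOf_perm_six_ne_fifteen (g : Perm (Fin 6)) : orderOf g ≠ 15 := by
  intro h
  rcases pow_fifteen_perm_six g (h ▸ pow_orderOf_eq_one g) with e | e <;>
  · have := Nat.le_of_dvd (by norm_num) (orderOf_dvd_of_pow_eq_one e)
    omega

/-- No quadratic form polarising `wB` is invariant under `A₆`. -/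
theorem no_invariant_quad (q : W4 → ZMod 2) (hq : ∀ a b, q (a + b) = q a + q b + wB a b)
    (hinv : ∀ g : Perm (Fin 6), Perm.sign g = 1 → ∀ a, q (wAct g a) = q a) : False := by
  have move : ∀ (g : Perm (Fin 6)) (a b : W4), Perm.sign g = 1 → wAct g a = b → q b = q a :=
    fun g a b hs h => h ▸ hinv g hs a
  have e2 : q (0, 1, 0, 0) = q (1, 0, 0, 0) :=
    move (swap 0 1 * swap 1 2) _ _ (by decide +kernel) (by decide +kernel)
  have e3 : q (0, 0, 1, 0) = q (1, 0, 0, 0) :=
    move (swap 0 2 * swap 1 3) _ _ (by decide +kernel) (by decide +kernel)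
  have e4 : q (1, 1, 0, 0) = q (1, 0, 0, 0) :=
    move (swap 1 2 * swap 3 4) _ _ (by decide +kernel) (by decide +kernel)
  have e5 : q (1, 0, 1, 0) = q (1, 0, 0, 0) :=
    move (swap 0 4 * swap 1 5) _ _ (by decide +kernel) (by decide +kernel)
  have h1 := hq (1, 0, 0, 0) (0, 0, 1, 0)
  have h2 := hq (1, 0, 0, 0) (0, 1, 0, 0)
  rw [show ((1, 0, 0, 0) : W4) + (0, 0, 1, 0) = (1, 0, 1, 0) by decide, e5, e3,
    show wB (1, 0, 0, 0) (0, 0, 1, 0) = 0 by decide] at h1
  rw [show ((1, 0, 0, 0) : W4) + (0, 1, 0, 0) = (1, 1, 0, 0) by decide, e4, e2,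
    show wB (1, 0, 0, 0) (0, 1, 0, 0) = 1 by decide, zmod_two_add_self] at h2
  rw [h2] at h1
  exact absurd h1 (by decide)

/-- The only additive functional invariant under `A₆` is zero. -/
theorem invariant_linear_eq_zero (f : W4 → ZMod 2) (hadd : ∀ a b, f (a + b) = f a + f b)
    (hinv : ∀ g : Perm (Fin 6), Perm.sign g = 1 → ∀ a, f (wAct g a) = f a) (w : W4) : f w = 0 := by
  have h0 : f 0 = 0 := by simpa using hadd 0 0
  have move : ∀ (g : Perm (Fin 6)) (a b : W4), Perm.sign g = 1 → wAct g a = b → f b = f a :=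
    fun g a b hs h => h ▸ hinv g hs a
  have e2 : f (0, 1, 0, 0) = f (1, 0, 0, 0) :=
    move (swap 0 1 * swap 1 2) _ _ (by decide +kernel) (by decide +kernel)
  have e3 : f (0, 0, 1, 0) = f (1, 0, 0, 0) :=
    move (swap 0 2 * swap 1 3) _ _ (by decide +kernel) (by decide +kernel)
  have e4 : f (0, 0, 0, 1) = f (1, 0, 0, 0) :=
    move (swap 0 3 * swap 1 4) _ _ (by decide +kernel) (by decide +kernel)
  have e5 : f (1, 0, 1, 0) = f (1, 0, 0, 0) :=
    move (swap 0 4 * swap 1 5) _ _ (by decide +kernel) (by decide +kernel)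
  have ha : f (1, 0, 0, 0) = 0 := by
    have h := hadd (1, 0, 0, 0) (0, 0, 1, 0)
    rw [show ((1, 0, 0, 0) : W4) + (0, 0, 1, 0) = (1, 0, 1, 0) by decide, e5, e3,
      zmod_two_add_self] at h
    exact h
  have hz : ∀ (r : ZMod 2) (v : W4), f v = 0 → f (r • v) = 0 := by
    intro r v hv
    have : r = 0 ∨ r = 1 := by revert r; decide
    rcases this with rfl | rfl
    · rw [zero_smul, h0]
    · rw [one_smul, hv]
  rw [show w = w.1 • ((1, 0, 0, 0) : W4) + w.2.1 • ((0, 1, 0, 0) : W4)
      + w.2.2.1 • ((0, 0, 1, 0) : W4) + w.2.2.2 • ((0, 0, 0, 1) : W4) by revert w; decide,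
    hadd, hadd, hadd, hz _ _ ha, hz _ _ (e2.trans ha), hz _ _ (e3.trans ha), hz _ _ (e4.trans ha)]
  decide

/-! ### The eight-space -/

theorem ptVec_mul : ∀ (s : Perm (Fin 3)) (i : Fin 3),
    ptVec (s i) = (ptVec i).1 • ptVec (s 0) + (ptVec i).2 • ptVec (s 1) := by decide

theorem ptVec_det : ∀ s : Perm (Fin 3),
    (ptVec (s 0)).1 * (ptVec (s 1)).2 + (ptVec (s 1)).1 * (ptVec (s 0)).2 = 1 := by decide

theorem vAct_one (x : V8) : vAct 1 x = x := by
  obtain ⟨u, v⟩ := x
  simp [vAct, ptVec, wAct_one]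

theorem vAct_mul (p r : P36) (x : V8) : vAct (p * r) x = vAct p (vAct r x) := by
  obtain ⟨u, v⟩ := x
  simp only [vAct, Prod.fst_mul, Prod.snd_mul, Perm.mul_apply, wAct_mul, wAct_add, wAct_smul,
    Prod.mk.injEq]
  rw [ptVec_mul p.1 (r.1 0), ptVec_mul p.1 (r.1 1)]
  simp only [Prod.fst_add, Prod.snd_add, Prod.smul_fst, Prod.smul_snd, smul_eq_mul]
  constructor <;> module

theorem vAct_add (p : P36) (x y : V8) : vAct p (x + y) = vAct p x + vAct p y := by
  simp only [vAct, Prod.fst_add, Prod.snd_add, wAct_add, Prod.mk_add_mk, Prod.mk.injEq]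
  constructor <;> module

theorem vAct_zero (p : P36) : vAct p 0 = 0 := by
  have h := vAct_add p 0 0
  rw [add_zero] at h
  exact left_eq_add.mp h

theorem vAct_smul (p : P36) (c : ZMod 2) (x : V8) : vAct p (c • x) = c • vAct p x := by
  simp only [vAct, Prod.smul_fst, Prod.smul_snd, wAct_smul, Prod.smul_mk, Prod.mk.injEq]
  constructor <;> module

theorem vAct_bijective (p : P36) : Function.Bijective (vAct p) :=
  Function.bijective_iff_has_inverse.mpr ⟨vAct p⁻¹,
    fun x => by rw [← vAct_mul, inv_mul_cancel, vAct_one],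
    fun x => by rw [← vAct_mul, mul_inv_cancel, vAct_one]⟩

theorem vq_vAct (p : P36) (x : V8) : vq (vAct p x) = vq x := by
  obtain ⟨u, v⟩ := x
  simp only [vq, vAct, wB_add_left, wB_add_right, wB_smul_left, wB_smul_right, wB_wAct, wB_self,
    wB_comm v u]
  calc _ = ((ptVec (p.1 0)).1 * (ptVec (p.1 1)).2 + (ptVec (p.1 1)).1 * (ptVec (p.1 0)).2)
      * wB u v := by ring
    _ = wB u v := by rw [ptVec_det, one_mul]

theorem vq_add (x y : V8) : vq (x + y) = vq x + vq y + vB x y := by
  simp only [vq, vB, Prod.fst_add, Prod.snd_add, wB_add_left, wB_add_right]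
  rw [wB_comm y.1 x.2]; ring

theorem vB_vAct (p : P36) (x y : V8) : vB (vAct p x) (vAct p y) = vB x y := by
  have h := vq_add (vAct p x) (vAct p y)
  rw [← vAct_add, vq_vAct, vq_vAct, vq_vAct, vq_add] at h
  exact add_left_cancel h.symm

theorem vB_comm (x y : V8) : vB x y = vB y x := by
  simp only [vB]; rw [wB_comm x.1 y.2, wB_comm x.2 y.1, add_comm]

theorem vB_self (x : V8) : vB x x = 0 := by
  simp only [vB]; rw [wB_comm x.2 x.1, zmod_two_add_self]

theorem vB_add_left (x y z : V8) : vB (x + y) z = vB x z + vB y z := by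
  simp only [vB, Prod.fst_add, Prod.snd_add, wB_add_left]; ring

theorem vB_add_right (x y z : V8) : vB x (y + z) = vB x y + vB x z := by
  simp only [vB, Prod.fst_add, Prod.snd_add, wB_add_right]; ring

theorem vB_nondeg (x : V8) (h : ∀ y, vB x y = 0) : x = 0 := by
  refine Prod.ext (wB_nondeg _ fun b => ?_) (wB_nondeg _ fun b => ?_)
  · have := h (0, b); simpa [vB, wB] using this
  · have := h (b, 0); simpa [vB, wB] using this

theorem vAct_cyc (x : V8) : vAct cyc x = (x.2, x.1 + x.2) := by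
  have h0 : ptVec ((cyc.1) 0) = (0, 1) := by decide
  have h1 : ptVec ((cyc.1) 1) = (1, 1) := by decide
  simp [vAct, h0, h1, show cyc.2 = 1 from rfl, wAct_one]

theorem vAct_sig (x : V8) : vAct sig x = (x.1 + x.2, x.2) := by
  have h0 : ptVec ((sig.1) 0) = (1, 0) := by decide
  have h1 : ptVec ((sig.1) 1) = (1, 1) := by decide
  simp [vAct, h0, h1, show sig.2 = 1 from rfl, wAct_one]

theorem vAct_snd (g : Perm (Fin 6)) (x : V8) :
    vAct (1, g) x = (wAct g x.1, wAct g x.2) := by
  simp [vAct, ptVec]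

theorem vAct_eq_one_iff (p : P36) : (∀ x, vAct p x = x) ↔ p = 1 := by
  refine ⟨fun h => ?_, fun h => h ▸ vAct_one⟩
  obtain ⟨s, g⟩ := p
  have hu := h ((1, 0, 0, 0), 0)
  have hv := h (0, (1, 0, 0, 0))
  simp only [vAct, wAct_zero, smul_zero, add_zero, zero_add, Prod.mk.injEq] at hu hv
  have hne : wAct g (1, 0, 0, 0) ≠ 0 := fun e => by
    have := (wAct_bijective g).1 (e.trans (wAct_zero g).symm)
    exact absurd this (by decide)
  have hs0 : ptVec (s 0) = (1, 0) := by
    have a1 : (ptVec (s 0)).1 = 1 := by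
      rcases (show ∀ r : ZMod 2, r = 0 ∨ r = 1 by decide) (ptVec (s 0)).1 with e | e
      · rw [e, zero_smul] at hu; exact absurd hu.1 (by decide)
      · exact e
    have a2 : (ptVec (s 0)).2 = 0 := by
      rcases (show ∀ r : ZMod 2, r = 0 ∨ r = 1 by decide) (ptVec (s 0)).2 with e | e
      · exact e
      · rw [e, one_smul] at hu; exact absurd hu.2 hne
    exact Prod.ext a1 a2
  have hs1 : ptVec (s 1) = (0, 1) := by
    have a1 : (ptVec (s 1)).1 = 0 := by
      rcases (show ∀ r : ZMod 2, r = 0 ∨ r = 1 by decide) (ptVec (s 1)).1 with e | e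
      · exact e
      · rw [e, one_smul] at hv; exact absurd hv.1 hne
    have a2 : (ptVec (s 1)).2 = 1 := by
      rcases (show ∀ r : ZMod 2, r = 0 ∨ r = 1 by decide) (ptVec (s 1)).2 with e | e
      · rw [e, zero_smul] at hv; exact absurd hv.2 (by decide)
      · exact e
    exact Prod.ext a1 a2
  have hs : s = 1 :=
    (by decide : ∀ s : Perm (Fin 3), ptVec (s 0) = (1, 0) → ptVec (s 1) = (0, 1) → s = 1) s hs0 hs1
  subst hs
  have hg : g = 1 := (wAct_eq_one_iff g).mp fun w => by
    have := congrArg Prod.fst (h (w, 0))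
    rwa [vAct_snd] at this
  rw [hg]; rfl

theorem vAct_injective : Function.Injective vAct := fun p r e => by
  refine inv_mul_eq_one.mp ((vAct_eq_one_iff _).mp fun x => ?_) |>.symm
  rw [vAct_mul, e, ← vAct_mul, inv_mul_cancel, vAct_one]

end Cfsg.Agent.H70.CHZ
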