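import Cfsg.Agent.H70.CHZ.ModelFacts

/-! Orbits and `2`-subgroups in the `2 ⊗ 4` model. -/

set_option autoImplicit false

namespace Cfsg.Agent.H70.CHZ

open Equiv

-- bounded quantifiers over lists are decided over the list
attribute [local instance 2000] List.decidableBAll List.decidableBEx

/-- products of two transpositions -/
def evenList : List (Perm (Fin 6)) :=
  let sw : List (Perm (Fin 6)) := [swap 0 1, swap 0 2, swap 0 3, swap 0 4, swap 0 5, swap 1 2,
    swap 1 3, swap 1 4, swap 1 5, swap 2 3, swap 2 4, swap 2 5, swap 3 4, swap 3 5, swap 4 5]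
  sw.flatMap fun a => sw.map fun b => a * b

theorem sign_evenList : ∀ g ∈ evenList, Perm.sign g = 1 := by decide +kernel

theorem evenList_orbit : ∀ w : W4, w ≠ 0 →
    ∃ g ∈ evenList, wAct g w = (1, 0, 0, 0) := by decide +kernel

theorem evenList_pair : ∀ w : W4, wB (1, 0, 0, 0) w = 0 → w ≠ 0 → w ≠ (1, 0, 0, 0) →
    ∃ g ∈ evenList, wAct g (1, 0, 0, 0) = (1, 0, 0, 0) ∧ wAct g w = (0, 0, 1, 0) := by
  decide +kernel

/-- `A₆` is transitive on the nonzero vectors. -/
theorem wAct_transitive {v w : W4} (hv : v ≠ 0) (hw : w ≠ 0) :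
    ∃ g : Perm (Fin 6), Perm.sign g = 1 ∧ wAct g v = w := by
  obtain ⟨a, ha, hav⟩ := evenList_orbit v hv
  obtain ⟨b, hb, hbw⟩ := evenList_orbit w hw
  refine ⟨b⁻¹ * a, by rw [map_mul, map_inv, sign_evenList a ha, sign_evenList b hb]; rfl, ?_⟩
  rw [wAct_mul, hav, ← hbw, ← wAct_mul, inv_mul_cancel, wAct_one]

/-- A set of vectors invariant under `A₆` with a nonzero member contains every nonzero vector. -/
theorem wAct_invariant_set {S : Set W4} (hinv : ∀ g : Perm (Fin 6), Perm.sign g = 1 →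
    ∀ w ∈ S, wAct g w ∈ S) {v : W4} (hv : v ∈ S) (hv0 : v ≠ 0) {w : W4} (hw : w ≠ 0) : w ∈ S := by
  obtain ⟨g, hg, rfl⟩ := wAct_transitive hv0 hw
  exact hinv g hg v hv

/-- The two orbits on nonzero singular vectors. -/
theorem singular_normal_form (v : V8) (hv : v ≠ 0) (hq : vq v = 0) :
    ∃ p : P36, Perm.sign p.2 = 1 ∧
      (vAct p v = ((1, 0, 0, 0), 0) ∨ vAct p v = ((1, 0, 0, 0), (0, 0, 1, 0))) := by
  obtain ⟨u, w⟩ := v
  have one : ∀ (s : Perm (Fin 3)) (a : W4), a ≠ 0 → vAct (s, 1) (u, w) = (a, 0) →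
      ∃ p : P36, Perm.sign p.2 = 1 ∧
        (vAct p (u, w) = ((1, 0, 0, 0), 0) ∨ vAct p (u, w) = ((1, 0, 0, 0), (0, 0, 1, 0))) := by
    intro s a ha he
    obtain ⟨g, hg, hga⟩ := evenList_orbit a ha
    refine ⟨(1, g) * (s, 1), by simpa using sign_evenList g hg, Or.inl ?_⟩
    rw [vAct_mul, he, vAct_snd, hga, wAct_zero]
  by_cases hw : w = 0
  · subst hw
    exact one 1 u (fun e => hv (by rw [e]; rfl)) (vAct_one _)
  by_cases hu : u = 0
  · subst hu
    refine one (swap 0 1) w hw ?_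
    simp [vAct, ptVec, wAct_one]
  by_cases huw : u = w
  · subst huw
    refine one (swap 0 2) u hu ?_
    have h2 : ∀ a : W4, a + a = 0 := by decide
    have e0 : ptVec 2 = (1, 1) := by decide
    have e1 : ptVec (swap (0 : Fin 3) 2 1) = (0, 1) := by decide
    simp [vAct, e0, e1, wAct_one, h2]
  obtain ⟨a, ha, hau⟩ := evenList_orbit u hu
  have h2 : wAct a w ≠ (1, 0, 0, 0) := fun e =>
    huw ((wAct_bijective a).1 (hau.trans e.symm))
  obtain ⟨b, hb, hb1, hbw⟩ := evenList_pair (wAct a w)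
    (by rw [← hau, wB_wAct]; exact hq)
    (fun e => hw ((wAct_bijective a).1 (e.trans (wAct_zero a).symm))) h2
  refine ⟨(1, b * a), by rw [map_mul, sign_evenList a ha, sign_evenList b hb, mul_one], Or.inr ?_⟩
  rw [vAct_snd, wAct_mul, wAct_mul, hau, hb1, hbw]

/-! ### `2`-subgroups -/

theorem card_centralizer_four_cycle :
    (Finset.univ.filter fun g : Perm (Fin 6) =>
      g * (swap 0 1 * swap 1 2 * swap 2 3) = swap 0 1 * swap 1 2 * swap 2 3 * g).card = 8 := by
  decide +kernel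

/-- A subgroup of order sixteen of `S₆` contains a conjugate of a four-cycle. -/
theorem exists_four_cycle_mem {K : Subgroup (Perm (Fin 6))} (hK : Nat.card K = 16) :
    ∃ g, g * (swap 0 1 * swap 1 2 * swap 2 3) * g⁻¹ ∈ K := by
  haveI := Fact.mk Nat.prime_two
  set c : Perm (Fin 6) := swap 0 1 * swap 1 2 * swap 2 3 with hc
  have hc4 : c ^ (2 ^ 2) = 1 := by rw [hc]; decide +kernel
  have hp : IsPGroup 2 (Subgroup.zpowers c) := by
    rintro ⟨x, i, rfl⟩
    refine ⟨2, Subtype.ext ?_⟩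
    show (c ^ i) ^ (2 ^ 2) = 1
    rw [← zpow_natCast, ← zpow_mul, mul_comm, zpow_mul, zpow_natCast, hc4, one_zpow]
  obtain ⟨Q, hQ⟩ := hp.exists_le_sylow
  have hsy : IsPGroup 2 K := IsPGroup.of_card (n := 4) (by rw [hK]; rfl)
  obtain ⟨R, hR⟩ := hsy.exists_le_sylow
  have hRK : K = (R : Subgroup (Perm (Fin 6))) := by
    refine Subgroup.eq_of_le_of_card_ge hR ?_
    rw [hK]
    obtain ⟨n, hn⟩ := R.2.exists_card_eq
    have hd := Subgroup.card_subgroup_dvd_card (R : Subgroup (Perm (Fin 6)))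
    rw [hn, Nat.card_perm, Nat.card_fin, show Nat.factorial 6 = 720 from rfl] at hd
    rw [hn]
    by_contra hlt
    have h5 : 5 ≤ n := by
      by_contra h
      exact hlt ((Nat.pow_le_pow_right two_pos (show n ≤ 4 by omega)).trans (le_of_eq (by rfl)))
    have := (pow_dvd_pow 2 h5).trans hd
    norm_num at this
  obtain ⟨g, hg⟩ := MulAction.exists_smul_eq (Perm (Fin 6)) Q R
  refine ⟨g, ?_⟩
  rw [hRK, ← hg, Sylow.coe_subgroup_smul]
  exact ⟨c, hQ (Subgroup.mem_zpowers c), rfl⟩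

/-- `S₆` has no commutative subgroup of order sixteen. -/
theorem not_comm_sixteen {K : Subgroup (Perm (Fin 6))} (hK : Nat.card K = 16) :
    ¬ ∀ a ∈ K, ∀ b ∈ K, a * b = b * a := by
  intro hab
  obtain ⟨g, hg⟩ := exists_four_cycle_mem hK
  set c : Perm (Fin 6) := swap 0 1 * swap 1 2 * swap 2 3 with hc
  set F : Finset (Perm (Fin 6)) := Finset.univ.filter fun x : Perm (Fin 6) => x * c = c * x
  have hinj : Function.Injective fun k : K =>
      (⟨g⁻¹ * (k : Perm (Fin 6)) * g, Finset.mem_filter.mpr ⟨Finset.mem_univ _, by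
        have h := hab k k.2 _ hg
        calc g⁻¹ * (k : Perm (Fin 6)) * g * c
            = g⁻¹ * ((k : Perm (Fin 6)) * (g * c * g⁻¹)) * g := by group
          _ = c * (g⁻¹ * (k : Perm (Fin 6)) * g) := by rw [h]; group⟩⟩ : F) := by
    intro a b e
    exact Subtype.ext (mul_left_cancel (mul_right_cancel (congrArg Subtype.val e)))
  have := Nat.card_le_card_of_injective _ hinj
  rw [hK, Nat.card_eq_finsetCard, card_centralizer_four_cycle] at this
  omega

/-- Elementary abelian `2`-subgroups of `S₆` have order at most eight. -/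
theorem elem_card_le_eight {K : Subgroup (Perm (Fin 6))} (hK : ∀ k ∈ K, k * k = 1) :
    Nat.card K ≤ 8 := by
  haveI := Fact.mk Nat.prime_two
  have hp : IsPGroup 2 K := fun k => ⟨1, Subtype.ext (by
    rw [pow_one, sq]; exact hK k k.2)⟩
  obtain ⟨n, hn⟩ := hp.exists_card_eq
  have hd := Subgroup.card_subgroup_dvd_card K
  rw [hn, Nat.card_perm, Nat.card_fin, show Nat.factorial 6 = 720 from rfl] at hd
  rw [hn]
  by_contra hlt
  have h4 : n = 4 := by
    have h4 : 4 ≤ n := by
      by_contra h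
      exact hlt ((Nat.pow_le_pow_right two_pos (show n ≤ 3 by omega)).trans (le_of_eq (by rfl)))
    by_contra hne
    have := (pow_dvd_pow 2 (show 5 ≤ n by omega)).trans hd
    norm_num at this
  obtain ⟨g, hg⟩ := exists_four_cycle_mem (K := K) (by rw [hn, h4]; rfl)
  have h := hK _ hg
  rw [show g * (swap 0 1 * swap 1 2 * swap 2 3) * g⁻¹ * (g * (swap 0 1 * swap 1 2 * swap 2 3) * g⁻¹)
      = g * (swap 0 1 * swap 1 2 * swap 2 3 * (swap 0 1 * swap 1 2 * swap 2 3)) * g⁻¹ by group,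
    mul_inv_eq_one, mul_eq_left] at h
  revert h
  decide +kernel

/-- A `2`-subgroup of `S₃` has order at most two. -/
theorem two_subgroup_perm_three {K : Subgroup (Perm (Fin 3))} (hK : IsPGroup 2 K) :
    Nat.card K ≤ 2 := by
  haveI := Fact.mk Nat.prime_two
  obtain ⟨n, hn⟩ := hK.exists_card_eq
  have hd := Subgroup.card_subgroup_dvd_card K
  rw [hn, Nat.card_perm, Nat.card_fin, show Nat.factorial 3 = 6 from rfl] at hd
  rw [hn]
  by_contra hlt
  have h2 : 2 ≤ n := by
    by_contra h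
    exact hlt ((Nat.pow_le_pow_right two_pos (show n ≤ 1 by omega)).trans (le_of_eq (by rfl)))
  have := (pow_dvd_pow 2 h2).trans hd
  norm_num at this

/-- The two projections of a `2`-subgroup of `S₃ × S₆`. -/
theorem card_le_two_mul_snd {K : Subgroup P36} (hK : IsPGroup 2 K) :
    Nat.card K ≤ 2 * Nat.card (K.map (MonoidHom.snd (Perm (Fin 3)) (Perm (Fin 6)))) := by
  set f := MonoidHom.snd (Perm (Fin 3)) (Perm (Fin 6))
  set N := K ⊓ f.ker
  have hle : N ≤ K := inf_le_left
  have hN : Nat.card N ≤ 2 := by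
    have hinj : Function.Injective fun k : N => (k : P36).1 := by
      rintro ⟨⟨a, b⟩, -, hb⟩ ⟨⟨a', b'⟩, -, hb'⟩ (e : a = a')
      have hb1 : b = 1 := hb
      have hb2 : b' = 1 := hb'
      subst hb1 hb2 e
      rfl
    have := two_subgroup_perm_three (K := N.map (MonoidHom.fst _ _))
      ((hK.to_le hle).map _)
    refine le_trans (le_of_eq ?_) this
    refine Nat.card_congr (Equiv.ofBijective
      (fun k : N => (⟨(k : P36).1, _, k.2, rfl⟩ : N.map (MonoidHom.fst _ _))) ⟨?_, ?_⟩)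
    · exact fun a b e => hinj (congrArg Subtype.val e)
    · rintro ⟨_, k, hk, rfl⟩
      exact ⟨⟨k, hk⟩, rfl⟩
  have hmul := (f.comp K.subtype).ker.card_mul_index
  rw [Subgroup.index_ker, MonoidHom.range_comp, Subgroup.range_subtype] at hmul
  have hker : Nat.card (f.comp K.subtype).ker = Nat.card N := by
    refine Nat.card_congr (Equiv.ofBijective
      (fun k : (f.comp K.subtype).ker => (⟨(k : K), (k : K).2, k.2⟩ : N)) ⟨?_, ?_⟩)
    · exact fun a b e => Subtype.ext (Subtype.ext (congrArg (fun x : N => (x : P36)) e))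
    · rintro ⟨k, hk, hk'⟩
      exact ⟨⟨⟨k, hk⟩, hk'⟩, rfl⟩
  rw [← hmul, hker]
  exact Nat.mul_le_mul_right _ hN

/-- `S₃ × S₆` has no commutative `2`-subgroup of order 32. -/
theorem not_comm_thirty_two {K : Subgroup P36} (hK : Nat.card K = 32) :
    ¬ ∀ a ∈ K, ∀ b ∈ K, a * b = b * a := by
  haveI := Fact.mk Nat.prime_two
  intro hab
  have hp : IsPGroup 2 K := IsPGroup.of_card (n := 5) (by rw [hK]; rfl)
  have h := card_le_two_mul_snd hp
  set L := K.map (MonoidHom.snd (Perm (Fin 3)) (Perm (Fin 6)))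
  obtain ⟨n, hn⟩ := (hp.map (MonoidHom.snd (Perm (Fin 3)) (Perm (Fin 6)))).exists_card_eq
  have hd := Subgroup.card_subgroup_dvd_card L
  rw [hn, Nat.card_perm, Nat.card_fin, show Nat.factorial 6 = 720 from rfl] at hd
  have h4 : n = 4 := by
    rw [hK, hn] at h
    have h4 : 4 ≤ n := (Nat.pow_le_pow_iff_right (by norm_num : 1 < 2)).mp
      (show 2 ^ 4 ≤ 2 ^ n by omega)
    by_contra hne
    have := (pow_dvd_pow 2 (show 5 ≤ n by omega)).trans hd
    norm_num at this
  refine not_comm_sixteen (K := L) (by rw [hn, h4]; rfl) ?_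
  rintro _ ⟨a, ha, rfl⟩ _ ⟨b, hb, rfl⟩
  rw [← map_mul, hab a ha b hb, map_mul]

/-- Elementary abelian subgroups of `S₃ × S₆` have order at most 16. -/
theorem elem_card_le_sixteen {K : Subgroup P36} (hK : ∀ k ∈ K, k * k = 1) :
    Nat.card K ≤ 16 := by
  have hp : IsPGroup 2 K := fun k => ⟨1, Subtype.ext (by rw [pow_one, sq]; exact hK k k.2)⟩
  have h := card_le_two_mul_snd hp
  have := elem_card_le_eight (K := K.map (MonoidHom.snd _ _)) (by
    rintro _ ⟨a, ha, rfl⟩
    rw [← map_mul, hK a ha, map_one])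
  omega

/-- An elementary abelian subgroup of order 16 meets the first factor. -/
theorem exists_fst_of_elem_sixteen {K : Subgroup P36} (hK : ∀ k ∈ K, k * k = 1)
    (hcard : Nat.card K = 16) : ∃ s : Perm (Fin 3), s ≠ 1 ∧ s * s = 1 ∧ (s, (1 : Perm (Fin 6))) ∈ K := by
  by_contra hne
  have hinj : Function.Injective
      fun k : K => (⟨(k : P36).2, (k : P36), k.2, rfl⟩ : K.map (MonoidHom.snd _ _)) := by
    intro a b e
    have e2 : (a : P36).2 = (b : P36).2 := congrArg Subtype.val e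
    have hm : (((a : P36) * (b : P36)⁻¹).1, (1 : Perm (Fin 6))) ∈ K := by
      have := mul_mem a.2 (inv_mem b.2)
      convert this using 1
      exact Prod.ext rfl (by simp [e2])
    have h1 : ((a : P36) * (b : P36)⁻¹).1 = 1 := by
      by_contra h1
      exact hne ⟨_, h1, congrArg Prod.fst (hK _ hm), hm⟩
    exact Subtype.ext (Prod.ext (mul_inv_eq_one.mp h1) e2)
  have h := Nat.card_le_card_of_injective _ hinj
  have := elem_card_le_eight (K := K.map (MonoidHom.snd _ _)) (by
    rintro _ ⟨a, ha, rfl⟩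
    rw [← map_mul, hK a ha, map_one])
  omega

end Cfsg.Agent.H70.CHZ
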