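import Cfsg.Agent.H70.CHZ.Model

/-! Finite facts on the model used for a conjugate point outside `Q`. -/

set_option autoImplicit false
set_option synthInstance.maxSize 4000
set_option synthInstance.maxHeartbeats 200000

namespace Cfsg.Agent.H70.CHZ.Out

open Equiv

/-- A transposition of six points. -/
def tau6 : Perm (Fin 6) := swap 0 1

/-- A double transposition of six points. -/
def dt6 : Perm (Fin 6) := swap 0 1 * swap 2 3

/-- A triple transposition of six points. -/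
def trp6 : Perm (Fin 6) := swap 0 1 * swap 2 3 * swap 4 5

/-- Representative `(1, dt)`. -/
def pDt : P36 := (1, dt6)

/-- Representative `(1, trp)`. -/
def pTrp : P36 := (1, trp6)

/-- Representative `(1, tau)`. -/
def pTau : P36 := (1, tau6)

/-- Representative `(sig, tau)`. -/
def pSTau : P36 := (swap 1 2, tau6)

/-- Representative `(sig, trp)`. -/
def pSTrp : P36 := (swap 1 2, trp6)

/-- Representative `(sig, dt)`. -/
def pSDt : P36 := (swap 1 2, dt6)

/-- The elements of `A₃ × A₆`. -/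
def Ev (q : P36) : Prop := Perm.sign q.1 = 1 ∧ Perm.sign q.2 = 1

/-! ### Linearity -/

theorem wLift_add (a b : W4) (i : Fin 6) : wLift (a + b) i = wLift a i + wLift b i := by
  fin_cases i <;> simp [wLift] <;> ring

theorem wAct_add (g : Perm (Fin 6)) (a b : W4) : wAct g (a + b) = wAct g a + wAct g b := by
  simp only [wAct, wRed, wLift_add, Prod.mk_add_mk, Prod.mk.injEq]
  refine ⟨?_, ?_, ?_, ?_⟩ <;> ring

theorem vAct_add (p : P36) (x y : V8) : vAct p (x + y) = vAct p x + vAct p y := by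
  simp only [vAct, Prod.fst_add, Prod.snd_add, wAct_add, smul_add, Prod.mk_add_mk, Prod.mk.injEq]
  constructor <;> abel

theorem vAct_zero (p : P36) : vAct p 0 = 0 := by
  have h := vAct_add p 0 0
  rw [add_zero] at h
  exact (left_eq_add.mp h)

theorem v8_add_self (x : V8) : x + x = 0 := by
  have h : ∀ a : ZMod 2, a + a = 0 := by decide
  simp [Prod.ext_iff, h]

theorem vB_comm (x y : V8) : vB x y = vB y x := by
  simp only [vB, wB]; ring

theorem vB_add_right (x y y' : V8) : vB x (y + y') = vB x y + vB x y' := by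
  simp only [vB, wB, Prod.fst_add, Prod.snd_add]; ring

theorem vq_add (x y : V8) : vq (x + y) = vq x + vq y + vB x y := by
  simp only [vq, vB, wB, Prod.fst_add, Prod.snd_add]; ring

/-! ### Classes of involutions -/

theorem inv_types : ∀ x : Perm (Fin 6), x * x = 1 →
    x = 1 ∨ x.cycleType = tau6.cycleType ∨ x.cycleType = dt6.cycleType ∨
      x.cycleType = trp6.cycleType := by decide +kernel

theorem inv_three : ∀ s : Perm (Fin 3), s * s = 1 →
    s = 1 ∨ ∃ e, Perm.sign e = 1 ∧ e * s * e⁻¹ = swap 1 2 := by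
  decide +kernel

theorem swap01_comm : Perm.sign (swap (0 : Fin 6) 1) = -1 ∧
    swap (0 : Fin 6) 1 * tau6 * (swap (0 : Fin 6) 1)⁻¹ = tau6 ∧
    swap (0 : Fin 6) 1 * dt6 * (swap (0 : Fin 6) 1)⁻¹ = dt6 ∧
    swap (0 : Fin 6) 1 * trp6 * (swap (0 : Fin 6) 1)⁻¹ = trp6 := by decide +kernel

theorem even_conj {x r : Perm (Fin 6)} (h : x.cycleType = r.cycleType)
    (hr : swap (0 : Fin 6) 1 * r * (swap (0 : Fin 6) 1)⁻¹ = r) :
    ∃ q : Perm (Fin 6), Perm.sign q = 1 ∧ q * x * q⁻¹ = r := by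
  obtain ⟨c, hc⟩ := isConj_iff.mp (Perm.isConj_iff_cycleType_eq.mpr h)
  rcases Int.units_eq_one_or (Perm.sign c) with e | e
  · exact ⟨c, e, hc⟩
  · refine ⟨swap 0 1 * c, by rw [map_mul, e, swap01_comm.1]; decide, ?_⟩
    rw [mul_inv_rev, show swap (0 : Fin 6) 1 * c * x * (c⁻¹ * (swap (0 : Fin 6) 1)⁻¹) =
      swap (0 : Fin 6) 1 * (c * x * c⁻¹) * (swap (0 : Fin 6) 1)⁻¹ by group, hc, hr]

theorem exists_rep (p : P36) (hp : p * p = 1) (hp1 : p ≠ 1) :
    ∃ q : P36, Ev q ∧ (q * p * q⁻¹ = sig ∨ q * p * q⁻¹ = pDt ∨ q * p * q⁻¹ = pTrp ∨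
      q * p * q⁻¹ = pTau ∨ q * p * q⁻¹ = pSTau ∨ q * p * q⁻¹ = pSTrp ∨ q * p * q⁻¹ = pSDt) := by
  obtain ⟨s, x⟩ := p
  have hs : s * s = 1 := congrArg Prod.fst hp
  have hx : x * x = 1 := congrArg Prod.snd hp
  obtain ⟨-, h1, h2, h3⟩ := swap01_comm
  rcases inv_three s hs with rfl | ⟨e, hev, he⟩
  · rcases inv_types x hx with rfl | h | h | h
    · exact absurd rfl hp1
    · obtain ⟨q, hq, e'⟩ := even_conj h h1
      refine ⟨(1, q), ⟨map_one _, hq⟩, ?_⟩
      simp [pTau, Prod.ext_iff, e']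
    · obtain ⟨q, hq, e'⟩ := even_conj h h2
      refine ⟨(1, q), ⟨map_one _, hq⟩, ?_⟩
      simp [pDt, Prod.ext_iff, e']
    · obtain ⟨q, hq, e'⟩ := even_conj h h3
      refine ⟨(1, q), ⟨map_one _, hq⟩, ?_⟩
      simp [pTrp, Prod.ext_iff, e']
  · rcases inv_types x hx with rfl | h | h | h
    · exact ⟨(e, 1), ⟨hev, map_one _⟩, Or.inl (by simp [sig, Prod.ext_iff, he])⟩
    · obtain ⟨q, hq, e'⟩ := even_conj h h1
      refine ⟨(e, q), ⟨hev, hq⟩, ?_⟩
      simp [pSTau, Prod.ext_iff, e', he]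
    · obtain ⟨q, hq, e'⟩ := even_conj h h2
      refine ⟨(e, q), ⟨hev, hq⟩, ?_⟩
      simp [pSDt, Prod.ext_iff, e', he]
    · obtain ⟨q, hq, e'⟩ := even_conj h h3
      refine ⟨(e, q), ⟨hev, hq⟩, ?_⟩
      simp [pSTrp, Prod.ext_iff, e', he]

/-- A commutator inside a `2`-subgroup that is an involution has class `(1, dt)`. -/
theorem comm_fst : ∀ a b : Perm (Fin 3), a ^ 4 = 1 → b ^ 4 = 1 → (a * b) ^ 4 = 1 →
    a * b * a⁻¹ * b⁻¹ = 1 := by decide +kernel

theorem even_inv : ∀ x : Perm (Fin 6), x * x = 1 → Perm.sign x = 1 → x = 1 ∨ x.cycleType = dt6.cycleType := by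
  decide +kernel

theorem comm_rep (p q : P36) (hp : p ^ 4 = 1) (hq : q ^ 4 = 1) (hpq : (p * q) ^ 4 = 1)
    (hc : (p * q * p⁻¹ * q⁻¹) * (p * q * p⁻¹ * q⁻¹) = 1) (hc1 : p * q * p⁻¹ * q⁻¹ ≠ 1) :
    ∃ r : P36, Ev r ∧ r * (p * q * p⁻¹ * q⁻¹) * r⁻¹ = pDt := by
  have h1 : (p * q * p⁻¹ * q⁻¹).1 = 1 :=
    comm_fst p.1 q.1 (congrArg Prod.fst hp) (congrArg Prod.fst hq) (congrArg Prod.fst hpq)
  have hs : Perm.sign (p * q * p⁻¹ * q⁻¹).2 = 1 := by
    show Perm.sign (p.2 * q.2 * p.2⁻¹ * q.2⁻¹) = 1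
    simp [mul_comm, mul_left_comm]
  rcases even_inv _ (congrArg Prod.snd hc) hs with h | h
  · exact absurd (Prod.ext h1 h) hc1
  · obtain ⟨r, hr, e⟩ := even_conj h swap01_comm.2.2.1
    refine ⟨(1, r), ⟨map_one _, hr⟩, Prod.ext ?_ e⟩
    simp [pDt, h1]

/-! ### Fixed spaces -/

theorem stau_image : ∀ v : V8, vAct pSTau v = v → ∃ w, vAct pSTau w + w = v := by decide +kernel
theorem sdt_image : ∀ v : V8, vAct pSDt v = v → ∃ w, vAct pSDt w + w = v := by decide +kernel
theorem strp_image : ∀ v : V8, vAct pSTrp v = v → ∃ w, vAct pSTrp w + w = v := by decide +kernel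
theorem dt_image : ∀ v : V8, vAct pDt v = v → ∃ w, vAct pDt w + w = v := by decide +kernel
theorem trp_image : ∀ v : V8, vAct pTrp v = v → ∃ w, vAct pTrp w + w = v := by decide +kernel

theorem stau_q : ∃ v : V8, vAct pSTau v = v ∧ vq v = 1 := by decide +kernel
theorem sdt_q : ∃ v : V8, vAct pSDt v = v ∧ vq v = 1 := by decide +kernel
theorem strp_q : ∀ v : V8, vAct pSTrp v = v → vq v = 0 := by decide +kernel
theorem dt_q : ∀ v : V8, vAct pDt v = v → vq v = 0 := by decide +kernel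
theorem trp_q : ∀ v : V8, vAct pTrp v = v → vq v = 0 := by decide +kernel

theorem stau_B : ∀ v : V8, vAct pSTau v = v → ∀ w : V8, vAct pSTau w = w → vB v w = 0 := by
  decide +kernel
theorem sdt_B : ∀ v : V8, vAct pSDt v = v → ∀ w : V8, vAct pSDt w = w → vB v w = 0 := by
  decide +kernel

theorem stau_card : 8 ≤ Fintype.card {v : V8 // vAct pSTau v = v ∧ vq v = 0} := by decide +kernel
theorem sdt_card : 8 ≤ Fintype.card {v : V8 // vAct pSDt v = v ∧ vq v = 0} := by decide +kernel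
theorem strp_card : Fintype.card {v : V8 // vAct pSTrp v = v} = 16 := by decide +kernel
theorem dt_card : Fintype.card {v : V8 // vAct pDt v = v} = 16 := by decide +kernel
theorem trp_card : Fintype.card {v : V8 // vAct pTrp v = v} = 16 := by decide +kernel
theorem tau_card : Fintype.card {v : V8 // vAct pTau v = v} = 64 := by decide +kernel

theorem cyc_fpf : ∀ v : V8, vAct cyc v = v → v = 0 := by decide +kernel

/-- Elements of order three centralizing `trp`. -/
def trpThree : List (Perm (Fin 6)) :=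
  let a := swap 0 2 * swap 2 4 * (swap 1 3 * swap 3 5)
  let b := swap 0 3 * swap 3 4 * (swap 1 2 * swap 2 5)
  let c := swap 0 2 * swap 2 5 * (swap 1 3 * swap 3 4)
  let d := swap 0 3 * swap 3 5 * (swap 1 2 * swap 2 4)
  [a, a⁻¹, b, b⁻¹, c, c⁻¹, d, d⁻¹]

theorem trpThree_spec : ∀ h ∈ trpThree, Perm.sign h = 1 ∧ h ^ 4 = h ∧
    ((1, h) : P36) * pSTrp = pSTrp * (1, h) := by decide +kernel

theorem strp_move : ∀ v : V8, vAct pSTrp v + v ≠ 0 → ∃ h ∈ trpThree,
    vAct ((1, h) : P36) (vAct pSTrp v + v) ≠ vAct pSTrp v + v ∧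
      vB v (vAct ((1, h) : P36) (vAct pSTrp v + v)) = 0 := by decide +kernel

/-- Vectors spanning a complement of the radical in the fixed space of `(1, tau)`. -/
def tauVec (c : W4) : V8 := ((0, 0, c.1, c.2.1), (0, 0, c.2.2.1, c.2.2.2))

theorem tauVec_fix : ∀ c : W4, vAct pTau (tauVec c) = tauVec c := by decide +kernel

theorem tauVec_pair : ∀ e : W4, ∃ x y : W4,
    x.1 * e.1 + x.2.1 * e.2.1 + x.2.2.1 * e.2.2.1 + x.2.2.2 * e.2.2.2 = 0 ∧
    y.1 * e.1 + y.2.1 * e.2.1 + y.2.2.1 * e.2.2.1 + y.2.2.2 * e.2.2.2 = 0 ∧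
    vB (tauVec x) (tauVec y) = 1 := by decide +kernel

/-! ### Centralizers of `dt` and `tau` -/

theorem dt_exp : ∀ x : Perm (Fin 6), x * dt6 = dt6 * x → x ^ 4 = 1 := by decide +kernel
theorem tau_exp : ∀ x : Perm (Fin 6), x * tau6 = tau6 * x → x ^ 12 = 1 := by decide +kernel
theorem three_exp : ∀ e : Perm (Fin 3), (e ^ 4) ^ 3 = 1 := by decide +kernel
theorem three_comm : ∀ e k : Perm (Fin 3), e ^ 3 = 1 → k * k = 1 → k * (e * k * e⁻¹) = e * k * e⁻¹ * k →
    e * k * e⁻¹ = k := by decide +kernel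

theorem tau_fixed : ∀ h : Perm (Fin 6), h * tau6 = tau6 * h → h ^ 3 = 1 →
    ∀ e : Perm (Fin 3), e ^ 3 = 1 → ((e, h) : P36) ≠ 1 →
      Fintype.card {v : V8 // vAct pTau v = v ∧ vAct ((e, h) : P36) v = v} ≤ 4 := by decide +kernel

/-! ### Fixed-point-free involutions of `S₆` -/

theorem fpf_cosets : ∀ a : Perm (Fin 6), a.cycleType = trp6.cycleType → a * trp6 = trp6 * a →
    ∀ b : Perm (Fin 6), b.cycleType = trp6.cycleType → a * b = b * a → b * trp6 = trp6 * b →
      a ≠ trp6 → b ≠ trp6 → a ≠ b → a * b * trp6 ≠ 1 →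
        ¬ ((a * b).cycleType = trp6.cycleType ∨ (a * b * trp6).cycleType = trp6.cycleType) := by
  decide +kernel

/-! ### Elementary abelian subgroups -/

theorem card_comm_four : Fintype.card {x : Perm (Fin 6) //
    x * (swap 0 1 * swap 1 2 * swap 2 3) = swap 0 1 * swap 1 2 * swap 2 3 * x} = 8 := by decide +kernel

theorem four_pow : (swap (0 : Fin 6) 1 * swap 1 2 * swap 2 3) ^ 4 = 1 := by decide +kernel

theorem six_no_abelian_sylow (K : Subgroup (Perm (Fin 6))) (hK : ∀ a ∈ K, ∀ b ∈ K, a * b = b * a)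
    (hc : Nat.card K = 16) : False := by
  haveI : Fact (Nat.Prime 2) := ⟨Nat.prime_two⟩
  set r : Perm (Fin 6) := swap 0 1 * swap 1 2 * swap 2 3 with hr
  obtain ⟨S, hS⟩ := (IsPGroup.of_card (p := 2) (n := 4) (G := K) (by rw [hc]; rfl)).exists_le_sylow
  have h720 : Nat.card (Perm (Fin 6)) = 16 * 45 := by
    rw [Nat.card_eq_fintype_card, Fintype.card_perm, Fintype.card_fin]; rfl
  have hS16 : Nat.card S = 16 := by
    obtain ⟨k, hk⟩ := IsPGroup.iff_card.mp S.isPGroup'
    have hd := (S : Subgroup (Perm (Fin 6))).card_subgroup_dvd_card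
    have hge : 16 ≤ Nat.card S := hc ▸ Subgroup.card_le_of_le hS
    rw [h720] at hd
    rw [hk] at hd hge
    rw [hk]
    have hk4 : k ≤ 4 := by
      by_contra hh
      have : 2 ^ 5 ∣ 16 * 45 := (pow_dvd_pow 2 (by omega)).trans hd
      norm_num at this
    interval_cases k <;> simp_all
  have hKS : K = S := Subgroup.eq_of_le_of_card_ge hS (by rw [hS16, hc])
  have hz : IsPGroup 2 (Subgroup.zpowers r) := by
    rintro ⟨x, hx⟩
    obtain ⟨j, rfl⟩ := Subgroup.mem_zpowers_iff.mp hx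
    refine ⟨2, Subtype.ext ?_⟩
    simp only [SubmonoidClass.coe_pow, OneMemClass.coe_one]
    rw [← zpow_natCast, ← zpow_mul, mul_comm, zpow_mul, zpow_natCast, show 2 ^ 2 = 4 from rfl,
      four_pow, one_zpow]
  obtain ⟨T, hT⟩ := hz.exists_le_sylow
  obtain ⟨g, hg⟩ := MulAction.exists_smul_eq (Perm (Fin 6)) S T
  have hTcomm : ∀ a ∈ (T : Subgroup (Perm (Fin 6))), a * r = r * a := by
    intro a ha
    have hr' : r ∈ (T : Subgroup (Perm (Fin 6))) := hT (Subgroup.mem_zpowers r)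
    rw [← hg, Sylow.coe_subgroup_smul, Subgroup.mem_pointwise_smul_iff_inv_smul_mem] at ha hr'
    rw [← hKS] at ha hr'
    have := hK _ ha _ hr'
    rw [← smul_mul', ← smul_mul'] at this
    exact smul_left_cancel _ this
  have hle : Nat.card (T : Subgroup (Perm (Fin 6))) ≤ Nat.card {x : Perm (Fin 6) // x * r = r * x} :=
    Nat.card_le_card_of_injective (fun a => ⟨a.1, hTcomm a.1 a.2⟩)
      fun a b e => Subtype.ext (congrArg (fun x : {x : Perm (Fin 6) // x * r = r * x} => x.1) e)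
  have hT16 : Nat.card (T : Subgroup (Perm (Fin 6))) = 16 := by
    rw [← hg, ← hS16]; exact Nat.card_congr (Subgroup.equivSMul _ _).symm.toEquiv
  rw [hT16, Nat.card_eq_fintype_card, hr, card_comm_four] at hle
  omega

theorem three_inv_unique : ∀ s t : Perm (Fin 3), s * s = 1 → t * t = 1 → s * t = t * s →
    s ≠ 1 → t ≠ 1 → s = t := by decide +kernel

/-- An elementary abelian `2`-subgroup of `S₃ × S₆` has order at most `16`; in case of equality it
contains a transposition of the first factor. -/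
theorem elementary_bound (K : Subgroup P36) (hK : ∀ a ∈ K, a * a = 1) :
    Nat.card K ≤ 16 ∧ (16 ≤ Nat.card K → ∃ s : Perm (Fin 3), s ≠ 1 ∧ s * s = 1 ∧ ((s, 1) : P36) ∈ K) := by
  haveI : Fact (Nat.Prime 2) := ⟨Nat.prime_two⟩
  have hcomm : ∀ a ∈ K, ∀ b ∈ K, a * b = b * a := fun a ha b hb => by
    have ea : a⁻¹ = a := inv_eq_of_mul_eq_one_right (hK a ha)
    have eb : b⁻¹ = b := inv_eq_of_mul_eq_one_right (hK b hb)
    have eab : (a * b)⁻¹ = a * b := inv_eq_of_mul_eq_one_right (hK _ (K.mul_mem ha hb))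
    rw [mul_inv_rev, ea, eb] at eab
    exact eab.symm
  let f : K →* Perm (Fin 6) := (MonoidHom.snd _ _).comp K.subtype
  have hrange : Nat.card f.range ≤ 8 := by
    have hp : IsPGroup 2 f.range := by
      rintro ⟨x, a, rfl⟩
      refine ⟨1, Subtype.ext ?_⟩
      rw [SubmonoidClass.coe_pow, pow_one, pow_two]
      exact congrArg Prod.snd (hK a a.2)
    obtain ⟨k, hk⟩ := IsPGroup.iff_card.mp hp
    have hd := f.range.card_subgroup_dvd_card
    rw [Nat.card_eq_fintype_card (α := Perm (Fin 6)), Fintype.card_perm, Fintype.card_fin, hk,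
      show Nat.factorial 6 = 16 * 45 from rfl] at hd
    have hk4 : k ≤ 4 := by
      by_contra hh
      have : 2 ^ 5 ∣ 16 * 45 := (pow_dvd_pow 2 (by omega)).trans hd
      norm_num at this
    have hk3 : k ≠ 4 := fun e => six_no_abelian_sylow f.range (by
      rintro _ ⟨a, rfl⟩ _ ⟨b, rfl⟩
      exact congrArg Prod.snd (hcomm a a.2 b b.2)) (by rw [hk, e]; rfl)
    rw [hk]
    calc 2 ^ k ≤ 2 ^ 3 := Nat.pow_le_pow_right (by norm_num) (by omega)
      _ = 8 := rfl
  have hker : ∀ a : f.ker, ((a : K) : P36).2 = 1 := fun a => a.2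
  have hker2 : Nat.card f.ker ≤ 2 := by
    by_contra hh
    haveI := Fintype.ofFinite f.ker
    have h3 : 2 < Fintype.card f.ker := by rw [← Nat.card_eq_fintype_card]; omega
    obtain ⟨x, y, w, hxy, hxw, hyw⟩ := Fintype.two_lt_card_iff.mp h3
    have key : ∀ a b : f.ker, a ≠ 1 → b ≠ 1 → a = b := by
      intro a b ha hb
      have ne : ∀ a : f.ker, a ≠ 1 → ((a : K) : P36).1 ≠ 1 := fun a ha e =>
        ha (Subtype.ext (Subtype.ext (Prod.ext e (hker a))))
      exact Subtype.ext (Subtype.ext (Prod.ext (three_inv_unique _ _ (congrArg Prod.fst (hK _ a.1.2))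
        (congrArg Prod.fst (hK _ b.1.2)) (congrArg Prod.fst (hcomm _ a.1.2 _ b.1.2)) (ne a ha) (ne b hb))
        ((hker a).trans (hker b).symm)))
    by_cases hx : x = 1
    · exact hyw (key y w (fun e => hxy (hx.trans e.symm)) fun e => hxw (hx.trans e.symm))
    by_cases hy : y = 1
    · exact hxw (key x w hx fun e => hyw (hy.trans e.symm))
    exact hxy (key x y hx hy)
  have hcard : Nat.card f.ker * Nat.card f.range = Nat.card K := by
    rw [← Subgroup.index_ker]; exact f.ker.card_mul_index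
  refine ⟨?_, fun h16 => ?_⟩
  · calc Nat.card K = Nat.card f.ker * Nat.card f.range := hcard.symm
      _ ≤ 2 * 8 := Nat.mul_le_mul hker2 hrange
  · have hne : f.ker ≠ ⊥ := fun e => by
      rw [← hcard, e, Subgroup.card_bot, one_mul] at h16
      omega
    obtain ⟨⟨a, ha⟩, hsub⟩ := Subgroup.ne_bot_iff_exists_ne_one.mp hne
    have ha1 : a ≠ 1 := fun e => hsub (Subtype.ext e)
    have hfst : (a : P36).1 ≠ 1 := fun e =>
      ha1 (Subtype.ext (Prod.ext e ha))
    refine ⟨_, hfst, congrArg Prod.fst (hK _ a.2), ?_⟩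
    have : ((a : P36).1, (1 : Perm (Fin 6))) = (a : P36) := Prod.ext rfl (Eq.symm ha)
    rw [this]
    exact a.2

end Cfsg.Agent.H70.CHZ.Out
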