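import Cfsg.Agent.H70.CHZ.Base
import Cfsg.Agent.H18.LargeCriterion

/-! Two commuting conjugates `z`, `t = g z g⁻¹`: generic facts about `Q ∩ Q_t`, `C_Q(t)`, `C_{Q_t}(z)`. -/

set_option autoImplicit false

namespace Cfsg.Agent.H70.CHZ

variable {G : Type*} [Group G]

theorem cQ_cQ_inv (Q : Subgroup G) (g : G) : cQ (cQ Q g) g⁻¹ = Q := by
  ext x
  rw [mem_cQ, mem_cQ]
  simp [mul_assoc]

/-- `X = Q ∩ Q_t`. -/
abbrev pX (Q : Subgroup G) (g : G) : Subgroup G := Q ⊓ cQ Q g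

/-- `A = C_Q(t)`. -/
abbrev pA (z : G) (Q : Subgroup G) (g : G) : Subgroup G :=
  Q ⊓ Subgroup.centralizer ({g * z * g⁻¹} : Set G)

/-- `B = C_{Q_t}(z)`. -/
abbrev pB (z : G) (Q : Subgroup G) (g : G) : Subgroup G :=
  cQ Q g ⊓ Subgroup.centralizer ({z} : Set G)

variable {z : G} {Q : Subgroup G} {π : G → P36}

theorem Base.π_one (h : Base z Q π) : π 1 = 1 :=
  (h.π_ker 1 (by simp)).mpr Q.one_mem

theorem Base.π_inv (h : Base z Q π) {a : G} (ha : a * z = z * a) : π a⁻¹ = (π a)⁻¹ := by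
  have ha' : a⁻¹ * z = z * a⁻¹ := by
    rw [inv_mul_eq_iff_eq_mul, ← mul_assoc, ha, mul_inv_cancel_right]
  refine eq_inv_of_mul_eq_one_left ?_
  rw [← h.π_mul _ _ ha' ha, inv_mul_cancel, h.π_one]

theorem Base.π_conj (h : Base z Q π) {a b : G} (ha : a * z = z * a) (hb : b * z = z * b) :
    π (a * b * a⁻¹) = π a * π b * (π a)⁻¹ := by
  have ha' : a⁻¹ * z = z * a⁻¹ := by
    rw [inv_mul_eq_iff_eq_mul, ← mul_assoc, ha, mul_inv_cancel_right]
  have hab : a * b * z = z * (a * b) := by rw [mul_assoc, hb, ← mul_assoc, ha, mul_assoc]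
  rw [h.π_mul _ _ hab ha', h.π_mul _ _ ha hb, h.π_inv ha]

theorem Base.π_Q (h : Base z Q π) {a : G} (ha : a ∈ Q) : π a = 1 :=
  (h.π_ker a (h.sing.comm_x a ha)).mpr ha

theorem mem_pA {g a : G} : a ∈ pA z Q g ↔ a ∈ Q ∧ a * (g * z * g⁻¹) = g * z * g⁻¹ * a := by
  simp only [pA, Subgroup.mem_inf, Subgroup.mem_centralizer_singleton_iff]

theorem mem_pB {g a : G} : a ∈ pB z Q g ↔ a ∈ cQ Q g ∧ a * z = z * a := by
  simp only [pB, Subgroup.mem_inf, Subgroup.mem_centralizer_singleton_iff]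

theorem Base.X_le_A (h : Base z Q π) (g : G) : pX Q g ≤ pA z Q g := fun _ hx =>
  mem_pA.mpr ⟨hx.1, (h.conj g).sing.comm_x _ hx.2⟩

theorem Base.X_le_B (h : Base z Q π) (g : G) : pX Q g ≤ pB z Q g := fun _ hx =>
  mem_pB.mpr ⟨hx.2, h.sing.comm_x _ hx.1⟩

theorem Base.B_inf_Q (h : Base z Q π) {g a : G} (ha : a ∈ pB z Q g) :
    π a = 1 ↔ a ∈ pX Q g := by
  rw [h.π_ker a (mem_pB.mp ha).2]
  exact ⟨fun hq => ⟨hq, (mem_pB.mp ha).1⟩, fun hx => hx.1⟩

/-- `[A, B] ≤ X`. -/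
theorem Base.comm_A_B (h : Base z Q π) {g a b : G} (ha : a ∈ pA z Q g) (hb : b ∈ pB z Q g) :
    a * b * a⁻¹ * b⁻¹ ∈ pX Q g := by
  obtain ⟨haQ, hat⟩ := mem_pA.mp ha
  obtain ⟨hbQ, hbz⟩ := mem_pB.mp hb
  refine ⟨?_, ?_⟩
  · have := Q.mul_mem haQ (h.sing.norm b hbz a⁻¹ (Q.inv_mem haQ))
    simpa [mul_assoc] using this
  · exact (cQ Q g).mul_mem ((h.conj g).sing.norm a hat b hbQ) ((cQ Q g).inv_mem hbQ)

/-- `X` is normalized by `C(z) ∩ C(t)`. -/
theorem Base.norm_X (h : Base z Q π) {g a x : G} (ha : a * z = z * a)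
    (hat : a * (g * z * g⁻¹) = g * z * g⁻¹ * a) (hx : x ∈ pX Q g) : a * x * a⁻¹ ∈ pX Q g :=
  ⟨h.sing.norm a ha x hx.1, (h.conj g).sing.norm a hat x hx.2⟩

section
variable (h : Base z Q π) {g : G} (hne : g * z * g⁻¹ ≠ z)
include h hne

theorem Base.eq_one_of_mem_both {w : G} (h1 : w ∈ Subgroup.zpowers z)
    (h2 : w ∈ Subgroup.zpowers (g * z * g⁻¹)) : w = 1 := by
  rcases h.sing.pair h1 with e | e
  · exact e
  · rcases (h.conj g).sing.pair h2 with e' | e'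
    · exact e'
    · exact absurd (e'.symm.trans e) hne

/-- `X` is abelian. -/
theorem Base.X_comm {x y : G} (hx : x ∈ pX Q g) (hy : y ∈ pX Q g) : x * y = y * x := by
  have e := h.eq_one_of_mem_both hne (h.sing.comm hx.1 hy.1) ((h.conj g).sing.comm hx.2 hy.2)
  calc x * y = (x * y * x⁻¹ * y⁻¹) * (y * x) := by group
    _ = y * x := by rw [e, one_mul]

/-- `X` has exponent two. -/
theorem Base.X_sq {x : G} (hx : x ∈ pX Q g) : x * x = 1 :=
  h.eq_one_of_mem_both hne (h.sing.sq hx.1) ((h.conj g).sing.sq hx.2)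

/-- An element of `B` centralizing an element of `X` modulo `⟨z⟩` centralizes it. -/
theorem Base.comm_X_B {x b : G} (hx : x ∈ pX Q g) (hb : b ∈ pB z Q g)
    (hm : x⁻¹ * (b * x * b⁻¹) ∈ Subgroup.zpowers z) : b * x = x * b := by
  have h2 : x⁻¹ * (b * x * b⁻¹) ∈ Subgroup.zpowers (g * z * g⁻¹) := by
    have := (h.conj g).sing.comm ((cQ Q g).inv_mem hx.2) (mem_pB.mp hb).1
    simpa [mul_assoc] using this
  have e := h.eq_one_of_mem_both hne hm h2
  rw [inv_mul_eq_one] at e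
  exact mul_inv_eq_iff_eq_mul.mp e.symm

end

variable [Finite G]

/-- `t ∈ Q` exactly when `z ∈ Q_t`. -/
theorem Base.mem_iff (h : Base z Q π) (g : G) : g * z * g⁻¹ ∈ Q ↔ z ∈ cQ Q g := by
  refine ⟨h.symm, fun hz => ?_⟩
  have := (h.conj g).symm (g := g⁻¹) (by simpa [mul_assoc] using hz)
  rwa [cQ_cQ_inv] at this

theorem Base.z_notMem_X (h : Base z Q π) {g : G} (ht : g * z * g⁻¹ ∉ Q) : z ∉ pX Q g :=
  fun hz => ht ((h.mem_iff g).mpr hz.2)

theorem Base.t_notMem_X (h : Base z Q π) {g : G} (ht : g * z * g⁻¹ ∉ Q) : g * z * g⁻¹ ∉ pX Q g :=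
  fun hz => ht hz.1

/-- `|B| = |X| · |π(B)|`. -/
theorem Base.card_B (h : Base z Q π) (g : G) :
    Nat.card (pB z Q g) = Nat.card (pX Q g) * (π '' (pB z Q g : Set G)).ncard := by
  let f : ↥(pB z Q g) →* P36 :=
    { toFun := fun b => π b
      map_one' := h.π_one
      map_mul' := fun a b => h.π_mul _ _ (mem_pB.mp a.2).2 (mem_pB.mp b.2).2 }
  have hk : f.ker = (pX Q g).subgroupOf (pB z Q g) := by
    ext b
    exact h.B_inf_Q b.2
  have hr : Nat.card ↥f.range = (π '' (pB z Q g : Set G)).ncard := by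
    rw [← Nat.card_coe_set_eq]
    congr 1
    refine congrArg (fun s : Set P36 => ↥s) (Set.ext fun p => ?_)
    constructor
    · rintro ⟨b, rfl⟩; exact ⟨b, b.2, rfl⟩
    · rintro ⟨b, hb, rfl⟩; exact ⟨⟨b, hb⟩, rfl⟩
  rw [← f.ker.card_mul_index, Subgroup.index_ker, hr, hk,
    Nat.card_congr (Subgroup.subgroupOfEquivOfLe (h.X_le_B g)).toEquiv]

section
variable (h : Base z Q π) {g : G} (ht : g * z * g⁻¹ ∈ Q) (hne : g * z * g⁻¹ ≠ z)
include h ht hne

/-- For `t ∈ Q`, `|C_Q(t)| = 256`. -/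
theorem Base.card_A : Nat.card (pA z Q g) = 256 := by
  have hz : z * z = 1 := h.sing.xx
  have htt : (g * z * g⁻¹) * (g * z * g⁻¹) = 1 := (h.conj g).sing.xx
  have hc : z * (g * z * g⁻¹) = g * z * g⁻¹ * z := (h.sing.comm_x _ ht).symm
  set H : Subgroup G := Subgroup.zpowers z ⊔ Subgroup.zpowers (g * z * g⁻¹) with hH
  have hle : H ≤ Q := sup_le h.sing.zp_le (Subgroup.zpowers_le.mpr ht)
  have hA : Q ⊓ Subgroup.centralizer (H : Set G) = pA z Q g := by
    apply le_antisymm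
    · intro a ha
      exact mem_pA.mpr ⟨ha.1, (Subgroup.mem_centralizer_iff.mp ha.2 _
        (Subgroup.mem_sup_right (Subgroup.mem_zpowers _))).symm⟩
    · intro a ha
      obtain ⟨haQ, hat⟩ := mem_pA.mp ha
      refine ⟨haQ, Subgroup.mem_centralizer_iff.mpr fun w hw => ?_⟩
      have hle' : H ≤ Subgroup.centralizer ({a} : Set G) := sup_le
        (Subgroup.zpowers_le.mpr (Subgroup.mem_centralizer_singleton_iff.mpr (h.sing.comm_x a haQ).symm))
        (Subgroup.zpowers_le.mpr (Subgroup.mem_centralizer_singleton_iff.mpr hat.symm))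
      exact Subgroup.mem_centralizer_singleton_iff.mp (hle' hw)
  have hzt : (g * z * g⁻¹) ∉ Subgroup.zpowers z := fun hm => by
    rcases h.sing.pair hm with e | e
    · exact (h.conj g).sing.xne e
    · exact hne e
  have hH4 : Nat.card H = 4 := by
    have hset : (H : Set G) = {1, z, g * z * g⁻¹, z * (g * z * g⁻¹)} := by
      ext x
      simp only [SetLike.mem_coe, hH, H18.mem_four hz htt hc x, Set.mem_insert_iff, Set.mem_singleton_iff]
    rw [← SetLike.coe_sort_coe, Nat.card_coe_set_eq, hset]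
    have h1 : (1 : G) ≠ z := h.sing.xne.symm
    have h2 : (1 : G) ≠ g * z * g⁻¹ := (h.conj g).sing.xne.symm
    have h3 : (1 : G) ≠ z * (g * z * g⁻¹) := fun e => hne (by
      calc g * z * g⁻¹ = z * (z * (g * z * g⁻¹)) := by rw [← mul_assoc, hz, one_mul]
        _ = z := by rw [← e, mul_one])
    have h4 : z ≠ g * z * g⁻¹ := hne.symm
    have h5 : z ≠ z * (g * z * g⁻¹) := fun e => h2 (mul_left_cancel (e.symm.trans (mul_one z).symm)).symm
    have h6 : g * z * g⁻¹ ≠ z * (g * z * g⁻¹) := fun e => h1 (mul_right_cancel ((one_mul _).trans e))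
    rw [Set.ncard_insert_of_notMem (by simp [h1, h2, h3]), Set.ncard_insert_of_notMem (by simp [h4, h5]),
      Set.ncard_pair h6]
  have := h.sing.card_mul H hle (Subgroup.mem_sup_left (Subgroup.mem_zpowers z))
  rw [hA, hH4, h.card] at this
  omega

/-- For `t ∈ Q`, `|C_{Q_t}(z)| = 256`. -/
theorem Base.card_pB : Nat.card (pB z Q g) = 256 := by
  have e : pB z Q g = pA (g * z * g⁻¹) (cQ Q g) g⁻¹ := by
    ext a
    rw [mem_pB, mem_pA]
    simp [mul_assoc]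
  rw [e]
  refine (h.conj g).card_A ?_ ?_
  · simpa [mul_assoc] using h.symm ht
  · simpa [mul_assoc] using hne.symm

/-- For `t ∈ Q`, some element of `Q` maps `t` to `z * t`. -/
theorem Base.exists_translate : ∃ x ∈ Q, x * (g * z * g⁻¹) * x⁻¹ = z * (g * z * g⁻¹) :=
  h.sing.exists_translate ht (h.conj g).sing.xne hne

/-- When `|X| = 32`, an element of `B` centralizing `X` lies in `X`. -/
theorem Base.mem_X_of_centralizes (hX : Nat.card (pX Q g) = 32) {b : G} (hb : b ∈ pB z Q g)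
    (hc : ∀ x ∈ pX Q g, x * b = b * x) : b ∈ pX Q g := by
  have hle : pX Q g ≤ cQ Q g := inf_le_right
  have hc' := (h.conj g).sing.card_mul (pX Q g) hle ⟨ht, (h.conj g).sing.mem⟩
  rw [hX, (h.conj g).card] at hc'
  have hsub : pX Q g ≤ cQ Q g ⊓ Subgroup.centralizer (pX Q g : Set G) := fun x hx =>
    ⟨hx.2, Subgroup.mem_centralizer_iff.mpr fun y hy => h.X_comm hne hy hx⟩
  have e := Subgroup.eq_of_le_of_card_ge hsub (by rw [hX]; omega)
  rw [e]
  exact ⟨(mem_pB.mp hb).1, Subgroup.mem_centralizer_iff.mpr hc⟩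

end

end Cfsg.Agent.H70.CHZ
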