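import Cfsg.Agent.H70.CHZ.Base

/-! The split case: `z` is the only conjugate of itself commuting with it. -/

set_option autoImplicit false
set_option linter.unusedSectionVars false
set_option linter.style.haveILetI false

namespace Cfsg.Agent.H70.CHZ

open Equiv

theorem s3_sq : ∀ σ : Perm (Fin 3), σ * σ = 1 → Perm.sign σ = 1 → σ = 1 := by decide +kernel

theorem s3_four : ∀ σ : Perm (Fin 3), σ * σ * (σ * σ) = 1 → σ * σ = 1 := by decide +kernel

theorem s3_cyc : ∀ σ : Perm (Fin 3), σ * σ = 1 →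
    finRotate 3 * σ * (finRotate 3)⁻¹ * σ * (finRotate 3 * σ * (finRotate 3)⁻¹ * σ) = 1 → σ = 1 := by
  decide +kernel

theorem card_elementary {H : Type*} [Group H] [Finite H] (R : Subgroup H) (h : ∀ x ∈ R, x * x = 1) :
    ∃ k : ℕ, Nat.card R = 2 ^ k := by
  haveI : Fact (Nat.Prime 2) := ⟨Nat.prime_two⟩
  have hp : IsPGroup 2 R := fun x => ⟨1, Subtype.ext (by
    show (x : H) ^ 2 ^ 1 = 1
    rw [pow_one, pow_two, h _ x.2])⟩
  exact hp.exists_card_eq

theorem card_elementary_six (R : Subgroup (Perm (Fin 6))) (h : ∀ x ∈ R, x * x = 1) : Nat.card R ≤ 8 := by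
  haveI : Fact (Nat.Prime 2) := ⟨Nat.prime_two⟩
  obtain ⟨k, hk⟩ := card_elementary R h
  have h720 : Nat.card (Perm (Fin 6)) = 720 := by
    rw [Nat.card_perm, Nat.card_fin]; decide
  have hd : 2 ^ k ∣ 720 := by rw [← hk, ← h720]; exact Subgroup.card_subgroup_dvd_card R
  rw [hk]
  have h4 : k ≤ 4 := by
    by_contra hc
    have : 2 ^ 5 ∣ 720 := (pow_dvd_pow 2 (by omega)).trans hd
    omega
  by_contra hc
  have hk4 : k = 4 := by
    interval_cases k <;> first | rfl | omega
  subst hk4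
  have hRp : IsPGroup 2 R := IsPGroup.of_card hk
  obtain ⟨P, hP⟩ := hRp.exists_le_sylow
  obtain ⟨m, hm⟩ := P.2.exists_card_eq
  have hRP : R = (P : Subgroup (Perm (Fin 6))) := by
    refine Subgroup.eq_of_le_of_card_ge hP ?_
    have hd' : 2 ^ m ∣ 720 := by rw [← hm, ← h720]; exact Subgroup.card_subgroup_dvd_card _
    have h4 : m ≤ 4 := by
      by_contra hc
      have : 2 ^ 5 ∣ 720 := (pow_dvd_pow 2 (by omega)).trans hd'
      omega
    rw [hm, hk]
    exact Nat.pow_le_pow_right (by norm_num) h4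
  let a : Perm (Fin 6) := Equiv.swap 0 1 * Equiv.swap 1 2 * Equiv.swap 2 3
  have ha : IsPGroup 2 (Subgroup.zpowers a) := by
    refine IsPGroup.of_card (n := 2) ?_
    rw [Nat.card_zpowers]
    exact orderOf_eq_prime_pow (n := 1) (by decide +kernel) (by decide +kernel)
  obtain ⟨P', hP'⟩ := ha.exists_le_sylow
  obtain ⟨s, hs⟩ := MulAction.exists_smul_eq (Perm (Fin 6)) P P'
  have haP : a ∈ s • P := hs ▸ hP' (Subgroup.mem_zpowers a)
  have hmem : s⁻¹ * a * s ∈ R := by
    rw [hRP]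
    have := (Subgroup.mem_pointwise_smul_iff_inv_smul_mem).1 haP
    simpa [MulAut.smul_def] using this
  have h1 := h _ hmem
  have : a * a = 1 := by
    calc a * a = s * (s⁻¹ * a * s * (s⁻¹ * a * s)) * s⁻¹ := by group
      _ = 1 := by rw [h1]; group
  revert this
  decide +kernel

theorem card_elementary_three (R : Subgroup (Perm (Fin 3))) (h : ∀ x ∈ R, x * x = 1) : Nat.card R ≤ 2 := by
  obtain ⟨k, hk⟩ := card_elementary R h
  have hd : 2 ^ k ∣ 6 := by
    rw [← hk, show 6 = Nat.card (Perm (Fin 3)) by rw [Nat.card_perm, Nat.card_fin]; rfl]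
    exact Subgroup.card_subgroup_dvd_card R
  rw [hk]
  rcases Nat.lt_or_ge k 2 with hk' | hk'
  · interval_cases k <;> norm_num
  · have : 2 ^ 2 ∣ 6 := (pow_dvd_pow 2 hk').trans hd
    omega

theorem card_le_fst {H : Type*} [Group H] [Finite H] (f : H →* Perm (Fin 3))
    (h : ∀ x, f x * f x = 1) : Nat.card H ≤ 2 * Nat.card f.ker := by
  have h1 : Nat.card f.range ≤ 2 :=
    card_elementary_three _ (by rintro _ ⟨x, rfl⟩; exact h x)
  rw [← f.ker.index_mul_card, Subgroup.index_ker]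
  exact Nat.mul_le_mul_right _ h1

theorem card_elementary_snd (R : Subgroup P36) (h : ∀ x ∈ R, x * x = 1) (h1 : ∀ x ∈ R, x.1 = 1) :
    Nat.card R ≤ 8 := by
  let f : R →* Perm (Fin 6) := (MonoidHom.snd _ _).comp R.subtype
  have hinj : Function.Injective f := fun x y e => Subtype.ext (Prod.ext ((h1 _ x.2).trans (h1 _ y.2).symm) e)
  rw [Nat.card_congr (MonoidHom.ofInjective hinj).toEquiv]
  exact card_elementary_six _ (by rintro _ ⟨x, rfl⟩; exact congrArg Prod.snd (h _ x.2))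

theorem card_elementary_P36 (R : Subgroup P36) (h : ∀ x ∈ R, x * x = 1) : Nat.card R ≤ 16 := by
  let f : R →* Perm (Fin 3) := (MonoidHom.fst _ _).comp R.subtype
  have h1 := card_le_fst f fun x => congrArg Prod.fst (h _ x.2)
  have h2 : Nat.card f.ker ≤ 8 := by
    rw [← Subgroup.card_map_of_injective R.subtype_injective]
    refine card_elementary_snd _ (fun x hx => ?_) (fun x hx => ?_)
    · obtain ⟨y, -, rfl⟩ := hx; exact h _ y.2
    · obtain ⟨y, hy, rfl⟩ := hx; exact hy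
  omega

theorem card_double {G : Type*} [Group G] [Finite G] {H K : Subgroup G} (hHK : H ≤ K) {b : G}
    (hb : b ∈ K) (hbH : b ∉ H) : 2 * Nat.card H ≤ Nat.card K := by
  classical
  let f : Bool × H → K := fun p => if p.1 then ⟨b * p.2, mul_mem hb (hHK p.2.2)⟩ else ⟨p.2, hHK p.2.2⟩
  have hf : Function.Injective f := by
    rintro ⟨i, x⟩ ⟨j, y⟩ e
    cases i <;> cases j <;> simp only [f] at e <;> have e' := congrArg Subtype.val e <;> simp at e'
    · exact Prod.ext rfl e'
    · exact absurd (by rw [show b = (x : G) * (y : G)⁻¹ by rw [e']; group]; exact mul_mem x.2 (inv_mem y.2)) hbH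
    · exact absurd (by rw [show b = (y : G) * (x : G)⁻¹ by rw [← e']; group]; exact mul_mem y.2 (inv_mem x.2)) hbH
    · exact Prod.ext rfl e'
  have := Nat.card_le_card_of_injective f hf
  simpa [Nat.card_prod] using this

section Sing

variable {G : Type*} [Group G] [Finite G] {F : Subgroup G} {t : G}

theorem card_le_half (hF : H18.SingPt F t) {a : G} {N : Subgroup G} (hN : N ≤ F)
    (h : ∀ x ∈ N, x⁻¹ * (a * x * a⁻¹) ∈ Subgroup.zpowers t) :
    Nat.card N ≤ 2 * Nat.card (N ⊓ Subgroup.centralizer ({a} : Set G) : Subgroup G) := by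
  classical
  set D := N ⊓ Subgroup.centralizer ({a} : Set G) with hD
  have hmem : ∀ x ∈ N, a * x * a⁻¹ = x → x ∈ D := fun x hx e =>
    ⟨hx, Subgroup.mem_centralizer_singleton_iff.2 (mul_inv_eq_iff_eq_mul.1 e).symm⟩
  by_cases hall : ∀ x ∈ N, a * x * a⁻¹ = x
  · have : N ≤ D := fun x hx => hmem x hx (hall x hx)
    have := Subgroup.card_le_of_le this
    omega
  push Not at hall
  obtain ⟨b, hb, hbne⟩ := hall
  have hval : ∀ x ∈ N, a * x * a⁻¹ ≠ x → a * x * a⁻¹ = x * t := fun x hx hne => by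
    rcases hF.pair (h x hx) with e | e
    · exact absurd (inv_mul_eq_one.1 e).symm hne
    · exact inv_mul_eq_iff_eq_mul.1 e
  have hD' : ∀ x ∈ N, x ∉ D → b⁻¹ * x ∈ D := fun x hx hxD => by
    refine hmem _ (mul_mem (inv_mem hb) hx) ?_
    have hx' := hval x hx fun e => hxD (hmem x hx e)
    calc a * (b⁻¹ * x) * a⁻¹ = (a * b * a⁻¹)⁻¹ * (a * x * a⁻¹) := by group
      _ = t⁻¹ * ((b⁻¹ * x) * t) := by rw [hval b hb hbne, hx']; group
      _ = b⁻¹ * x := by rw [hF.comm_x _ (mul_mem (inv_mem (hN hb)) (hN hx))]; group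
  let f : N → Bool × D := fun x => if hx : (x : G) ∈ D then (false, ⟨x, hx⟩) else (true, ⟨_, hD' x x.2 hx⟩)
  have hf : Function.Injective f := by
    intro x y e
    by_cases hx : (x : G) ∈ D <;> by_cases hy : (y : G) ∈ D <;> simp [f, hx, hy] at e
    · exact e
    · exact e
  have := Nat.card_le_card_of_injective f hf
  simpa [Nat.card_prod] using this

/-- An element fixed modulo the centre commutes with every commutator with the automorphism. -/
theorem comm_moved (hF : H18.SingPt F t) {a x v : G} (ha : a * t = t * a) (hx : x ∈ F) (hv : v ∈ F)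
    (hfix : v⁻¹ * (a * v * a⁻¹) ∈ Subgroup.zpowers t) :
    Commute (a * x * a⁻¹ * x⁻¹) v := by
  obtain ⟨s, hs⟩ : ∃ s, s = v⁻¹ * (a * v * a⁻¹) := ⟨_, rfl⟩
  rw [← hs] at hfix
  have hav : a * v * a⁻¹ = v * s := by rw [hs]; group
  obtain ⟨c, hc⟩ : ∃ c, c = x * v * x⁻¹ * v⁻¹ := ⟨_, rfl⟩
  have hcz : c ∈ Subgroup.zpowers t := hc ▸ hF.comm hx hv
  have hax := hF.norm a ha x hx
  have h1 : (a * x * a⁻¹) * v * (a * x * a⁻¹)⁻¹ = c * v := by
    have e : (a * x * a⁻¹) * (v * s) * (a * x * a⁻¹)⁻¹ * (v * s)⁻¹ = c := by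
      rw [← hav]
      calc _ = a * (x * v * x⁻¹ * v⁻¹) * a⁻¹ := by group
        _ = c := by rw [← hc, hF.central_zp_mul' ha hcz]
    calc (a * x * a⁻¹) * v * (a * x * a⁻¹)⁻¹
        = (a * x * a⁻¹) * (v * s) * (s⁻¹ * (a * x * a⁻¹)⁻¹) := by group
      _ = (a * x * a⁻¹) * (v * s) * ((a * x * a⁻¹)⁻¹ * s⁻¹) := by
        rw [← hF.x_central (inv_mem hax) (inv_mem hfix)]
      _ = ((a * x * a⁻¹) * (v * s) * (a * x * a⁻¹)⁻¹ * (v * s)⁻¹) * v := by group
      _ = c * v := by rw [e]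
  show (a * x * a⁻¹ * x⁻¹) * v = v * (a * x * a⁻¹ * x⁻¹)
  refine mul_inv_eq_iff_eq_mul.1 ?_
  have hxv : x⁻¹ * v * x = c⁻¹ * v := by
    rw [eq_inv_mul_iff_mul_eq]
    calc c * (x⁻¹ * v * x) = (c * x⁻¹) * v * x := by group
      _ = (x⁻¹ * c) * v * x := by rw [hF.x_central (inv_mem hx) hcz]
      _ = v := by rw [hc]; group
  calc (a * x * a⁻¹ * x⁻¹) * v * (a * x * a⁻¹ * x⁻¹)⁻¹
      = (a * x * a⁻¹) * (x⁻¹ * v * x) * (a * x * a⁻¹)⁻¹ := by group
    _ = ((a * x * a⁻¹) * c⁻¹) * (v * (a * x * a⁻¹)⁻¹) := by rw [hxv]; group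
    _ = c⁻¹ * ((a * x * a⁻¹) * v * (a * x * a⁻¹)⁻¹) := by rw [hF.x_central hax (inv_mem hcz)]; group
    _ = v := by rw [h1, inv_mul_cancel_left]

theorem abelian_le (hF : H18.SingPt F t) (hcard : Nat.card F = 512) {H : Subgroup G} (hH : H ≤ F)
    (ht : t ∈ H) {K : Subgroup G} (hK : K ≤ F) (hc : ∀ k ∈ K, ∀ x ∈ H, x * k = k * x) :
    Nat.card H * Nat.card K ≤ 1024 := by
  have h1 := hF.card_mul H hH ht
  have h2 : K ≤ F ⊓ Subgroup.centralizer (H : Set G) := fun k hk =>
    ⟨hK hk, fun x hx => hc k hk x hx⟩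
  calc _ ≤ Nat.card H * Nat.card (F ⊓ Subgroup.centralizer (H : Set G) : Subgroup G) :=
        Nat.mul_le_mul_left _ (Subgroup.card_le_of_le h2)
    _ = 1024 := by rw [h1, hcard]

end Sing

variable {G : Type*} [Group G] [Finite G] {z : G} {Q E : Subgroup G} {π : G → P36}

namespace Base

variable (h : Base z Q π)
include h

theorem π_eq_one {q : G} (hq : q ∈ Q) : π q = 1 := (h.π_ker q (h.sing.comm_x q hq)).2 hq

theorem π_z : π z = 1 := h.π_eq_one h.sing.mem

theorem π_one_split : π 1 = 1 := h.π_eq_one (one_mem _)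

theorem π_inv_split {a : G} (ha : a * z = z * a) : π a⁻¹ = (π a)⁻¹ := by
  refine eq_inv_of_mul_eq_one_left ?_
  rw [← h.π_mul _ _ (Commute.inv_left (show Commute a z from ha)) ha, inv_mul_cancel, h.π_one_split]

end Base

namespace Split

variable (h : Split z Q π E)
include h

theorem q_comm {q : G} (hq : q ∈ Q) : q * z = z * q := h.sing.comm_x q hq

theorem notMem_inter {e : G} (he : e ∈ E) (hc : e ∈ Subgroup.centralizer (E : Set G)) :
    e ∈ Subgroup.zpowers z := by
  by_contra hne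
  have h1 : e ≠ 1 := fun e' => hne (e' ▸ one_mem _)
  have h2 : e ≠ z := fun e' => hne (e' ▸ Subgroup.mem_zpowers _)
  have hee := h.sqE e he h1 h2
  have hord : Nat.card (Subgroup.zpowers e) = 4 := by
    rw [Nat.card_zpowers]
    exact orderOf_eq_prime_pow (p := 2) (n := 1) (by rw [pow_one, pow_two, hee]; exact h.sing.xne)
      (by rw [show (2 : ℕ) ^ (1 + 1) = 2 + 2 from rfl, pow_add, pow_two, hee, h.sing.xx])
  obtain ⟨e', he', hne'⟩ : ∃ e' ∈ E, e' ∉ Subgroup.zpowers e := by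
    by_contra hcon
    push Not at hcon
    have := Subgroup.card_le_of_le (H := E) (K := Subgroup.zpowers e) hcon
    rw [hord, h.cardE] at this
    omega
  have hzm : z ∈ Subgroup.zpowers e := hee ▸ mul_mem (Subgroup.mem_zpowers e) (Subgroup.mem_zpowers e)
  have h1' : e' ≠ 1 := fun e1 => hne' (e1 ▸ one_mem _)
  have h2' : e' ≠ z := fun e1 => hne' (e1 ▸ hzm)
  have hee' := h.sqE e' he' h1' h2'
  have hcomm : Commute e e' := ((Subgroup.mem_centralizer_iff.1 hc) e' he').symm
  have hsq : e * e' * (e * e') = 1 := by rw [hcomm.symm.mul_mul_mul_comm, hee, hee', h.sing.xx]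
  have hmem : e * e' ∈ Subgroup.zpowers e := by
    by_contra hn
    have := h.sqE _ (mul_mem he he') (fun e1 => hn (e1 ▸ one_mem _)) (fun e1 => hn (e1 ▸ hzm))
    exact h.sing.xne (this.symm.trans hsq)
  exact hne' ((Subgroup.mul_mem_cancel_left _ (Subgroup.mem_zpowers e)).1 hmem)

theorem exists_outside : ∃ e ∈ E, e ∉ Subgroup.zpowers z := by
  by_contra hcon
  push Not at hcon
  have := Subgroup.card_le_of_le (H := E) (K := Subgroup.zpowers z) hcon
  rw [Nat.card_zpowers, orderOf_eq_prime (p := 2) (by rw [pow_two, h.sing.xx]) h.sing.xne, h.cardE] at this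
  omega

theorem sq_outside {e : G} (he : e ∈ E) (hn : e ∉ Subgroup.zpowers z) : e * e = z :=
  h.sqE e he (fun e' => hn (e' ▸ one_mem _)) (fun e' => hn (e' ▸ Subgroup.mem_zpowers _))

theorem not_commute {e e' : G} (he : e ∈ E) (he' : e' ∈ E) (hn : e ∉ Subgroup.zpowers z)
    (hn' : e' ∉ Subgroup.zpowers z) (hd : e⁻¹ * e' ∉ Subgroup.zpowers z) : ¬ Commute e e' := fun hc => by
  have h1 := h.sq_outside he hn
  have h2 := h.sq_outside he' hn'
  have h3 := h.sq_outside (mul_mem (inv_mem he) he') hd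
  rw [hc.inv_left.symm.mul_mul_mul_comm, ← mul_inv_rev, h1, h2, inv_mul_cancel] at h3
  exact h.sing.xne h3.symm

/-- An element centralizing two non-commuting elements of `E` centralizes `E`. -/
theorem centralizes {r e e' : G} (he : e ∈ E) (he' : e' ∈ E) (hne : ¬ Commute e e')
    (hr : Commute r e) (hr' : Commute r e') : ∀ x ∈ E, Commute r x := by
  set C := E ⊓ Subgroup.centralizer ({r} : Set G) with hC
  have heC : e ∈ C := ⟨he, Subgroup.mem_centralizer_singleton_iff.2 hr.symm⟩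
  have he'C : e' ∈ C := ⟨he', Subgroup.mem_centralizer_singleton_iff.2 hr'.symm⟩
  have hd : Nat.card C ∣ 8 := h.cardE ▸ Subgroup.card_dvd_of_le inf_le_left
  have h4 : 4 < Nat.card C := by
    by_contra hc
    have hn : e ∉ Subgroup.zpowers z := fun hz => hne (h.sing.x_central (h.le he') hz).symm
    have hee := h.sq_outside he hn
    have hord : Nat.card (Subgroup.zpowers e) = 4 := by
      rw [Nat.card_zpowers]
      exact orderOf_eq_prime_pow (p := 2) (n := 1) (by rw [pow_one, pow_two, hee]; exact h.sing.xne)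
        (by rw [show (2 : ℕ) ^ (1 + 1) = 2 + 2 from rfl, pow_add, pow_two, hee, h.sing.xx])
    have := Subgroup.eq_of_le_of_card_ge (Subgroup.zpowers_le.2 heC) (by omega)
    rw [← this] at he'C
    obtain ⟨n, hn'⟩ := Subgroup.mem_zpowers_iff.1 he'C
    exact hne (hn' ▸ (Commute.refl e).zpow_right n)
  have h8 : C = E := Subgroup.eq_of_le_of_card_ge inf_le_left (by
    rw [h.cardE]
    have := Nat.le_of_dvd (by norm_num) hd
    by_contra hcon
    interval_cases hh : Nat.card C <;> omega)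
  intro x hx
  rw [← h8] at hx
  exact (Subgroup.mem_centralizer_singleton_iff.1 hx.2).symm

theorem norm_comm {a : G} (ha : a * z = z * a) {y : G}
    (hy : y ∈ Q ⊓ Subgroup.centralizer (E : Set G)) :
    a * y * a⁻¹ ∈ Q ⊓ Subgroup.centralizer (E : Set G) := by
  refine ⟨h.sing.norm a ha y hy.1, fun e he => ?_⟩
  have ha' : a⁻¹ * z = z * a⁻¹ := Commute.inv_left (show Commute a z from ha)
  have h1 := h.norm a⁻¹ ha' e he
  rw [inv_inv] at h1
  have h2 : a⁻¹ * e * a * y = y * (a⁻¹ * e * a) := hy.2 _ h1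
  calc e * (a * y * a⁻¹) = a * (a⁻¹ * e * a * y) * a⁻¹ := by group
    _ = _ := by rw [h2]; group

theorem fst_eq_one {a : G} (ha : a * z = z * a) (h2 : (π a).1 * (π a).1 = 1)
    (hs : Perm.sign (π a).1 = 1) : ∀ e ∈ E, e⁻¹ * (a * e * a⁻¹) ∈ Subgroup.zpowers z :=
  h.fst_fix a ha (s3_sq _ h2 hs)

theorem conj_eq {a : G} {e : G} (hd : e⁻¹ * (a * e * a⁻¹) ∈ Subgroup.zpowers z) :
    a * e = e * a ∨ a * e * a⁻¹ = e * z := by
  rcases h.sing.pair hd with e1 | e1
  · exact Or.inl (mul_inv_eq_iff_eq_mul.1 (inv_mul_eq_one.1 e1).symm)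
  · exact Or.inr (inv_mul_eq_iff_eq_mul.1 e1)

/-- No other conjugate of `z` lies in `Q`. -/
theorem isolated_Q {g : G} (hQ : g * z * g⁻¹ ∈ Q) : g * z * g⁻¹ = z := by
  by_contra hne
  set t := g * z * g⁻¹ with ht
  set Qt := cQ Q g with hQt
  have k := h.conj g
  rw [← ht, ← hQt] at k
  have hz : z ∈ Qt := h.toBase.symm hQ
  have htz : Commute t z := h.q_comm hQ
  set Q0 := Q ⊓ Subgroup.centralizer (E : Set G) with hQ0
  set B := Qt ⊓ Subgroup.centralizer ({z} : Set G) with hB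
  set X := Q ⊓ Qt with hX
  have hBz : ∀ b ∈ B, b * z = z * b := fun b hb => Subgroup.mem_centralizer_singleton_iff.1 hb.2
  have hB256 : 256 ≤ Nat.card B := by
    have h1 : Nat.card Qt ≤ 2 * Nat.card B := card_le_half k.sing (a := z) (N := Qt) le_rfl (fun x hx => by
      have := k.sing.comm (inv_mem hx) hz
      rwa [inv_inv, show x⁻¹ * z * x * z⁻¹ = x⁻¹ * (z * x * z⁻¹) by group] at this)
    have h2 := k.card
    omega
  let ρ : B →* P36 :=
    { toFun := fun b => π b
      map_one' := h.toBase.π_one_split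
      map_mul' := fun a b => h.π_mul _ _ (hBz _ a.2) (hBz _ b.2) }
  have hR : ∀ p ∈ ρ.range, p * p = 1 := by
    rintro _ ⟨b, rfl⟩
    show π b * π b = 1
    rw [← h.π_mul _ _ (hBz _ b.2) (hBz _ b.2)]
    refine h.toBase.π_eq_one ?_
    rcases k.sing.pair (k.sing.sq b.2.1) with e | e <;> rw [e]
    · exact one_mem _
    · exact hQ
  have hker : Nat.card ρ.ker ≤ Nat.card X := by
    rw [← Subgroup.card_map_of_injective B.subtype_injective]
    refine Subgroup.card_le_of_le ?_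
    rintro _ ⟨b, hb, rfl⟩
    exact ⟨(h.π_ker _ (hBz _ b.2)).1 hb, b.2.1⟩
  have hcount : 256 ≤ Nat.card ρ.range * Nat.card X := by
    have h1 : Nat.card ρ.range * Nat.card ρ.ker = Nat.card B := by
      rw [← Subgroup.index_ker, Subgroup.index_mul_card]
    exact le_trans (hB256.trans h1.ge) (Nat.mul_le_mul_left _ hker)
  have hsq : ∀ x ∈ X, x * x = 1 := fun x hx => by
    rcases h.sing.pair (h.sing.sq hx.1) with e | e
    · exact e
    · rcases k.sing.pair (k.sing.sq hx.2) with e' | e'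
      · exact e'
      · exact absurd (e'.symm.trans e) hne
  have hcomm : ∀ x ∈ X, ∀ y ∈ X, x * y = y * x := fun x hx y hy => by
    have e1 : x * y * (x * y) = 1 := hsq _ (mul_mem hx hy)
    calc x * y = x * (x * y * (x * y)) * y := by rw [e1, mul_one]
      _ = (x * x) * (y * x) * (y * y) := by group
      _ = y * x := by rw [hsq x hx, hsq y hy, one_mul, mul_one]
  by_cases ht0 : t ∈ Q0
  · obtain ⟨a₀, ha₀, hπ₀⟩ := h.π_range cyc (by simp [cyc, sign_finRotate]) (by simp [cyc])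
    obtain ⟨a, ha, hπa, hat⟩ : ∃ a, a * z = z * a ∧ π a = cyc ∧ Commute a t := by
      rcases h.conj_eq (h.cyc_fix a₀ ha₀ hπ₀ t ht0) with e | e
      · exact ⟨a₀, ha₀, hπ₀, e⟩
      · obtain ⟨q, hq, hqt⟩ : ∃ q ∈ Q, ¬ Commute q t := by
          by_contra hcon
          push Not at hcon
          rcases h.sing.cent t (fun w hw => hcon w hw) with e | e
          · exact k.sing.xne e
          · exact hne e
        have hqtz : q * t * q⁻¹ = t * z := by
          rcases h.sing.pair (h.sing.comm hq hQ) with e1 | e1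
          · exact absurd (mul_inv_eq_iff_eq_mul.1 (mul_inv_eq_one.1 e1)) hqt
          · rw [mul_inv_eq_iff_eq_mul.1 e1, ← h.q_comm hQ]
        refine ⟨q * a₀, (Commute.mul_left (h.q_comm hq) (show Commute a₀ z from ha₀)), ?_, ?_⟩
        · rw [h.π_mul _ _ (h.q_comm hq) ha₀, h.toBase.π_eq_one hq, one_mul, hπ₀]
        · refine mul_inv_eq_iff_eq_mul.1 ?_
          calc q * a₀ * t * (q * a₀)⁻¹ = q * (a₀ * t * a₀⁻¹) * q⁻¹ := by group
            _ = (q * t * q⁻¹) * (q * z * q⁻¹) := by rw [e]; group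
            _ = t * (z * z) := by rw [hqtz, h.q_comm hq]; group
            _ = t := by rw [h.sing.xx, mul_one]
    have hR1 : ∀ p ∈ ρ.range, p.1 = 1 := by
      rintro _ ⟨b, rfl⟩
      have hb' : a * b * a⁻¹ ∈ B := ⟨k.sing.norm a hat b b.2.1, Subgroup.mem_centralizer_singleton_iff.2
        (((show Commute a z from ha).mul_left (hBz _ b.2)).mul_left (Commute.inv_left (show Commute a z from ha)))⟩
      have hp : π (a * b * a⁻¹) = cyc * π b * cyc⁻¹ := by
        rw [h.π_mul _ _ ((show Commute a z from ha).mul_left (hBz _ b.2)) (Commute.inv_left (show Commute a z from ha)),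
          h.π_mul _ _ ha (hBz _ b.2), h.toBase.π_inv_split ha, hπa]
      have h1 := congrArg Prod.fst (hR _ ⟨b, rfl⟩)
      have h2 := congrArg Prod.fst (hR _ (mul_mem (⟨⟨_, hb'⟩, rfl⟩ : ρ ⟨_, hb'⟩ ∈ ρ.range) ⟨b, rfl⟩))
      change (π b).1 * (π b).1 = 1 at h1
      change ((π (a * b * a⁻¹)) * π b).1 * ((π (a * b * a⁻¹)) * π b).1 = 1 at h2
      rw [hp] at h2
      exact s3_cyc _ h1 h2
    have hR8 := card_elementary_snd _ hR hR1
    have hXQ0 : X ≤ Q0 := by
      intro x hx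
      obtain ⟨e, he, y, hy, rfl⟩ := h.split x hx.1
      suffices hez : e ∈ Subgroup.zpowers z from
        ⟨hx.1, Subgroup.mem_centralizer_iff.2 fun w hw =>
          ((show Commute w e from h.sing.x_central (h.le hw) hez).mul_right (hy.2 w hw))⟩
      by_contra hn
      have hd : e⁻¹ * (a * e * a⁻¹) ∈ E := mul_mem (inv_mem he) (h.norm a ha e he)
      have hdn : e⁻¹ * (a * e * a⁻¹) ∉ Subgroup.zpowers z := fun hc => hn (h.cyc_move a ha hπa e he hc)
      have hs := h.cyc_fix a ha hπa y hy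
      have hmem : (e * y)⁻¹ * (a * (e * y) * a⁻¹) ∈ X :=
        mul_mem (inv_mem hx) ⟨h.sing.norm a ha _ hx.1, k.sing.norm a hat _ hx.2⟩
      have heq : (e * y)⁻¹ * (a * (e * y) * a⁻¹) =
          (e⁻¹ * (a * e * a⁻¹)) * (y⁻¹ * (a * y * a⁻¹)) := by
        calc (e * y)⁻¹ * (a * (e * y) * a⁻¹) = y⁻¹ * (e⁻¹ * (a * e * a⁻¹)) * (a * y * a⁻¹) := by group
          _ = (e⁻¹ * (a * e * a⁻¹)) * y⁻¹ * (a * y * a⁻¹) := by
            rw [(show Commute (e⁻¹ * (a * e * a⁻¹)) y from hy.2 _ hd).inv_right.eq]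
          _ = _ := by group
      have hsq' := hsq _ hmem
      rw [heq, h.sing.sq_eq_of_coset' (h.le hd) (by
        rw [inv_mul_cancel_left]; exact hs), h.sq_outside hd hdn] at hsq'
      exact h.sing.xne hsq'
    obtain ⟨e, he, hen⟩ := h.exists_outside
    have heX : e ∉ X := fun hc => hen (h.notMem_inter he (hXQ0 hc).2)
    have hd := card_double (H := X) (K := Q ⊓ Subgroup.centralizer (X : Set G)) (b := e)
      (fun x hx => ⟨hx.1, fun w hw => hcomm w hw x hx⟩)
      ⟨h.le he, fun w hw => ((hXQ0 hw).2 e he).symm⟩ heX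
    have hb := h.sing.card_mul X inf_le_left ⟨h.sing.mem, hz⟩
    rw [h.card] at hb
    have h32 : 32 ≤ Nat.card X := by nlinarith
    nlinarith
  · let B0 : Subgroup G := (((MonoidHom.fst _ _).comp ρ).ker).map B.subtype
    have hB0 : Nat.card B ≤ 2 * Nat.card B0 := by
      rw [Subgroup.card_map_of_injective B.subtype_injective]
      exact card_le_fst _ fun b => congrArg Prod.fst (hR _ ⟨b, rfl⟩)
    have hle := abelian_le k.sing k.card (H := X) inf_le_right ⟨hQ, k.sing.mem⟩ (K := B0) ?_ ?_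
    · have hR16 := card_elementary_P36 _ hR
      have h8 : Nat.card X ≤ 8 := by nlinarith
      nlinarith
    · rintro _ ⟨b, -, rfl⟩; exact b.2.1
    · rintro _ ⟨b, hb, rfl⟩ x hx
      change (π b).1 = 1 at hb
      have hbz := hBz _ b.2
      obtain ⟨e, he, y, hy, hxy⟩ := h.split x hx.1
      have hy' : (b : G) * y * (b : G)⁻¹ ∈ Q0 := h.norm_comm hbz hy
      have hs := h.fst_fix _ hbz hb e he
      obtain ⟨s, hs'⟩ : ∃ s, s = e⁻¹ * ((b : G) * e * (b : G)⁻¹) := ⟨_, rfl⟩
      rw [← hs'] at hs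
      have hc : (b : G) * x * (b : G)⁻¹ * x⁻¹ ∈ Q0 := by
        have hyy : (b : G) * y * (b : G)⁻¹ * y⁻¹ ∈ Q0 := mul_mem hy' (inv_mem hy)
        have : (b : G) * x * (b : G)⁻¹ * x⁻¹ = s * ((b : G) * y * (b : G)⁻¹ * y⁻¹) := by
          calc (b : G) * x * (b : G)⁻¹ * x⁻¹
              = e * (s * ((b : G) * y * (b : G)⁻¹ * y⁻¹)) * e⁻¹ := by rw [hxy, hs']; group
            _ = _ := by
              have hz' : Commute e s := h.sing.x_central (h.le he) hs
              have hyc : Commute e ((b : G) * y * (b : G)⁻¹ * y⁻¹) := hyy.2 e he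
              rw [(hz'.mul_right hyc).eq, mul_inv_cancel_right]
        rw [this]
        refine mul_mem ?_ hyy
        exact ⟨h.sing.zp_le hs, Subgroup.mem_centralizer_iff.2 fun w hw => h.sing.x_central (h.le hw) hs⟩
      rcases k.sing.pair (k.sing.comm b.2.1 hx.2) with e1 | e1
      · exact (mul_inv_eq_iff_eq_mul.1 (mul_inv_eq_one.1 e1)).symm
      · exact absurd (e1 ▸ hc) ht0

theorem notMem_Q {u : G} (hu : IsConj z u) (hne : u ≠ z) : u ∉ Q := by
  obtain ⟨g, rfl⟩ := isConj_iff.1 hu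
  exact fun hq => hne (h.isolated_Q hq)

theorem z_notMem {g : G} (hne : g * z * g⁻¹ ≠ z) : z ∉ cQ Q g := fun hz => by
  rw [mem_cQ] at hz
  have := h.isolated_Q (g := g⁻¹) (by rwa [inv_inv])
  rw [inv_inv] at this
  refine hne ?_
  conv_lhs => rw [← this]
  group

theorem conj_sq {u : G} (hu : IsConj z u) : u * u = 1 := by
  obtain ⟨g, rfl⟩ := isConj_iff.1 hu
  exact (h.sing.conj g).xx

/-- A commuting conjugate does not centralize `E`. -/
theorem exists_moved {u : G} (hu : IsConj z u) (hc : u * z = z * u) (hne : u ≠ z) :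
    ∃ e ∈ E, ¬ Commute u e := by
  by_contra hcon
  push Not at hcon
  obtain ⟨g, rfl⟩ := isConj_iff.1 hu
  have k := h.toBase.conj g
  have hζ : cπ π g z ≠ 1 := fun e => h.z_notMem hne ((k.π_ker z hc.symm).1 e)
  obtain ⟨i, hi, hin⟩ := h.exists_outside
  have hi2 := h.sq_outside hi hin
  have hiu : i * (g * z * g⁻¹) = g * z * g⁻¹ * i := (hcon i hi).eq.symm
  have hz2 : cπ π g z = cπ π g i * cπ π g i := by rw [← k.π_mul _ _ hiu hiu, hi2]
  have hfst : (cπ π g z).1 = 1 := by
    rw [hz2]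
    refine s3_four _ ?_
    have : cπ π g z * cπ π g z = 1 := by rw [← k.π_mul _ _ hc.symm hc.symm, h.sing.xx, k.π_one_split]
    rw [hz2] at this
    exact congrArg Prod.fst this
  obtain ⟨x, hx⟩ : ∃ x : Fin 6, (cπ π g z).2 x ≠ x := by
    by_contra hall
    push Not at hall
    exact hζ (Prod.ext hfst (Equiv.ext hall))
  let f : E →* Perm (Fin 6) :=
    { toFun := fun e => (cπ π g e).2
      map_one' := by
        show (cπ π g 1).2 = 1
        rw [k.π_one_split]; rfl
      map_mul' := fun a b => by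
        show (cπ π g ((a : G) * b)).2 = _
        rw [k.π_mul _ _ (hcon _ a.2).eq.symm (hcon _ b.2).eq.symm]; rfl }
  have hfix : ∀ e : E, f e x = x → e = 1 := by
    intro e he
    by_contra hne1
    apply hx
    by_cases hez : (e : G) = z
    · show (cπ π g z).2 x = x
      rw [← hez]; exact he
    · have hee : (⟨z, h.mem⟩ : E) = e * e := Subtype.ext
        (h.sqE e e.2 (fun e' => hne1 (Subtype.ext e')) hez).symm
      show f ⟨z, h.mem⟩ x = x
      rw [hee, map_mul, Perm.mul_apply, he, he]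
  have hinj : Function.Injective fun e : E => f e x := by
    intro a b hab
    simp only at hab
    refine inv_mul_eq_one.1 (hfix _ ?_)
    rw [map_mul, map_inv, Perm.mul_apply, ← hab, Perm.coe_inv, Equiv.symm_apply_apply]
  have := Nat.card_le_card_of_injective _ hinj
  rw [h.cardE, Nat.card_fin] at this
  omega

/-- The structure of an inner pair. -/
theorem even_setup {u : G} (hu : IsConj z u) (hc : u * z = z * u) (hne : u ≠ z)
    (hs : Perm.sign (π u).1 = 1) :
    ∃ f ∈ E, ∃ e ∈ E, Commute u f ∧ f * f = z ∧ u * e * u⁻¹ = e * z ∧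
      ∀ x ∈ E, Commute u x ∨ u * x * u⁻¹ = x * z := by
  have h2 : (π u).1 * (π u).1 = 1 := by
    have := congrArg Prod.fst (h.π_mul u u hc hc)
    rw [h.conj_sq hu, h.toBase.π_one_split] at this
    exact this.symm
  have hdi : ∀ x ∈ E, Commute u x ∨ u * x * u⁻¹ = x * z :=
    fun x hx => h.conj_eq (h.fst_eq_one hc h2 hs x hx)
  obtain ⟨e, he, hnc⟩ := h.exists_moved hu hc hne
  have hez := (hdi e he).resolve_left hnc
  have hen : e ∉ Subgroup.zpowers z := fun hz => hnc (by
    rcases h.sing.pair hz with rfl | rfl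
    · exact Commute.one_right u
    · exact hc)
  obtain ⟨e', he', hne', hne''⟩ : ∃ e' ∈ E, e' ∉ Subgroup.zpowers z ∧ e * e' ∉ Subgroup.zpowers z := by
    by_contra hcon
    push Not at hcon
    have hle : E ≤ Subgroup.zpowers e := fun x hx => by
      have hzm : Subgroup.zpowers z ≤ Subgroup.zpowers e := Subgroup.zpowers_le.2
        (h.sq_outside he hen ▸ mul_mem (Subgroup.mem_zpowers e) (Subgroup.mem_zpowers e))
      by_cases hxz : x ∈ Subgroup.zpowers z
      · exact hzm hxz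
      · exact (Subgroup.mul_mem_cancel_left _ (Subgroup.mem_zpowers e)).1 (hzm (hcon x hx hxz))
    exact hen (h.notMem_inter he (Subgroup.mem_centralizer_iff.2 fun w hw => by
      obtain ⟨n, hn⟩ := Subgroup.mem_zpowers_iff.1 (hle hw)
      rw [← hn]; exact ((Commute.refl e).zpow_left n).eq))
  rcases hdi e' he' with e1 | e1
  · exact ⟨e', he', e, he, e1, h.sq_outside he' hne', hez, hdi⟩
  · refine ⟨e * e', mul_mem he he', e, he, mul_inv_eq_iff_eq_mul.1 ?_,
      h.sq_outside (mul_mem he he') hne'', hez, hdi⟩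
    calc u * (e * e') * u⁻¹ = (u * e * u⁻¹) * (u * e' * u⁻¹) := by group
      _ = e * (z * e') * z := by rw [hez, e1]; group
      _ = e * e' * (z * z) := by rw [← h.q_comm (h.le he')]; group
      _ = e * e' := by rw [h.sing.xx, mul_one]

/-- Commutators with `z` inside the conjugate point. -/
theorem moved_conj {x : G} : z * (z * x * z⁻¹ * x⁻¹) * z⁻¹ = (z * x * z⁻¹ * x⁻¹)⁻¹ ∧
    x * z * x⁻¹ = z * (z * x * z⁻¹ * x⁻¹) := by
  have hinv : z⁻¹ = z := h.sing.x_inv
  constructor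
  · calc z * (z * x * z⁻¹ * x⁻¹) * z⁻¹ = (z * z) * x * z⁻¹ * x⁻¹ * z⁻¹ := by group
      _ = x * z * x⁻¹ * z⁻¹ := by rw [h.sing.xx, one_mul, hinv]
      _ = _ := by group
  · rw [show z * (z * x * z⁻¹ * x⁻¹) = (z * z) * x * z⁻¹ * x⁻¹ by group, h.sing.xx, one_mul, hinv]

theorem conj_flip {e t : G} (ht : z * e * z⁻¹ = e * t) (hc : Commute e t) : e * z * e⁻¹ = z * t := by
  have hinv : z⁻¹ = z := h.sing.x_inv
  calc e * z * e⁻¹ = z * (z⁻¹ * e * z) * e⁻¹ := by group
    _ = z * (e * t) * e⁻¹ := by rw [show z⁻¹ * e * z = z * e * z⁻¹ by rw [hinv], ht]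
    _ = _ := by rw [hc.eq]; group

/-- There is no inner pair. -/
theorem odd_fst {u : G} (hu : IsConj z u) (hc : u * z = z * u) (hne : u ≠ z) :
    Perm.sign (π u).1 = -1 := by
  refine (Int.units_eq_one_or _).resolve_left fun hs => ?_
  obtain ⟨f, hf, e₀, he₀, huf, hff, he₀z, hdi⟩ := h.even_setup hu hc hne hs
  have hu' := hu
  obtain ⟨g, rfl⟩ := isConj_iff.1 hu'
  set t := g * z * g⁻¹ with ht
  set Qt := cQ Q g with hQt
  set Et := cQ E g with hEt
  have k := h.conj g
  rw [← ht, ← hQt, ← hEt] at k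
  have hzt : z * t = t * z := hc.symm
  have hfz : f * z = z * f := h.q_comm (h.le hf)
  have hζ : Perm.sign (cπ π g z).1 = 1 := by
    have h1 : cπ π g z = cπ π g f * cπ π g f := by rw [← k.π_mul _ _ huf.eq.symm huf.eq.symm, hff]
    rw [h1, Prod.fst_mul, map_mul]
    exact Int.units_mul_self _
  obtain ⟨f', hf', e', he', hzf', hf'sq, he'z, -⟩ := k.even_setup hu.symm hzt (Ne.symm hne) hζ
  -- square roots of `t` are odd
  have hodd : ∀ d, d * z = z * d → d * d = t → Perm.sign (π d).1 = -1 := by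
    intro d hd hdd
    refine (Int.units_eq_one_or _).resolve_left fun hd1 => ?_
    have h4 : (π d).1 * (π d).1 = 1 := by
      refine s3_four _ ?_
      have e1 := congrArg Prod.fst (h.π_mul _ _ (hdd ▸ hc) (hdd ▸ hc))
      rw [hdd, h.conj_sq hu, h.toBase.π_one_split] at e1
      have e2 := congrArg Prod.fst (h.π_mul d d hd hd)
      rw [hdd] at e2
      simp only [Prod.fst_mul] at e1 e2
      rw [← e2]; exact e1.symm
    have hfix := h.fst_eq_one hd h4 hd1 e₀ he₀
    have h1 : t * e₀ * t⁻¹ = e₀ := by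
      have h2 : d * z * d⁻¹ = z := by rw [hd, mul_inv_cancel_right]
      rcases h.conj_eq hfix with e1 | e1
      · rw [← hdd]
        calc d * d * e₀ * (d * d)⁻¹ = d * (d * e₀ * d⁻¹) * d⁻¹ := by group
          _ = e₀ := by rw [e1, mul_inv_cancel_right, e1, mul_inv_cancel_right]
      · rw [← hdd]
        calc d * d * e₀ * (d * d)⁻¹ = d * (d * e₀ * d⁻¹) * d⁻¹ := by group
          _ = d * (e₀ * z) * d⁻¹ := by rw [e1]
          _ = (d * e₀ * d⁻¹) * (d * z * d⁻¹) := by group
          _ = e₀ * (z * z) := by rw [e1, h2]; group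
          _ = e₀ := by rw [h.sing.xx, mul_one]
    rw [he₀z] at h1
    exact h.sing.xne (mul_eq_left.1 h1)
  have hf'z : f' * z = z * f' := hzf'.eq.symm
  have hf'odd := hodd f' hf'z hf'sq
  set Qt0 := Qt ⊓ Subgroup.centralizer (Et : Set G) with hQt0
  -- the element `y`
  obtain ⟨x, hx, hy2, hyn⟩ : ∃ x ∈ Qt0, (z * x * z⁻¹ * x⁻¹) * (z * x * z⁻¹ * x⁻¹) = 1 ∧
      z * x * z⁻¹ * x⁻¹ ∉ Subgroup.zpowers t := by
    obtain ⟨x, hx, hxn⟩ : ∃ x ∈ Qt0, z * x * z⁻¹ * x⁻¹ ∉ Subgroup.zpowers t := by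
      by_contra hcon
      push Not at hcon
      refine h.z_notMem hne (k.sing.mem_of_disp hzt fun q hq => ?_)
      obtain ⟨e, he, y, hy, rfl⟩ := k.split q hq
      have hy' : y⁻¹ * (z * y * z⁻¹) ∈ Subgroup.zpowers t := by
        have h1 := hcon y hy
        rcases k.sing.pair h1 with e1 | e1
        · rw [mul_inv_eq_one.1 e1, inv_mul_cancel]; exact one_mem _
        · rw [mul_inv_eq_iff_eq_mul.1 e1, ← k.q_comm hy.1, inv_mul_cancel_left]; exact Subgroup.mem_zpowers _
      have he'' := k.fst_eq_one hzt (by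
        have e1 := congrArg Prod.fst (k.π_mul z z hzt hzt)
        rw [h.sing.xx, k.toBase.π_one_split] at e1
        exact e1.symm) hζ e he
      exact ((k.sing.fixSub z (Subgroup.zpowers t) (Subgroup.mem_zpowers t) k.sing.zp_le).mul_mem
        ⟨k.le he, he''⟩ ⟨hy.1, hy'⟩).2
    set y := z * x * z⁻¹ * x⁻¹ with hy
    have hyQ : y ∈ Qt0 := mul_mem (k.norm_comm hzt hx) (inv_mem hx)
    by_cases hy2 : y * y = 1
    · exact ⟨x, hx, hy2, hxn⟩
    have hy2t : y * y = t := (k.sing.pair (k.sing.sq hyQ.1)).resolve_left hy2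
    have hfix : ∀ w ∈ Qt, z * w * z⁻¹ = w⁻¹ → w⁻¹ * (z * w * z⁻¹) ∈ Subgroup.zpowers t := fun w hw e => by
      rw [e, ← mul_inv_rev]; exact inv_mem (k.sing.sq hw)
    have hft : f * t = t * f := huf.eq.symm
    set x' := f * x * f⁻¹ with hx'
    have hx'Q : x' ∈ Qt0 := k.norm_comm hft hx
    have hy' : z * x' * z⁻¹ * x'⁻¹ = f * y * f⁻¹ := by
      rw [hx', hy]
      calc z * (f * x * f⁻¹) * z⁻¹ * (f * x * f⁻¹)⁻¹
          = (z * f) * x * (z * f)⁻¹ * f * x⁻¹ * f⁻¹ := by group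
        _ = _ := by rw [← hfz]; group
    set y' := f * y * f⁻¹ with hy'def
    have hy'Q : y' ∈ Qt := k.sing.norm f hft y hyQ.1
    have hy'2 : y' * y' = t := by rw [hy'def, conj_mul, hy2t, hft, mul_inv_cancel_right]
    have hyy' : Commute y y' := comm_moved k.sing hzt hx.1 hy'Q
      (hfix y' hy'Q (by rw [← hy']; exact (h.moved_conj).1))
    by_cases hyy : y⁻¹ * y' ∈ Subgroup.zpowers t
    · exfalso
      set v := f * x * f⁻¹ * x⁻¹ with hv
      have hvQ : v ∈ Qt := mul_mem hx'Q.1 (inv_mem hx.1)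
      have hzv : z * v * z⁻¹ = y' * v * y⁻¹ := by
        rw [← hy', hv, hy, hx']; group
      have hyv : Commute y v := by
        refine comm_moved k.sing hzt hx.1 hvQ ?_
        rw [hzv, show v⁻¹ * (y' * v * y⁻¹) = (v⁻¹ * (y' * v * y'⁻¹)) * (y' * y⁻¹) by group]
        refine mul_mem ?_ ?_
        · have := k.sing.comm (inv_mem hvQ) hy'Q
          rwa [inv_inv, show v⁻¹ * y' * v * y'⁻¹ = v⁻¹ * (y' * v * y'⁻¹) by group] at this
        · have h1 : y' * y⁻¹ = y * (y⁻¹ * y') * y⁻¹ := by group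
          rw [h1, k.sing.x_central hyQ.1 hyy, mul_inv_cancel_right]
          exact hyy
      have hfv : f * v * f⁻¹ = y * v⁻¹ := by
        calc f * v * f⁻¹ = (f * f) * x * (f * f)⁻¹ * (f * x * f⁻¹)⁻¹ := by rw [hv]; group
          _ = _ := by rw [hff, hy, hv]; group
      have h1 : (y * v⁻¹) * (y * v⁻¹) = v * v := by
        rw [← hfv, conj_mul, k.sing.central_zp_mul' hft (k.sing.sq hvQ)]
      rw [hyv.inv_right.symm.mul_mul_mul_comm, hy2t] at h1
      have h2 : v⁻¹ * v⁻¹ = v * v := by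
        rcases k.sing.pair (k.sing.sq hvQ) with e1 | e1
        · rw [← mul_inv_rev, e1, inv_one]
        · rw [← mul_inv_rev, e1, k.sing.x_inv]
      rw [h2, mul_eq_right] at h1
      exact k.sing.xne h1
    · obtain ⟨c, hc⟩ : ∃ c, c = x * y' * x⁻¹ * y'⁻¹ := ⟨_, rfl⟩
      have hct : c ∈ Subgroup.zpowers t := hc ▸ k.sing.comm hx.1 hy'Q
      have e1 : z * (x * x') * z⁻¹ * (x * x')⁻¹ = y * c * y' := by
        calc z * (x * x') * z⁻¹ * (x * x')⁻¹ = (z * x * z⁻¹) * (z * x' * z⁻¹ * x'⁻¹) * x⁻¹ := by group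
          _ = _ := by rw [hy', hc, hy]; group
      have hcc : c * c = 1 := by rcases k.sing.pair hct with e2 | e2 <;> simp [e2, k.sing.xx]
      refine ⟨x * x', mul_mem hx hx'Q, ?_, ?_⟩ <;> rw [e1, k.sing.x_central hyQ.1 hct]
      · calc c * y * y' * (c * y * y') = c * ((y * y') * c) * (y * y') := by group
          _ = c * c * ((y * y') * (y * y')) := by
            rw [k.sing.x_central (mul_mem hyQ.1 hy'Q) hct]; group
          _ = 1 := by rw [hcc, hyy'.symm.mul_mul_mul_comm, hy2t, hy'2, k.sing.xx, one_mul]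
      · intro hmem
        refine hyy ?_
        rw [mul_assoc, Subgroup.mul_mem_cancel_left _ hct] at hmem
        rw [show y⁻¹ * y' = (y * y)⁻¹ * (y * y') by group]
        exact mul_mem (inv_mem (k.sing.sq hyQ.1)) hmem
  set y := z * x * z⁻¹ * x⁻¹ with hy
  have hyQ : y ∈ Qt0 := mul_mem (k.norm_comm hzt hx) (inv_mem hx)
  have hyz : y * z = z * y := by
    have h1 := (h.moved_conj (x := x)).1
    rw [← hy, inv_eq_of_mul_eq_one_right hy2] at h1
    exact (mul_inv_eq_iff_eq_mul.1 h1).symm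
  have hyf' : Commute f' y := hyQ.2 f' hf'
  have hu1 : x * z * x⁻¹ = z * y := h.moved_conj.2
  have hu2 : (x * e') * z * (x * e')⁻¹ = z * y * t := by
    calc (x * e') * z * (x * e')⁻¹ = x * (e' * z * e'⁻¹) * x⁻¹ := by group
      _ = (x * z * x⁻¹) * (x * t * x⁻¹) := by rw [h.conj_flip he'z (k.q_comm (k.le he'))]; group
      _ = _ := by rw [hu1, k.q_comm hx.1, mul_inv_cancel_right]
  have hyfst : Perm.sign (π y).1 = 1 := by
    refine (Int.units_eq_one_or _).resolve_right fun hyo => ?_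
    have h1 := hodd (y * f') ((show Commute y z from hyz).mul_left hf'z) (by
      rw [hyf'.mul_mul_mul_comm, hy2, hf'sq, one_mul])
    rw [h.π_mul _ _ hyz hf'z, Prod.fst_mul, map_mul, hyo, hf'odd] at h1
    exact absurd h1 (by decide)
  obtain ⟨em, hem, hemn⟩ := h.fst_move f' hf'z hf'odd
  have hemz : em ∉ Subgroup.zpowers z := fun hc' => hemn (by
    rw [h.sing.central_zp_mul' hf'z hc', inv_mul_cancel]; exact one_mem _)
  set pm := f' * em * f'⁻¹ with hpm
  have hpmE : pm ∈ E := h.norm f' hf'z em hem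
  have hpmz : pm ∉ Subgroup.zpowers z := fun hc' => hemz (by
    have := h.sing.central_zp_mul' (show f'⁻¹ * z = z * f'⁻¹ from Commute.inv_left hf'z) hc'
    rw [show f'⁻¹ * pm * f'⁻¹⁻¹ = em by rw [hpm]; group] at this
    rw [this]
    exact hc')
  have hncm := h.not_commute hem hpmE hemz hpmz hemn
  -- elements commuting with `f'` and acting as inner automorphisms
  have hinner : ∀ r, IsConj z r → r * z = z * r → r ≠ z → Commute r f' → Perm.sign (π r).1 = 1 →
      r * em * r⁻¹ = em * z := by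
    intro r hr hrz hrne hrf hrs
    have h2 : (π r).1 * (π r).1 = 1 := by
      have := congrArg Prod.fst (h.π_mul r r hrz hrz)
      rw [h.conj_sq hr, h.toBase.π_one_split] at this
      exact this.symm
    refine (h.conj_eq (h.fst_eq_one hrz h2 hrs em hem)).resolve_left fun hcm => ?_
    obtain ⟨w, hw, hnw⟩ := h.exists_moved hr hrz hrne
    refine hnw (h.centralizes hem hpmE hncm hcm ?_ w hw)
    exact (hrf.mul_right hcm).mul_right hrf.inv_right
  have hyt : Commute y t := k.q_comm hyQ.1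
  have hu1ne : z * y ≠ z := fun e => hyn (mul_eq_left.1 e ▸ one_mem _)
  have hu2ne : z * y * t ≠ z := fun e => by
    rw [mul_assoc, mul_eq_left] at e
    exact hyn (eq_inv_of_mul_eq_one_left e ▸ inv_mem (Subgroup.mem_zpowers _))
  have hzyz : Commute (z * y) z := (Commute.refl z).mul_left hyz
  have hp1 : π (z * y) = π y := by rw [h.π_mul _ _ rfl hyz, h.toBase.π_z, one_mul]
  have h1 := hinner (z * y) (isConj_iff.2 ⟨x, hu1⟩) hzyz hu1ne
    ((hzf' : Commute z f').mul_left hyf'.symm) (by rw [hp1]; exact hyfst)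
  have htf' : Commute t f' := by
    rw [← hf'sq]; exact (Commute.refl f').mul_left (Commute.refl f')
  have h2 := hinner (z * y * t) (isConj_iff.2 ⟨_, hu2⟩) (hzyz.mul_left hc) hu2ne
    (((hzf' : Commute z f').mul_left hyf'.symm).mul_left htf') (by
      rw [h.π_mul _ _ hzyz hc, hp1, Prod.fst_mul, map_mul, hyfst, hs, one_mul])
  have h3 := hinner t hu hc hne htf' hs
  have h4 : z * y * t * em * (z * y * t)⁻¹ = em := by
    calc z * y * t * em * (z * y * t)⁻¹ = (z * y) * (t * em * t⁻¹) * (z * y)⁻¹ := by group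
      _ = ((z * y) * em * (z * y)⁻¹) * ((z * y) * z * (z * y)⁻¹) := by rw [h3]; group
      _ = em * (z * z) := by rw [h1, hzyz.eq, mul_inv_cancel_right]; group
      _ = em := by rw [h.sing.xx, mul_one]
  rw [h4] at h2
  exact h.sing.xne (left_eq_mul.1 h2)

/-- `z` is the only conjugate of itself commuting with it. -/
theorem isolated (g : G) (hc : Commute z (g * z * g⁻¹)) : g * z * g⁻¹ = z := by
  by_contra hne
  set t := g * z * g⁻¹ with ht
  set Qt := cQ Q g with hQt
  set Et := cQ E g with hEt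
  have k := h.conj g
  rw [← ht, ← hQt, ← hEt] at k
  have hu : IsConj z t := isConj_iff.2 ⟨g, rfl⟩
  have htodd := h.odd_fst hu hc.eq.symm hne
  have hζ := k.odd_fst hu.symm hc.eq (Ne.symm hne)
  obtain ⟨e', he', he'n⟩ := k.fst_move z hc.eq hζ
  set y0 := z * e' * z⁻¹ * e'⁻¹ with hy0
  have hy0E : y0 ∈ Et := mul_mem (k.norm z hc.eq e' he') (inv_mem he')
  have hy0n : y0 ∉ Subgroup.zpowers t := fun hm => he'n (by
    rw [show e'⁻¹ * (z * e' * z⁻¹) = e'⁻¹ * y0 * e'⁻¹⁻¹ by rw [hy0]; group,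
      k.sing.x_central (inv_mem (k.le he')) hm, mul_inv_cancel_right]
    exact hm)
  have hy0sq := k.sq_outside hy0E hy0n
  set Qt0 := Qt ⊓ Subgroup.centralizer (Et : Set G) with hQt0
  obtain ⟨x, hx, hy2, hyn⟩ : ∃ x ∈ Qt, (z * x * z⁻¹ * x⁻¹) * (z * x * z⁻¹ * x⁻¹) = 1 ∧
      z * x * z⁻¹ * x⁻¹ ∉ Subgroup.zpowers t := by
    by_cases hmov : ∃ x ∈ Qt0, z * x * z⁻¹ * x⁻¹ ∉ Subgroup.zpowers t
    · obtain ⟨x, hx, hxn⟩ := hmov
      set y1 := z * x * z⁻¹ * x⁻¹ with hy1
      have hy1Q : y1 ∈ Qt0 := mul_mem (k.norm_comm hc.eq hx) (inv_mem hx)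
      by_cases hy12 : y1 * y1 = 1
      · exact ⟨x, hx.1, hy12, hxn⟩
      have hy1t : y1 * y1 = t := (k.sing.pair (k.sing.sq hy1Q.1)).resolve_left hy12
      have hx0 : Commute y0 x := hx.2 y0 hy0E
      have e1 : z * (x * e') * z⁻¹ * (x * e')⁻¹ = y1 * y0 := by
        calc z * (x * e') * z⁻¹ * (x * e')⁻¹ = (z * x * z⁻¹) * y0 * x⁻¹ := by rw [hy0]; group
          _ = (z * x * z⁻¹) * (x⁻¹ * y0) := by rw [mul_assoc, hx0.inv_right.eq]
          _ = _ := by rw [hy1]; group
      refine ⟨x * e', mul_mem hx.1 (k.le he'), ?_, ?_⟩ <;> rw [e1]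
      · rw [(show Commute y0 y1 from hy1Q.2 y0 hy0E).mul_mul_mul_comm, hy1t, hy0sq, k.sing.xx]
      · intro hm
        refine hy0n (k.notMem_inter hy0E ?_)
        have : y0 = y1⁻¹ * (y1 * y0) := by group
        rw [this]
        exact mul_mem (inv_mem hy1Q.2) (Subgroup.mem_centralizer_iff.2 fun w hw =>
          k.sing.x_central (k.le hw) hm)
    · exfalso
      push Not at hmov
      have hfix : ∀ x ∈ Qt0, x⁻¹ * (z * x * z⁻¹) ∈ Subgroup.zpowers t := fun x hx => by
        have h1 := hmov x hx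
        rw [show x⁻¹ * (z * x * z⁻¹) = x⁻¹ * (z * x * z⁻¹ * x⁻¹) * x by group, mul_assoc,
          ← k.sing.x_central hx.1 h1, inv_mul_cancel_left]
        exact h1
      have hhalf := card_le_half k.sing (a := z) (N := Qt0) inf_le_left hfix
      rw [k.card0] at hhalf
      set D := Qt0 ⊓ Subgroup.centralizer ({z} : Set G) with hD
      obtain ⟨a, ha, b, hb, hab⟩ : ∃ a ∈ D, ∃ b ∈ D, a * b ≠ b * a := by
        by_contra hcon
        push Not at hcon
        have := abelian_le k.sing k.card (H := D) (fun x hx => hx.1.1)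
          ⟨⟨k.sing.mem, Subgroup.mem_centralizer_iff.2 fun w hw => k.q_comm (k.le hw)⟩,
            Subgroup.mem_centralizer_singleton_iff.2 hc.eq.symm⟩
          (K := D) (fun x hx => hx.1.1) (fun x hx w hw => hcon w hw x hx)
        nlinarith
      have haz : Commute a z := Subgroup.mem_centralizer_singleton_iff.1 ha.2
      have hbz : Commute b z := Subgroup.mem_centralizer_singleton_iff.1 hb.2
      have htab : t = a * b * a⁻¹ * b⁻¹ := ((k.sing.pair (k.sing.comm ha.1.1 hb.1.1)).resolve_left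
        fun e => hab (mul_inv_eq_iff_eq_mul.1 (mul_inv_eq_one.1 e))).symm
      rw [htab, h.π_mul _ _ ((haz.mul_left hbz).mul_left haz.inv_left) hbz.inv_left,
        h.π_mul _ _ (haz.mul_left hbz) haz.inv_left, h.π_mul _ _ haz hbz, h.toBase.π_inv_split haz,
        h.toBase.π_inv_split hbz, Prod.fst_mul, Prod.fst_mul, Prod.fst_mul, Prod.fst_inv, Prod.fst_inv,
        map_mul, map_mul, map_mul, map_inv, map_inv, mul_comm (Perm.sign (π a).1), mul_inv_cancel_right,
        mul_inv_cancel] at htodd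
      exact absurd htodd (by decide)
  set y := z * x * z⁻¹ * x⁻¹ with hy
  have hyQ : y ∈ Qt := mul_mem (k.sing.norm z hc.eq x hx) (inv_mem hx)
  have hyz : y * z = z * y := by
    have h1 := (h.moved_conj (x := x)).1
    rw [← hy, inv_eq_of_mul_eq_one_right hy2] at h1
    exact (mul_inv_eq_iff_eq_mul.1 h1).symm
  have hu1 : x * z * x⁻¹ = z * y := h.moved_conj.2
  have hy0z : z * y0 * z⁻¹ = y0 * t := by
    rw [(h.moved_conj (x := e')).1, inv_eq_of_mul_eq_one_right]
    rw [show y0 * (y0 * t) = (y0 * y0) * t by group, hy0sq, k.sing.xx]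
  have hu2 : (x * y0) * z * (x * y0)⁻¹ = z * y * t := by
    calc (x * y0) * z * (x * y0)⁻¹ = x * (y0 * z * y0⁻¹) * x⁻¹ := by group
      _ = (x * z * x⁻¹) * (x * t * x⁻¹) := by rw [h.conj_flip hy0z (k.q_comm (k.le hy0E))]; group
      _ = _ := by rw [hu1, k.q_comm hx, mul_inv_cancel_right]
  have hu1ne : z * y ≠ z := fun e => hyn (mul_eq_left.1 e ▸ one_mem _)
  have hu2ne : z * y * t ≠ z := fun e => by
    rw [mul_assoc, mul_eq_left] at e
    exact hyn (eq_inv_of_mul_eq_one_left e ▸ inv_mem (Subgroup.mem_zpowers _))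
  have hzyz : Commute (z * y) z := (Commute.refl z).mul_left hyz
  have h1 := h.odd_fst (isConj_iff.2 ⟨x, hu1⟩) hzyz hu1ne
  have h2 := h.odd_fst (isConj_iff.2 ⟨_, hu2⟩) (hzyz.mul_left hc.symm) hu2ne
  rw [h.π_mul _ _ hzyz hc.eq.symm, Prod.fst_mul, map_mul, h1, htodd] at h2
  exact absurd h2 (by decide)

end Split

end Cfsg.Agent.H70.CHZ
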