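import Cfsg.Agent.H70.CHZ.Pair

/-! Tensor case: no conjugate of `z` commuting with `z` maps to `sig`. -/

set_option autoImplicit false

namespace Cfsg.Agent.H70.CHZ

open Equiv

namespace TensorSig

theorem vAct_sig (x : V8) : vAct sig x = (x.1 + x.2, x.2) := by
  have h1 : ∀ w : W4, wAct 1 w = w := by decide +kernel
  have h0 : Equiv.swap (1 : Fin 3) 2 0 = 0 := by decide
  simp [vAct, sig, h1, h0, ptVec]

theorem vAct_snd (g : Perm (Fin 6)) (x : V8) : vAct (1, g) x = (wAct g x.1, wAct g x.2) := by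
  simp [vAct, ptVec]

theorem wAct_zero (g : Perm (Fin 6)) : wAct g 0 = 0 := by
  have h0 : ∀ i, wLift 0 i = 0 := by decide
  have h1 : wRed (fun _ => 0) = 0 := by decide
  simp [wAct, h0, h1]

/-- The base vector. -/
def e1 : W4 := (1, 0, 0, 0)

/-- Even permutations moving `e1 = {1, 2}` to the other fourteen vectors. -/
def movers : List (Perm (Fin 6)) :=
  let s := fun i j : Fin 6 => Equiv.swap i j
  [1, s 1 2 * s 3 4, s 1 3 * s 2 4, s 1 4 * s 2 3, s 1 5 * s 2 3, s 0 2 * s 3 4, s 0 3 * s 2 4,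
    s 0 4 * s 2 3, s 0 5 * s 2 3, s 0 2 * s 1 3, s 0 2 * s 1 4, s 0 2 * s 1 5, s 0 3 * s 1 4,
    s 0 3 * s 1 5, s 0 4 * s 1 5]

theorem movers_spec : ∀ v : W4, v ≠ 0 → ∃ g ∈ movers,
    Perm.sign g = 1 ∧ wAct g e1 = v ∧ wAct g⁻¹ v = e1 := by decide +kernel

/-- A set of vectors invariant under even permutations contains all non-zero vectors or none. -/
theorem invariant_cases (P : W4 → Prop)
    (hP : ∀ g : Perm (Fin 6), Perm.sign g = 1 → ∀ v, P v → P (wAct g v)) :
    (∀ v, v ≠ 0 → ¬ P v) ∨ ∀ v, v ≠ 0 → P v := by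
  by_cases h : ∃ u, u ≠ 0 ∧ P u
  · obtain ⟨u, hu, hPu⟩ := h
    refine Or.inr fun v hv => ?_
    obtain ⟨g, -, hg, -, hgu⟩ := movers_spec u hu
    obtain ⟨k, -, hk, hkv, -⟩ := movers_spec v hv
    exact hkv ▸ hP k hk _ (hgu ▸ hP g⁻¹ (by rw [map_inv, hg, inv_one]) _ hPu)
  · exact Or.inl fun v hv hPv => h ⟨v, hv, hPv⟩

/-- No quadratic form with polar form `wB` is invariant under the even permutations. -/
theorem no_invariant_form (l : W4 → ZMod 2) (hadd : ∀ v w, l (v + w) = l v + l w + wB v w)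
    (hinv : ∀ g : Perm (Fin 6), Perm.sign g = 1 → ∀ v, l (wAct g v) = l v) : False := by
  have hc : ∀ v, v ≠ 0 → l v = l e1 := fun v hv => by
    obtain ⟨g, -, hg, hgv, -⟩ := movers_spec v hv
    rw [← hgv, hinv g hg]
  have hw : ∀ v w : W4, v ≠ 0 → w ≠ 0 → v + w ≠ 0 → wB v w = l e1 := fun v w hv hw hvw => by
    have := hadd v w
    rw [hc v hv, hc w hw, hc _ hvw] at this
    revert this
    generalize wB v w = b
    generalize l e1 = c
    revert b c
    decide
  have h1 := hw e1 (0, 1, 0, 0) (by decide) (by decide) (by decide)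
  have h2 := hw e1 (0, 0, 1, 0) (by decide) (by decide) (by decide)
  exact absurd (h1.trans h2.symm) (by decide)

/-- A subgroup of exponent two of `S₃ × S₆` does not have order `32`. -/
theorem no_elementary (E : Subgroup P36) (hcard : Nat.card E = 32)
    (hsq : ∀ x ∈ E, x * x = 1) : False := by
  haveI : Fact (Nat.Prime 2) := ⟨Nat.prime_two⟩
  let d : P36 := (1, Equiv.swap 0 1 * Equiv.swap 1 2 * Equiv.swap 2 3)
  have hd : IsPGroup 2 (Subgroup.zpowers d) := by
    refine IsPGroup.of_card (n := 2) ?_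
    rw [Nat.card_zpowers, orderOf_eq_prime_pow (p := 2) (n := 1)] <;> decide
  obtain ⟨P, hP⟩ := hd.exists_le_sylow
  have hE : Nat.card E = 2 ^ (Nat.card P36).factorization 2 := by
    have h4320 : Nat.card P36 = 4320 := by simp [Nat.card_eq_fintype_card, Fintype.card_perm]; rfl
    have h135 : ¬ 2 ∣ 135 := by norm_num
    rw [hcard, h4320, show (4320 : ℕ) = 2 ^ 5 * 135 from rfl,
      Nat.factorization_mul (by norm_num) (by norm_num)]
    rw [Nat.prime_two.factorization_pow, Finsupp.add_apply, Finsupp.single_eq_same,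
      Nat.factorization_eq_zero_of_not_dvd h135, add_zero]
    rfl
  obtain ⟨k, hk⟩ := MulAction.exists_smul_eq P36 (Sylow.ofCard E hE) P
  have hdP : d ∈ (P : Subgroup P36) := hP (Subgroup.mem_zpowers d)
  rw [← hk, Sylow.coe_subgroup_smul, Subgroup.mem_pointwise_smul_iff_inv_smul_mem] at hdP
  have h2 := hsq _ hdP
  rw [← smul_mul', ← smul_one ((MulAut.conj k)⁻¹), smul_left_cancel_iff] at h2
  revert h2
  decide

theorem zb_mul {G : Type*} [Group G] {z : G} (hz : z * z = 1) (a b : ZMod 2) :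
    zb z (a + b) = zb z a * zb z b := by
  rcases (show ∀ a : ZMod 2, a = 0 ∨ a = 1 by decide) a with rfl | rfl <;>
    rcases (show ∀ a : ZMod 2, a = 0 ∨ a = 1 by decide) b with rfl | rfl <;>
    simp [zb, hz, show (1 : ZMod 2) + 1 = 0 from rfl]

theorem zb_inj {G : Type*} [Group G] {z : G} (hz : z ≠ 1) {a b : ZMod 2} (h : zb z a = zb z b) :
    a = b := by
  rcases (show ∀ a : ZMod 2, a = 0 ∨ a = 1 by decide) a with rfl | rfl <;>
    rcases (show ∀ a : ZMod 2, a = 0 ∨ a = 1 by decide) b with rfl | rfl <;>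
    simp_all [zb, eq_comm]

end TensorSig

open TensorSig

variable {G : Type*} [Group G] [Finite G] {z : G} {Q : Subgroup G} {π : G → P36} {φ : G → V8}

omit [Finite G] in
/-- Elements of `Q` with equal coordinates differ by a power of `z`. -/
theorem Tensor.exists_eq_mul_zb (h : Tensor z Q π φ) {a b : G} (ha : a ∈ Q) (hb : b ∈ Q)
    (he : φ a = φ b) : ∃ e : ZMod 2, b = a * zb z e := by
  have h0 : φ (a * b) = 0 := by
    rw [h.φ_mul a ha b hb, he]
    exact (show ∀ v : V8, v + v = 0 from fun v => by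
      ext <;> exact CharTwo.add_self_eq_zero _) _
  have hza : z * a = a * z := (h.sing.comm_x a ha).symm
  have haa : a * a = zb z (vq (φ a)) := h.φ_sq a ha
  have hzz : z * z = 1 := h.sing.xx
  have hinv : a⁻¹ = a * zb z (vq (φ a)) := by
    refine inv_eq_of_mul_eq_one_right ?_
    rw [← mul_assoc, haa, ← zb_mul hzz, CharTwo.add_self_eq_zero]
    simp [zb]
  have hb' : b = a⁻¹ * (a * b) := by group
  rcases (h.φ_ker (a * b) (Q.mul_mem ha hb)).1 h0 with e | e
  · exact ⟨vq (φ a), by rw [hb', e, mul_one, hinv]⟩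
  · refine ⟨vq (φ a) + 1, ?_⟩
    rw [hb', e, hinv, mul_assoc, zb_mul hzz]
    simp [zb]

/-- No conjugate of `z` commuting with `z` maps to `sig`. -/
theorem Tensor.no_sig (h : Tensor z Q π φ) {g : G} (hc : z * (g * z * g⁻¹) = g * z * g⁻¹ * z)
    (hp : π (g * z * g⁻¹) = sig) : False := by
  classical
  obtain ⟨t, ht⟩ : ∃ t, t = g * z * g⁻¹ := ⟨_, rfl⟩
  have htQ : g * z * g⁻¹ ∉ Q := fun hq => by
    have := h.π_Q hq
    rw [hp] at this
    exact absurd this (by decide)
  have hzz : z * z = 1 := h.sing.xx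
  have hz1 : z ≠ 1 := h.sing.xne
  have htt : t * t = 1 := ht ▸ (h.toBase.conj g).sing.xx
  have htinv : t⁻¹ = t := inv_eq_of_mul_eq_one_right htt
  have htz : t * z = z * t := by rw [ht, hc]
  have hπt : π t = sig := by rw [ht]; exact hp
  have hzQ : ∀ q ∈ Q, q * z = z * q := h.sing.comm_x
  have hzm : z ∈ Q := h.sing.mem
  have hφz : φ z = 0 := (h.φ_ker z hzm).2 (Or.inr rfl)
  have hzb : ∀ e, zb z e ∈ Q ∧ φ (zb z e) = 0 ∧ t * zb z e = zb z e * t ∧
      ∀ a : G, a * z = z * a → a * zb z e * a⁻¹ = zb z e := fun e => by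
    unfold zb
    split_ifs
    · exact ⟨Q.one_mem, (h.φ_ker 1 Q.one_mem).2 (Or.inl rfl), by simp, fun a _ => by simp⟩
    · exact ⟨hzm, hφz, htz, fun a ha => by rw [ha, mul_inv_cancel_right]⟩
  -- conjugation by `t` on coordinates
  have htφ : ∀ q ∈ Q, t * q * t ∈ Q ∧ φ (t * q * t) = ((φ q).1 + (φ q).2, (φ q).2) := by
    intro q hq
    have h1 := h.φ_act t htz q hq
    rw [htinv, hπt, vAct_sig] at h1
    refine ⟨?_, h1⟩
    have := h.sing.norm t htz q hq
    rwa [htinv] at this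
  have hstruct : ∀ y ∈ Q, t * y * t * y⁻¹ ∈ Q ∧ φ (t * y * t * y⁻¹) = ((φ y).2, 0) := by
    intro y hy
    obtain ⟨h1, h2⟩ := htφ y hy
    refine ⟨Q.mul_mem h1 (Q.inv_mem hy), ?_⟩
    have hyinv : φ y⁻¹ = φ y := by
      have h3 := h.φ_mul y hy y⁻¹ (Q.inv_mem hy)
      rw [mul_inv_cancel, (h.φ_ker 1 Q.one_mem).2 (Or.inl rfl)] at h3
      revert h3
      generalize φ y⁻¹ = a
      generalize φ y = b
      intro h3
      have hbb : b + b = 0 := by ext <;> exact CharTwo.add_self_eq_zero _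
      exact add_left_cancel (h3.symm.trans hbb.symm)
    rw [h.φ_mul _ h1 _ (Q.inv_mem hy), h2, hyinv]
    have hw : ∀ a b : W4, a + b + a = b := fun a b => by
      rw [add_comm a b, add_assoc, show a + a = 0 by ext <;> exact CharTwo.add_self_eq_zero _,
        add_zero]
    exact Prod.ext (hw _ _) (by ext <;> exact CharTwo.add_self_eq_zero _)
  -- `A`
  have hA : ∀ q ∈ Q, q * t = t * q ↔ (φ q).2 = 0 := by
    intro q hq
    constructor
    · intro hqt
      obtain ⟨-, h2⟩ := htφ q hq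
      rw [show t * q * t = q by rw [← hqt, mul_assoc, htt, mul_one]] at h2
      have h3 := congrArg Prod.fst h2
      simp only at h3
      exact left_eq_add.1 h3
    · intro h2
      obtain ⟨y, hy, hφy⟩ := h.φ_surj (0, (φ q).1)
      obtain ⟨hsQ, hsφ⟩ := hstruct y hy
      rw [hφy] at hsφ
      obtain ⟨e, he⟩ := h.exists_eq_mul_zb hsQ hq (by rw [hsφ]; exact Prod.ext rfl h2.symm)
      have hs2 : t * y * t * y⁻¹ * (t * y * t * y⁻¹) = 1 := by
        rw [h.φ_sq _ hsQ, hsφ]
        simp [vq, wB, zb]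
      have hst : t * y * t * y⁻¹ * t = t * (t * y * t * y⁻¹) := by
        calc t * y * t * y⁻¹ * t = t * (t * y * t * y⁻¹)⁻¹ * (t * t) := by
              rw [mul_inv_rev, mul_inv_rev, mul_inv_rev, inv_inv, htinv, htt, mul_one]
              simp only [mul_assoc, htt, mul_one]
          _ = t * (t * y * t * y⁻¹) := by rw [inv_eq_of_mul_eq_one_right hs2, htt, mul_one]
      rw [he, mul_assoc, ← (hzb e).2.2.1, ← mul_assoc, hst, mul_assoc]
  -- `C(z) ∩ C(t)` covers the even permutations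
  have cover : ∀ g1 : Perm (Fin 6), Perm.sign g1 = 1 →
      ∃ a, a * z = z * a ∧ a * t = t * a ∧ π a = (1, g1) := by
    have sq : ∀ g1 : Perm (Fin 6), Perm.sign g1 = 1 →
        ∃ a, a * z = z * a ∧ a * t = t * a ∧ π a = (1, g1 * g1) := by
      intro g1 hg1
      obtain ⟨a, ha, hπ⟩ : ∃ a, a * z = z * a ∧ π a = (1, g1) := by apply h.π_range <;> simp [hg1]
      have hainv : Commute a⁻¹ z := (Commute.inv_left ha : _)
      have hat : (a * t * a⁻¹) * z = z * (a * t * a⁻¹) :=
        ((show Commute a z from ha).mul_left (show Commute t z from htz)).mul_left hainv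
      have hπt : π (a * t * a⁻¹) = sig := by
        rw [h.π_conj ha htz, hπ, ht, hp]
        simp [sig]
      obtain ⟨x, hxdef⟩ : ∃ x, x = t * (a * t * a⁻¹) := ⟨_, rfl⟩
      have htxz : x * z = z * x := hxdef ▸ (show Commute t z from htz).mul_left hat
      have hxQ : x ∈ Q := by
        rw [← h.π_ker x htxz, hxdef, h.π_mul _ _ htz hat, hπt, ht, hp]
        decide
      have hxx : t * x * t = x⁻¹ := by
        rw [hxdef, mul_inv_rev, htinv, mul_inv_rev, mul_inv_rev, inv_inv, htinv]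
        simp only [← mul_assoc, htt, one_mul]
      have hx2 : (φ x).2 = 0 := by
        obtain ⟨-, h2⟩ := htφ x hxQ
        have hxi : φ x⁻¹ = φ x := by
          have h3 := h.φ_mul x hxQ x⁻¹ (Q.inv_mem hxQ)
          rw [mul_inv_cancel, (h.φ_ker 1 Q.one_mem).2 (Or.inl rfl)] at h3
          have hbb : φ x + φ x = 0 := by ext <;> exact CharTwo.add_self_eq_zero _
          exact add_left_cancel (h3.symm.trans hbb.symm)
        rw [hxx, hxi] at h2
        have h3 := congrArg Prod.fst h2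
        simp only at h3
        exact left_eq_add.1 h3
      obtain ⟨y, hy, hφy⟩ := h.φ_surj (0, (φ x).1)
      obtain ⟨hsQ, hsφ⟩ := hstruct y hy
      rw [hφy] at hsφ
      obtain ⟨e, he⟩ := h.exists_eq_mul_zb hsQ hxQ (by rw [hsφ]; exact Prod.ext rfl hx2.symm)
      have hs2 : t * y * t * y⁻¹ * (t * y * t * y⁻¹) = 1 := by
        rw [h.φ_sq _ hsQ, hsφ]
        simp [vq, wB, zb]
      have hyt : t * (t * y * t * y⁻¹) = y * t * y⁻¹ := by
        simp only [← mul_assoc, htt, one_mul]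
      have hata : a * t * a⁻¹ = y * t * y⁻¹ * zb z e := by
        rw [← hyt, mul_assoc t, ← he, hxdef, ← mul_assoc, htt, one_mul]
      have hyz : y⁻¹ * z = z * y⁻¹ := (Commute.inv_left (hzQ y hy) : _)
      obtain ⟨a', ha'⟩ : ∃ a', a' = y⁻¹ * a := ⟨_, rfl⟩
      have ha'z : a' * z = z * a' := ha' ▸ (show Commute y⁻¹ z from hyz).mul_left ha
      have hzy : zb z e * y = y * zb z e := by
        unfold zb; split_ifs
        · simp
        · exact (hzQ y hy).symm
      have ha't : a' * t * a'⁻¹ = t * zb z e := by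
        rw [ha', mul_inv_rev, inv_inv, show y⁻¹ * a * t * (a⁻¹ * y) = y⁻¹ * (a * t * a⁻¹) * y by group,
          hata, show y⁻¹ * (y * t * y⁻¹ * zb z e) * y = t * y⁻¹ * (zb z e * y) by group, hzy]
        group
      refine ⟨a' * a', (show Commute a' z from ha'z).mul_left ha'z, ?_, ?_⟩
      · have h2 : a' * a' * t * (a' * a')⁻¹ = t := by
          rw [show a' * a' * t * (a' * a')⁻¹ = a' * (a' * t * a'⁻¹) * a'⁻¹ by group, ha't,
            show a' * (t * zb z e) * a'⁻¹ = (a' * t * a'⁻¹) * (a' * zb z e * a'⁻¹) by group,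
            (hzb e).2.2.2 a' ha'z, ha't, mul_assoc, ← zb_mul hzz, CharTwo.add_self_eq_zero]
          simp [zb]
        exact mul_inv_eq_iff_eq_mul.1 h2
      · have hπa' : π a' = (1, g1) := by
          rw [ha', h.π_mul _ _ hyz ha, h.π_Q (Q.inv_mem hy), one_mul, hπ]
        rw [h.π_mul _ _ ha'z ha'z, hπa']
        simp
    let K : Subgroup (Perm (Fin 6)) :=
      { carrier := {g1 | ∃ a, a * z = z * a ∧ a * t = t * a ∧ π a = (1, g1)}
        one_mem' := ⟨1, by simp, by simp, h.π_one⟩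
        mul_mem' := by
          rintro g1 g2 ⟨a, ha, ha', hπa⟩ ⟨b, hb, hb', hπb⟩
          exact ⟨a * b, (show Commute a z from ha).mul_left hb, (show Commute a t from ha').mul_left hb',
            by rw [h.π_mul _ _ ha hb, hπa, hπb]; simp⟩
        inv_mem' := by
          rintro g1 ⟨a, ha, ha', hπa⟩
          exact ⟨a⁻¹, (show Commute a z from ha).inv_left, (show Commute a t from ha').inv_left,
            by rw [h.π_inv ha, hπa]; simp⟩ }
    have hle : alternatingGroup (Fin 6) ≤ K := by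
      rw [← Perm.closure_three_cycles_eq_alternating, Subgroup.closure_le]
      intro c hc3
      have hc3' : c ^ 3 = 1 := by
        have := pow_orderOf_eq_one c
        rwa [Perm.IsThreeCycle.orderOf hc3] at this
      obtain ⟨a, ha, ha', hπa⟩ := sq (c * c) (by rw [map_mul, Perm.IsThreeCycle.sign hc3]; rfl)
      refine ⟨a, ha, ha', ?_⟩
      rw [hπa, show c * c * (c * c) = c ^ 3 * c by
        simp only [pow_succ, pow_zero, one_mul, mul_assoc], hc3', one_mul]
    intro g1 hg1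
    exact hle (Perm.mem_alternatingGroup.2 hg1)
  -- `X`
  have hzX : z ∉ pX Q g := h.z_notMem_X htQ
  have hXA : ∀ x ∈ pX Q g, x ∈ Q ∧ (φ x).2 = 0 := fun x hx =>
    ⟨hx.1, (hA x hx.1).1 (ht ▸ (mem_pA.1 (h.X_le_A g hx)).2)⟩
  have huniq : ∀ x ∈ pX Q g, ∀ x' ∈ pX Q g, φ x = φ x' → x = x' := by
    intro x hx x' hx' he
    obtain ⟨e, he'⟩ := h.exists_eq_mul_zb hx.1 hx'.1 he
    rcases (show ∀ a : ZMod 2, a = 0 ∨ a = 1 by decide) e with rfl | rfl
    · simpa [zb] using he'.symm
    · have : x⁻¹ * x' ∈ pX Q g := (pX Q g).mul_mem ((pX Q g).inv_mem hx) hx'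
      rw [he', inv_mul_cancel_left] at this
      exact absurd (by simpa [zb] using this) hzX
  have hXinv : ∀ g1 : Perm (Fin 6), Perm.sign g1 = 1 → ∀ v,
      (∃ x ∈ pX Q g, φ x = (v, 0)) → ∃ x ∈ pX Q g, φ x = (wAct g1 v, 0) := by
    rintro g1 hg1 v ⟨x, hx, hφx⟩
    obtain ⟨a, haz, hat, hπa⟩ := cover g1 hg1
    refine ⟨a * x * a⁻¹, h.norm_X haz (ht ▸ hat) hx, ?_⟩
    rw [h.φ_act a haz x hx.1, hπa, vAct_snd, hφx, wAct_zero]
  rcases invariant_cases _ hXinv with hno | hall
  · -- `A` embeds in `S₃ × S₆`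
    have hX1 : ∀ x ∈ pX Q g, x = 1 := fun x hx => by
      refine huniq x hx 1 (pX Q g).one_mem ?_
      rw [(h.φ_ker 1 Q.one_mem).2 (Or.inl rfl)]
      by_contra hne
      obtain ⟨hxQ, hx2⟩ := hXA x hx
      exact hno (φ x).1 (fun h1 => hne (Prod.ext h1 hx2)) ⟨x, hx, Prod.ext rfl hx2⟩
    let A := pA z Q g
    have hmem : ∀ a, a ∈ A ↔ a ∈ Q ∧ (φ a).2 = 0 := fun a => by
      rw [mem_pA, ← ht]
      exact and_congr_right fun hq => hA a hq
    have hcardA : Nat.card A = 32 := by
      choose p hp' hpφ using fun v : W4 => h.φ_surj (v, 0)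
      let f : W4 × ZMod 2 → A := fun q => ⟨p q.1 * zb z q.2, (hmem _).2
        ⟨Q.mul_mem (hp' _) (hzb _).1, by rw [h.φ_mul _ (hp' _) _ (hzb _).1, hpφ, (hzb _).2.1]; simp⟩⟩
      have hf : Function.Bijective f := by
        refine ⟨fun q q' hq => ?_, fun a => ?_⟩
        · have e := congrArg (fun x : A => φ x) hq
          simp only [f] at e
          rw [h.φ_mul _ (hp' _) _ (hzb _).1, h.φ_mul _ (hp' _) _ (hzb _).1, hpφ, hpφ, (hzb _).2.1,
            (hzb _).2.1, add_zero, add_zero] at e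
          have e1 : q.1 = q'.1 := (Prod.mk.inj e).1
          have e2 := congrArg Subtype.val hq
          simp only [f, e1, mul_right_inj] at e2
          exact Prod.ext e1 (zb_inj hz1 e2)
        · obtain ⟨haQ, ha2⟩ := (hmem a).1 a.2
          obtain ⟨e, he⟩ := h.exists_eq_mul_zb (hp' (φ a).1) haQ
            (by rw [hpφ]; exact Prod.ext rfl ha2.symm)
          exact ⟨((φ a).1, e), Subtype.ext he.symm⟩
      rw [← Nat.card_congr (Equiv.ofBijective f hf)]
      simp
    let ψ : A →* P36 :=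
      { toFun := fun a => cπ π g a
        map_one' := (h.toBase.conj g).π_one
        map_mul' := fun a b => (h.toBase.conj g).π_mul _ _ (mem_pA.1 a.2).2 (mem_pA.1 b.2).2 }
    have hψ : Function.Injective ψ := by
      rw [injective_iff_map_eq_one]
      intro a ha
      exact Subtype.ext (hX1 a ⟨(mem_pA.1 a.2).1,
        ((h.toBase.conj g).π_ker _ (mem_pA.1 a.2).2).1 ha⟩)
    refine no_elementary ψ.range ?_ ?_
    · rw [← Nat.card_congr (MonoidHom.ofInjective hψ).toEquiv, hcardA]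
    · rintro _ ⟨a, rfl⟩
      rw [← map_mul]
      have : a * a = 1 := Subtype.ext (by
        show (a : G) * a = 1
        rw [h.φ_sq _ ((hmem a).1 a.2).1]
        simp [vq, wB, zb, ((hmem a).1 a.2).2])
      rw [this, map_one]
  · -- an invariant quadratic form
    have hall' : ∀ v, ∃ x ∈ pX Q g, φ x = (v, 0) := fun v => by
      by_cases hv : v = 0
      · exact ⟨1, (pX Q g).one_mem, by rw [hv, (h.φ_ker 1 Q.one_mem).2 (Or.inl rfl)]; rfl⟩
      · exact hall v hv
    choose xv hxX hxφ using hall'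
    choose yv hyQ hyφ using fun v : W4 => h.φ_surj (0, v)
    have hs : ∀ v, t * yv v * t * (yv v)⁻¹ ∈ Q ∧ φ (t * yv v * t * (yv v)⁻¹) = (v, 0) := fun v => by
      have := hstruct _ (hyQ v)
      rwa [hyφ] at this
    choose l hl using fun v => h.exists_eq_mul_zb (hxX v).1 (hs v).1 (by rw [hxφ, (hs v).2])
    -- `yv` may be replaced by any element with the same coordinates
    have hgen : ∀ v, ∀ y ∈ Q, φ y = (0, v) → t * y * t * y⁻¹ = xv v * zb z (l v) := by
      intro v y hy hφy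
      obtain ⟨e, rfl⟩ := h.exists_eq_mul_zb (hyQ v) hy (by rw [hyφ, hφy])
      rw [← hl v, mul_inv_rev,
        show t * (yv v * zb z e) * t * ((zb z e)⁻¹ * (yv v)⁻¹) =
          t * yv v * (zb z e * t) * (zb z e)⁻¹ * (yv v)⁻¹ by group, ← (hzb e).2.2.1]
      group
    refine no_invariant_form l (fun v w => ?_) (fun g1 hg1 v => ?_)
    · have hq := hgen (v + w) (yv v * yv w) (Q.mul_mem (hyQ v) (hyQ w))
        (by rw [h.φ_mul _ (hyQ v) _ (hyQ w), hyφ, hyφ]; simp)
      have hxmul : xv v * xv w = xv (v + w) :=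
        huniq _ ((pX Q g).mul_mem (hxX v) (hxX w)) _ (hxX (v + w))
          (by rw [h.φ_mul _ (hxX v).1 _ (hxX w).1, hxφ, hxφ, hxφ]; simp)
      have hc' := h.φ_comm (yv v) (hyQ v) _ (hs w).1
      rw [hyφ, (hs w).2] at hc'
      have hb : vB ((0 : W4), v) (w, 0) = wB v w := by simp [vB, wB]
      rw [hb] at hc'
      have hsplit : t * (yv v * yv w) * t * (yv v * yv w)⁻¹ =
          t * yv v * t * (yv v)⁻¹ * (yv v * (t * yv w * t * (yv w)⁻¹) * (yv v)⁻¹) := by
        calc t * (yv v * yv w) * t * (yv v * yv w)⁻¹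
            = t * yv v * (t * t) * yv w * t * (yv v * yv w)⁻¹ := by rw [htt]; group
          _ = _ := by group
      rw [hsplit, show yv v * (t * yv w * t * (yv w)⁻¹) * (yv v)⁻¹ =
        zb z (wB v w) * (t * yv w * t * (yv w)⁻¹) by rw [← hc']; group, hl, hl, ← hxmul] at hq
      have hcw : zb z (l v) * zb z (wB v w) * xv w = xv w * (zb z (l v) * zb z (wB v w)) := by
        rw [← zb_mul hzz]
        unfold zb; split_ifs
        · simp
        · exact (hzQ _ (hxX w).1).symm
      rw [show xv v * zb z (l v) * (zb z (wB v w) * (xv w * zb z (l w))) =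
        xv v * (zb z (l v) * zb z (wB v w) * xv w) * zb z (l w) by group, hcw,
        ← mul_assoc (xv v), mul_assoc (xv v * xv w), mul_right_inj, ← zb_mul hzz, ← zb_mul hzz] at hq
      rw [← zb_inj hz1 hq]
      ring
    · obtain ⟨a, haz, hat, hπa⟩ := cover g1 hg1
      have hy' : φ (a * yv v * a⁻¹) = (0, wAct g1 v) := by
        rw [h.φ_act a haz _ (hyQ v), hπa, vAct_snd, hyφ, wAct_zero]
      have hq := hgen _ _ (h.sing.norm a haz _ (hyQ v)) hy'
      have hx' : a * xv v * a⁻¹ = xv (wAct g1 v) :=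
        huniq _ (h.norm_X haz (ht ▸ hat) (hxX v)) _ (hxX _)
          (by rw [h.φ_act a haz _ (hxX v).1, hπa, vAct_snd, hxφ, hxφ, wAct_zero])
      have hta : a⁻¹ * t * a = t := by rw [mul_assoc, ← hat, inv_mul_cancel_left]
      have hta' : a * t * a⁻¹ = t := by rw [hat, mul_inv_cancel_right]
      have e : t * (a * yv v * a⁻¹) * t * (a * yv v * a⁻¹)⁻¹ =
          a * (t * yv v * t * (yv v)⁻¹) * a⁻¹ := by
        calc t * (a * yv v * a⁻¹) * t * (a * yv v * a⁻¹)⁻¹
            = a * ((a⁻¹ * t * a) * yv v * (a⁻¹ * t * a) * (yv v)⁻¹) * a⁻¹ := by group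
          _ = _ := by rw [hta]
      rw [e, hl, show a * (xv v * zb z (l v)) * a⁻¹ = (a * xv v * a⁻¹) * (a * zb z (l v) * a⁻¹) by group,
        (hzb _).2.2.2 a haz, hx', mul_right_inj] at hq
      exact (zb_inj hz1 hq).symm

end Cfsg.Agent.H70.CHZ
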