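import Cfsg.Agent.H70.CHZ.TensorPair
import Cfsg.Agent.H70.CHZ.TensorSigma
import Cfsg.Agent.H70.CHZ.ModelFactsTwo

/-! Weak closure of `z` in `Q` in the tensor case. -/

set_option autoImplicit false

namespace Cfsg.Agent.H70.CHZ

variable {G : Type*} [Group G]

theorem swap_fix2 : Equiv.Perm.sign (Equiv.swap (0 : Fin 6) 4 * Equiv.swap 1 5) = 1 ∧
    vAct (Equiv.swap 1 2, Equiv.swap 0 4 * Equiv.swap 1 5) tau2 = tau2 ∧
    vAct (Equiv.swap 1 2, 1) tau1 = tau1 := by decide +kernel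

theorem F0_gen : ∀ u : W4, u.2.1 = 0 →
    let e := Equiv.swap (2 : Fin 6) 3 * Equiv.swap 3 4
    let p : W4 := (0, 0, 1, 0)
    let q : W4 := (0, 0, 0, 1)
    ∃ a b c : ZMod 2, u = a • w0 + b • (wAct e p + p) + c • (wAct e q + q) := by decide +kernel

theorem F0_e : Equiv.Perm.sign (Equiv.swap (2 : Fin 6) 3 * Equiv.swap 3 4) = 1 ∧
    wAct (Equiv.swap 2 3 * Equiv.swap 3 4) w0 = w0 := by decide +kernel

theorem exists_v : ∀ u : W4, u.2.1 = 0 → u ≠ 0 → u ≠ w0 → ∃ v : W4, wB w0 v = 1 ∧ wB u v = 0 := by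
  decide +kernel

theorem add_self_W4 : ∀ v : W4, v + v = 0 := by decide

theorem wB_zero : ∀ v : W4, wB v 0 = 0 ∧ wB 0 v = 0 := by decide

theorem wB_w0 : ∀ v : W4, wB w0 v = v.2.1 := by decide

theorem final_calc : vAct (sig * (1, tauP)) ((0, (0, 1, 0, 1)) : V8) + ((0, (0, 1, 0, 1)) : V8) =
    (((wAct tauP (0, 1, 0, 1) : W4), w0) : V8) ∧ vB ((0, (0, 1, 0, 1)) : V8) (((0, 0, 1, 0) : W4), 0) = 0 := by
  decide +kernel

/-- Normal form with both signatures trivial. -/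
theorem singular_nf (v : V8) (hv : v ≠ 0) (hq : vq v = 0) :
    ∃ p : P36, Equiv.Perm.sign p.1 = 1 ∧ Equiv.Perm.sign p.2 = 1 ∧ (vAct p v = tau1 ∨ vAct p v = tau2) := by
  obtain ⟨p, hp, hpv⟩ := singular_normal_form v hv hq
  rcases Int.units_eq_one_or (Equiv.Perm.sign p.1) with h1 | h1
  · exact ⟨p, h1, hp, hpv⟩
  obtain ⟨hs, h2, h1'⟩ := swap_fix2
  have hsw : Equiv.Perm.sign (Equiv.swap (1 : Fin 3) 2) = -1 := Equiv.Perm.sign_swap (by decide)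
  rcases hpv with e | e
  · refine ⟨(Equiv.swap 1 2, 1) * p, by simp [hsw, h1], by simp [hp], Or.inl ?_⟩
    rw [vAct_mul, e]; exact h1'
  · refine ⟨(Equiv.swap 1 2, Equiv.swap 0 4 * Equiv.swap 1 5) * p, by simp [hsw, h1],
      by simp [hp, hs], Or.inr ?_⟩
    rw [vAct_mul, e]; exact h2

variable {z : G} {Q : Subgroup G} {π : G → P36} {φ : G → V8}

theorem Base.comm_inv (_h : Base z Q π) {a : G} (ha : a * z = z * a) : a⁻¹ * z = z * a⁻¹ := by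
  rw [inv_mul_eq_iff_eq_mul, ← mul_assoc, ha, mul_inv_cancel_right]

theorem Tensor.φ_ne_zero (h : Tensor z Q π φ) {t : G} (ht : t ∈ Q) (h1 : t ≠ 1) (hz : t ≠ z) : φ t ≠ 0 :=
  fun e => ((h.φ_ker t ht).mp e).elim h1 hz

variable [Finite G]

/-- In the normalized position: `φ t = ψ z = τ₁`. -/
theorem Tensor.false_of_normal (h : Tensor z Q π φ) {g : G} (ht : g * z * g⁻¹ ∈ Q)
    (hne : g * z * g⁻¹ ≠ z) (hφ : φ (g * z * g⁻¹) = tau1) (hψ : cφ φ g z = tau1) : False := by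
  set t := g * z * g⁻¹ with htdef
  have hz : z ∈ cQ Q g := h.symm ht
  have hk : Tensor t (cQ Q g) (cπ π g) (cφ φ g) := h.conj g
  have htz : t * z = z * t := h.sing.comm_x t ht
  have hwc := h.wcHyp ht hne
  rw [← htdef, hφ] at hwc
  obtain ⟨hL, hR⟩ := tau1_struct hwc
  have hgz : g⁻¹ * t * g⁻¹⁻¹ = z := by rw [htdef]; group
  have hwc' := hk.wcHyp (g := g⁻¹) (hgz ▸ hz) (by rw [hgz]; exact hne.symm)
  rw [hgz, hψ] at hwc'
  obtain ⟨hL', -⟩ := tau1_struct hwc'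
  have hψX : ∀ x ∈ pX Q g, L0 (cφ φ g x) := fun x hx =>
    (hL' _).mp ⟨x, ⟨hx.2, by rw [cQ_cQ_inv]; exact hx.1⟩, rfl⟩
  have hLX' : ∀ l, L0 l → ∃ x ∈ pX Q g, cφ φ g x = l := fun l hl => by
    obtain ⟨x, hx, e⟩ := (hL' l).mpr hl
    exact ⟨x, ⟨by simpa [cQ_cQ_inv] using hx.2, hx.1⟩, e⟩
  have hLX : ∀ l, L0 l → ∃ x ∈ pX Q g, φ x = l := fun l hl => (hL l).mpr hl
  have hzX : z ∈ pX Q g := ⟨h.sing.mem, hz⟩
  have htX : t ∈ pX Q g := ⟨ht, hk.sing.mem⟩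
  have hψt : cφ φ g t = 0 := hk.φ_z
  -- the transfer of `F₀`
  have key : ∀ x ∈ pX Q g, ∀ a : W4, a.2.1 = 0 → φ x = (a, 0) →
      (cφ φ g x).1.2.1 = 0 ∧ (cφ φ g x).2 = 0 := by
    let P : G → Prop := fun x => x ∈ pX Q g ∧ (cφ φ g x).1.2.1 = 0 ∧ (cφ φ g x).2 = 0
    have Pmul : ∀ x y, P x → P y → P (x * y) := by
      rintro x y ⟨hx, x1, x2⟩ ⟨hy, y1, y2⟩
      have e : cφ φ g (x * y) = cφ φ g x + cφ φ g y := hk.φ_mul _ hx.2 _ hy.2
      refine ⟨(pX Q g).mul_mem hx hy, ?_, ?_⟩ <;> rw [e] <;> simp [x1, x2, y1, y2]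
    have Pz : P z := ⟨hzX, by rw [hψ]; decide, by rw [hψ]; decide⟩
    have P1 : P 1 := ⟨(pX Q g).one_mem, by rw [hk.φ_one]; decide, by rw [hk.φ_one]; decide⟩
    have Pt : P t := ⟨htX, by rw [hψt]; decide, by rw [hψt]; decide⟩
    have Pc : ∀ p : P36, p.1 = 1 → Equiv.Perm.sign p.2 = 1 → wAct p.2 w0 = w0 →
        ∀ y : W4, y.2.1 = 0 → ∃ x, P x ∧ φ x = (wAct p.2 y + y, 0) := by
      rintro p hp1 hp2 hpw y hy
      obtain ⟨a0, ha0, hpa⟩ := h.π_range p (by rw [hp1]; exact map_one _) hp2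
      have hfix : vAct (π a0) (φ t) = φ t := by
        rw [hpa, hφ, show p = (1, p.2) from Prod.ext hp1 rfl, tau1, vAct_pure_second, hpw, wAct_zero]
      obtain ⟨a, ha, hat, hπa⟩ := h.lift_fix ht hne ha0 hfix
      obtain ⟨x, hx, hφx⟩ := hLX (y, 0) ⟨hy, Or.inl rfl⟩
      have hax : a * x * a⁻¹ ∈ pX Q g := h.norm_X ha hat hx
      refine ⟨a * x * a⁻¹ * x, ⟨(pX Q g).mul_mem hax hx, ?_⟩, ?_⟩
      · have e : cφ φ g (a * x * a⁻¹ * x) = vAct (cπ π g a) (cφ φ g x) + cφ φ g x := by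
          rw [hk.φ_mul _ hax.2 _ hx.2, hk.φ_act a hat x hx.2]
        rw [e]
        have hfz : vAct (cπ π g a) tau1 = tau1 := by
          rw [← hψ, ← hk.φ_act a hat z hz]
          congr 1
          exact mul_inv_eq_iff_eq_mul.mpr ha
        obtain ⟨hc0, hcw⟩ := fix_tau1 hfz
        obtain ⟨hl1, hl2⟩ := hψX x hx
        have hgv : wAct (cπ π g a).2 (cφ φ g x).2 = (cφ φ g x).2 := by
          rcases hl2 with e' | e' <;> rw [e']
          · exact wAct_zero _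
          · exact hcw
        have hgu : (wAct (cπ π g a).2 (cφ φ g x).1).2.1 = 0 := by
          rw [← wB_w0]
          conv_lhs => rw [← hcw]
          rw [wB_wAct, wB_w0]; exact hl1
        have hv1 : ((cφ φ g x).2).2.1 = 0 := by
          rcases hl2 with e' | e' <;> rw [e'] <;> decide
        rcases fix_zero _ hc0 with e' | e' <;>
          · have s0 : ptVec (Equiv.swap (1 : Fin 3) 2 0) = (1, 0) := by decide
            have s1 : ptVec (Equiv.swap (1 : Fin 3) 2 1) = (1, 1) := by decide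
            have i0 : ptVec ((1 : Equiv.Perm (Fin 3)) 0) = (1, 0) := by decide
            have i1 : ptVec ((1 : Equiv.Perm (Fin 3)) 1) = (0, 1) := by decide
            simp only [vAct, e', hgv, s0, s1, i0, i1, one_smul, zero_smul, add_zero, zero_add]
            constructor <;> simp [hgu, hl1, hv1, add_self_W4]
      · rw [h.φ_mul _ hax.1 _ hx.1, h.φ_act a ha x hx.1, hπa, hpa, hφx,
          show p = (1, p.2) from Prod.ext hp1 rfl, vAct_pure_second, wAct_zero]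
        simp
    intro x hx a ha hφx
    obtain ⟨c1, c2, c3, hc⟩ := F0_gen a ha
    obtain ⟨hes, hew⟩ := F0_e
    obtain ⟨x2, hx2, hf2⟩ := Pc (1, _) rfl hes hew (0, 0, 1, 0) (by decide)
    obtain ⟨x3, hx3, hf3⟩ := Pc (1, _) rfl hes hew (0, 0, 0, 1) (by decide)
    have Ps : ∀ (c : ZMod 2) (y : G) (l : W4), P y → φ y = (l, 0) → ∃ y', P y' ∧ φ y' = (c • l, 0) := by
      intro c y l hy hl
      rcases (show ∀ c : ZMod 2, c = 0 ∨ c = 1 by decide) c with rfl | rfl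
      · exact ⟨1, P1, by rw [h.φ_one, zero_smul]; rfl⟩
      · exact ⟨y, hy, by rw [hl, one_smul]⟩
    obtain ⟨y1, hy1, g1⟩ := Ps c1 t w0 Pt hφ
    obtain ⟨y2, hy2, g2⟩ := Ps c2 x2 _ hx2 hf2
    obtain ⟨y3, hy3, g3⟩ := Ps c3 x3 _ hx3 hf3
    have hy : P (y1 * y2 * y3) := Pmul _ _ (Pmul _ _ hy1 hy2) hy3
    have e : φ (y1 * y2 * y3) = φ x := by
      rw [h.φ_mul _ (Q.mul_mem hy1.1.1 hy2.1.1) _ hy3.1.1, h.φ_mul _ hy1.1.1 _ hy2.1.1, g1, g2, g3, hφx, hc]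
      simp
    rcases (h.φ_eq_iff hx.1 hy.1.1).mp e.symm with e' | e'
    · exact e' ▸ hy.2
    · exact e' ▸ (Pmul _ _ Pz hy).2
  -- the third point
  obtain ⟨x1, hx1, hφx1⟩ := hLX (((0, 0, 1, 0) : W4), 0) (by decide)
  obtain ⟨hu1, hu2⟩ := key x1 hx1 _ (by decide) hφx1
  have hu0 : (cφ φ g x1).1 ≠ 0 := by
    intro e
    have e' : cφ φ g x1 = 0 := Prod.ext e hu2
    rcases (hk.φ_ker x1 hx1.2).mp e' with e'' | e'' <;> rw [e''] at hφx1
    · rw [h.φ_one] at hφx1; exact absurd hφx1 (by decide)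
    · rw [hφ] at hφx1; exact absurd hφx1 (by decide)
  have hu3 : (cφ φ g x1).1 ≠ w0 := by
    intro e
    have e' : cφ φ g x1 = cφ φ g z := by rw [hψ]; exact Prod.ext e hu2
    rcases (hk.φ_eq_iff hx1.2 hz).mp e' with e'' | e'' <;> rw [e''] at hφx1
    · rw [h.φ_z] at hφx1; exact absurd hφx1 (by decide)
    · rw [h.φ_mul _ ht _ h.sing.mem, hφ, h.φ_z] at hφx1; exact absurd hφx1 (by decide)
  obtain ⟨v, hv0, hv1⟩ := exists_v _ hu1 hu0 hu3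
  -- the conjugate `d`
  have hvne : v ≠ 0 := fun e => by rw [e] at hv0; exact absurd hv0 (by decide)
  obtain ⟨g0, hg0, hg0v⟩ := wAct_transitive (v := w0) (w := v) (by decide) hvne
  obtain ⟨a, hat, hπa⟩ := hk.π_range (1, g0) (map_one _) hg0
  have hb : a * z * a⁻¹ ∈ cQ Q g := hk.sing.norm a hat z hz
  have hψb : cφ φ g (a * z * a⁻¹) = (v, 0) := by
    rw [hk.φ_act a hat z hz, hπa, hψ, tau1, vAct_pure_second, hg0v, wAct_zero]
  set d := a * z * a⁻¹ with hddef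
  have hdz : d * z = z * d := (hk.comm_iff hb hz).mpr (by rw [hψb, hψ]; simp [vB, tau1, wB_zero])
  have hdB : d ∈ pB z Q g := mem_pB.mpr ⟨hb, hdz⟩
  have hdQ : d ∉ Q := fun hq => by
    obtain ⟨h1, -⟩ := hψX d ⟨hq, hb⟩
    rw [hψb] at h1
    rw [wB_w0] at hv0
    exact absurd (h1.symm.trans hv0) (by decide)
  have hd1 : π d ≠ 1 := fun e => hdQ ((h.π_ker d hdz).mp e)
  have hdfix : ∀ a' : W4, a'.2.1 = 0 → vAct (π d) ((a', 0) : V8) = (a', 0) := by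
    intro a' ha'
    obtain ⟨x, hx, hφx⟩ := hLX (a', 0) ⟨ha', Or.inl rfl⟩
    obtain ⟨h1, h2⟩ := key x hx a' ha' hφx
    have hc : d * x = x * d := (hk.comm_iff hb hx.2).mpr (by
      rw [hψb]; simp [vB, h2, wB_zero])
    rw [← hφx, ← h.φ_act d hdz x hx.1]
    congr 1
    exact mul_inv_eq_iff_eq_mul.mpr hc
  rcases hR _ ⟨d, hdB, rfl⟩ hd1 hdfix with hsig | hst
  · exact h.no_sig (g := a) (by rw [← hddef]; exact hdz.symm) hsig
  -- `σ τ` is impossible: `d` also lies in `Q` of the third point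
  obtain ⟨g1, hg1, hg1u⟩ := wAct_transitive (v := w0) (w := ((0, 0, 1, 0) : W4)) (by decide) (by decide)
  obtain ⟨a1, ha1, hπa1, ha1t⟩ : ∃ a1, a1 * z = z * a1 ∧ π a1 = (1, g1) ∧ a1 * t * a1⁻¹ = x1 := by
    obtain ⟨a0, ha0, hπ0⟩ := h.π_range (1, g1) (map_one _) hg1
    have hm : a0 * t * a0⁻¹ ∈ Q := h.sing.norm a0 ha0 t ht
    have e : φ x1 = φ (a0 * t * a0⁻¹) := by
      rw [hφx1, h.φ_act a0 ha0 t ht, hπ0, hφ, tau1, vAct_pure_second, hg1u, wAct_zero]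
    rcases (h.φ_eq_iff hx1.1 hm).mp e with e' | e'
    · exact ⟨a0, ha0, hπ0, e'.symm⟩
    · obtain ⟨y, hy, hy'⟩ := h.sing.exists_translate hm (fun e'' => hk.sing.xne (conj_eq_one_iff.mp e''))
        (fun e'' => hne (by
          calc t = a0⁻¹ * (a0 * t * a0⁻¹) * a0 := by group
            _ = a0⁻¹ * z * a0 := by rw [e'']
            _ = z := by rw [mul_assoc, ← ha0, inv_mul_cancel_left]))
      have hyz := h.sing.comm_x y hy
      refine ⟨y * a0, by rw [mul_assoc, ha0, ← mul_assoc, hyz, mul_assoc],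
        by rw [h.π_mul _ _ hyz ha0, h.π_Q hy, one_mul, hπ0], ?_⟩
      rw [e', ← hy']; group
  obtain ⟨g2, hg2, hg2u⟩ := wAct_transitive (v := w0) (by decide) hu0
  obtain ⟨b1, hb1t, hπb1, hb1z⟩ : ∃ b1, b1 * t = t * b1 ∧ cπ π g b1 = (1, g2) ∧ b1 * z * b1⁻¹ = x1 := by
    obtain ⟨a0, ha0, hπ0⟩ := hk.π_range (1, g2) (map_one _) hg2
    have hm : a0 * z * a0⁻¹ ∈ cQ Q g := hk.sing.norm a0 ha0 z hz
    have e : cφ φ g x1 = cφ φ g (a0 * z * a0⁻¹) := by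
      rw [hk.φ_act a0 ha0 z hz, hπ0, hψ, tau1, vAct_pure_second, hg2u, wAct_zero]
      exact Prod.ext rfl hu2
    rcases (hk.φ_eq_iff hx1.2 hm).mp e with e' | e'
    · exact ⟨a0, ha0, hπ0, e'.symm⟩
    · obtain ⟨y, hy, hy'⟩ := hk.sing.exists_translate hm (fun e'' => h.sing.xne (conj_eq_one_iff.mp e''))
        (fun e'' => hne (by
          have : z = a0⁻¹ * t * a0 := by rw [← e'']; group
          rw [this, mul_assoc, ← ha0, inv_mul_cancel_left]))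
      have hyt := hk.sing.comm_x y hy
      refine ⟨y * a0, by rw [mul_assoc, ha0, ← mul_assoc, hyt, mul_assoc], ?_, ?_⟩
      · rw [hk.π_mul _ _ hyt ha0, hk.π_Q hy, one_mul, hπ0]
      · rw [e', ← hy']; group
  have hv2 : (wAct g2⁻¹ v).2.1 = 0 := by
    rw [← wB_w0, ← wB_wAct g2, hg2u, ← wAct_mul, mul_inv_cancel, wAct_one]
    exact hv1
  obtain ⟨x', hx', hψx'⟩ := hLX' (wAct g2⁻¹ v, 0) ⟨hv2, Or.inl rfl⟩
  have hbx : b1 * x' * b1⁻¹ ∈ cQ Q g := hk.sing.norm b1 hb1t x' hx'.2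
  have hψe : cφ φ g (b1 * x' * b1⁻¹) = (v, 0) := by
    rw [hk.φ_act b1 hb1t x' hx'.2, hπb1, hψx', vAct_pure_second, ← wAct_mul, mul_inv_cancel, wAct_one,
      wAct_zero]
  have hdQ1 : b1⁻¹ * d * b1 ∈ Q := by
    rcases (hk.φ_eq_iff hb hbx).mp (hψb.trans hψe.symm) with e' | e' <;> rw [e']
    · simpa [mul_assoc] using hx'.1
    · rw [show b1⁻¹ * (t * (b1 * x' * b1⁻¹)) * b1 = (b1⁻¹ * t * b1) * x' by group,
        show b1⁻¹ * t * b1 = t by rw [mul_assoc, ← hb1t, inv_mul_cancel_left]]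
      exact Q.mul_mem ht hx'.1
  have hdB1 : d ∈ pB z Q (a1 * g) := by
    refine mem_pB.mpr ⟨mem_cQ.mpr ?_, hdz⟩
    have hc : ((a1 * g)⁻¹ * b1) * z = z * ((a1 * g)⁻¹ * b1) := by
      have e : b1 * z * b1⁻¹ = a1 * g * z * (a1 * g)⁻¹ := by rw [hb1z, ← ha1t, htdef]; group
      calc (a1 * g)⁻¹ * b1 * z = (a1 * g)⁻¹ * (b1 * z * b1⁻¹) * b1 := by group
        _ = z * ((a1 * g)⁻¹ * b1) := by rw [e]; group
    have h' := h.sing.norm _ hc _ hdQ1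
    have e : (a1 * g)⁻¹ * b1 * (b1⁻¹ * d * b1) * ((a1 * g)⁻¹ * b1)⁻¹ = (a1 * g)⁻¹ * d * (a1 * g) := by group
    rwa [e] at h'
  obtain ⟨y, hy, hφy⟩ := h.φ_surj ((0, (0, 1, 0, 1)) : V8)
  have hg' : a1 * g * z * (a1 * g)⁻¹ = x1 := by rw [← ha1t, htdef]; group
  have hyA : y ∈ pA z Q (a1 * g) :=
    mem_pA.mpr ⟨hy, by rw [hg']; exact (h.comm_iff hy hx1.1).mpr (by rw [hφy, hφx1]; exact final_calc.2)⟩
  have hm := h.comm_A_B hyA hdB1
  have hm1 : a1⁻¹ * (y * d * y⁻¹ * d⁻¹) * a1 ∈ pX Q g := by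
    refine ⟨?_, ?_⟩
    · have := h.sing.norm a1⁻¹ (h.comm_inv ha1) _ hm.1
      simpa using this
    · have := mem_cQ.mp hm.2
      exact mem_cQ.mpr (by simpa [mul_assoc] using this)
  obtain ⟨-, hl2⟩ := (hL (φ _)).mp ⟨_, hm1, rfl⟩
  have hcalc : φ (y * d * y⁻¹ * d⁻¹) = vAct (1, g1) (φ (a1⁻¹ * (y * d * y⁻¹ * d⁻¹) * a1)) := by
    rw [← hπa1, ← h.φ_act a1 ha1 _ hm1.1]
    congr 1
    group
  have hcalc2 : φ (y * d * y⁻¹ * d⁻¹) = (((wAct tauP (0, 1, 0, 1) : W4), w0) : V8) := by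
    rw [show y * d * y⁻¹ * d⁻¹ = y * (d * y⁻¹ * d⁻¹) by group,
      h.φ_mul _ hy _ (h.sing.norm d hdz y⁻¹ (Q.inv_mem hy)), h.φ_act d hdz _ (Q.inv_mem hy), h.φ_inv hy,
      hst, hφy, add_comm, final_calc.1]
  have h2 := congrArg Prod.snd (hcalc2.symm.trans hcalc)
  rw [show vAct (1, g1) (φ (a1⁻¹ * (y * d * y⁻¹ * d⁻¹) * a1)) =
      (wAct g1 (φ (a1⁻¹ * (y * d * y⁻¹ * d⁻¹) * a1)).1, wAct g1 (φ (a1⁻¹ * (y * d * y⁻¹ * d⁻¹) * a1)).2) from
    vAct_pure_second _ _ _] at h2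
  rcases hl2 with e | e <;> rw [e] at h2
  · simp only [wAct_zero] at h2; exact absurd h2 (by decide)
  · simp only [hg1u] at h2; exact absurd h2 (by decide)

/-- Coordinates of a conjugate in `Q` can be made pure. -/
theorem Tensor.exists_pure (h : Tensor z Q π φ) {g : G} (ht : g * z * g⁻¹ ∈ Q) (hne : g * z * g⁻¹ ≠ z) :
    ∃ p : P36, Equiv.Perm.sign p.1 = 1 ∧ Equiv.Perm.sign p.2 = 1 ∧ vAct p (φ (g * z * g⁻¹)) = tau1 := by
  have h1 : g * z * g⁻¹ ≠ 1 := (h.conj g).sing.xne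
  obtain ⟨p, hp1, hp2, hpv⟩ := singular_nf _ (h.φ_ne_zero ht h1 hne) (h.vq_eq_zero ht (h.conj g).sing.xx)
  refine ⟨p, hp1, hp2, hpv.resolve_right fun e => ?_⟩
  obtain ⟨a, ha, hπa⟩ := h.π_range p hp1 hp2
  have hconj : a * g * z * (a * g)⁻¹ = a * (g * z * g⁻¹) * a⁻¹ := by group
  have ht' : a * g * z * (a * g)⁻¹ ∈ Q := hconj ▸ h.sing.norm a ha _ ht
  have hne' : a * g * z * (a * g)⁻¹ ≠ z := fun e' => hne (by
    calc g * z * g⁻¹ = a⁻¹ * (a * g * z * (a * g)⁻¹) * a := by group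
      _ = z := by rw [e', mul_assoc, ← ha, inv_mul_cancel_left])
  have hw := h.wcHyp ht' hne'
  rw [hconj, h.φ_act a ha _ ht, hπa, e] at hw
  exact not_tau2 hw

/-- `z` is weakly closed in `Q`. -/
theorem Tensor.eq_of_mem (h : Tensor z Q π φ) {g : G} (ht : g * z * g⁻¹ ∈ Q) : g * z * g⁻¹ = z := by
  by_contra hne
  obtain ⟨p, hp1, hp2, hpv⟩ := h.exists_pure ht hne
  obtain ⟨a, ha, hπa⟩ := h.π_range p hp1 hp2
  have hconj : a * g * z * (a * g)⁻¹ = a * (g * z * g⁻¹) * a⁻¹ := by group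
  have ht' : a * g * z * (a * g)⁻¹ ∈ Q := hconj ▸ h.sing.norm a ha _ ht
  have hne' : a * g * z * (a * g)⁻¹ ≠ z := fun e' => hne (by
    calc g * z * g⁻¹ = a⁻¹ * (a * g * z * (a * g)⁻¹) * a := by group
      _ = z := by rw [e', mul_assoc, ← ha, inv_mul_cancel_left])
  have hφ' : φ (a * g * z * (a * g)⁻¹) = tau1 := by rw [hconj, h.φ_act a ha _ ht, hπa, hpv]
  set g' := a * g with hg'def
  have hgz : g'⁻¹ * (g' * z * g'⁻¹) * g'⁻¹⁻¹ = z := by group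
  obtain ⟨p', hp1', hp2', hpv'⟩ := (h.conj g').exists_pure (g := g'⁻¹)
    (by rw [hgz]; exact h.symm ht') (by rw [hgz]; exact hne'.symm)
  rw [hgz] at hpv'
  obtain ⟨b, hb, hπb⟩ := h.π_range p' hp1' hp2'
  have hb' := h.comm_inv hb
  have hsame : g' * b⁻¹ * z * (g' * b⁻¹)⁻¹ = g' * z * g'⁻¹ := by
    rw [show g' * b⁻¹ * z * (g' * b⁻¹)⁻¹ = g' * (b⁻¹ * z * b) * g'⁻¹ by group, hb', inv_mul_cancel_right]
  refine h.false_of_normal (g := g' * b⁻¹) (hsame ▸ ht') (hsame ▸ hne') (hsame ▸ hφ') ?_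
  have hzQ : g'⁻¹ * z * g' ∈ Q := mem_cQ.mp (h.symm ht')
  show φ ((g' * b⁻¹)⁻¹ * z * (g' * b⁻¹)) = tau1
  rw [show (g' * b⁻¹)⁻¹ * z * (g' * b⁻¹) = b * (g'⁻¹ * z * g') * b⁻¹ by group, h.φ_act b hb _ hzQ, hπb]
  exact hpv'

end Cfsg.Agent.H70.CHZ
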