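import Cfsg.Agent.H70.CHZ.Pair
import Cfsg.Agent.H70.CHZ.OutFacts
import Cfsg.Agent.H70.CHZ.TensorWC
import Cfsg.Agent.H70.CHZ.TensorSigma

/-! The tensor case: no conjugate of `z` other than `z` lies in `C(z)`, given the two auxiliary facts
`EqOfMem` (no other conjugate inside `Q`) and `NoSig` (no conjugate of class `(sig, 1)`). -/

set_option autoImplicit false
set_option synthInstance.maxSize 4000

namespace Cfsg.Agent.H70.CHZ

namespace Out

open Equiv

theorem zmod_two : ∀ x : ZMod 2, x = 0 ∨ x = 1 := by decide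

/-- The statement of `Tensor.eq_of_mem`, for all settings in a group. -/
def EqOfMem (G : Type*) [Group G] : Prop :=
  ∀ (z : G) (Q : Subgroup G) (π : G → P36) (φ : G → V8), Tensor z Q π φ →
    ∀ g : G, g * z * g⁻¹ ∈ Q → g * z * g⁻¹ = z

/-- No commuting conjugate of class `p`, for all settings in a group. -/
def Dead (G : Type*) [Group G] (p : P36) : Prop :=
  ∀ (z : G) (Q : Subgroup G) (π : G → P36) (φ : G → V8), Tensor z Q π φ →
    ∀ g : G, z * (g * z * g⁻¹) = g * z * g⁻¹ * z → π (g * z * g⁻¹) = p → False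

variable {G : Type*} [Group G] {z : G} {Q : Subgroup G} {π : G → P36} {φ : G → V8}

theorem comm_inv' {a x : G} (h : a * x = x * a) : a⁻¹ * x = x * a⁻¹ := by
  rw [inv_mul_eq_iff_eq_mul, ← mul_assoc, h, mul_inv_cancel_right]

theorem comm_mul' {a b x : G} (ha : a * x = x * a) (hb : b * x = x * b) : a * b * x = x * (a * b) := by
  rw [mul_assoc, hb, ← mul_assoc, ha, mul_assoc]

section
variable (h : Tensor z Q π φ)
include h

theorem φ_one : φ 1 = 0 := (h.φ_ker 1 Q.one_mem).mpr (Or.inl rfl)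

theorem φ_z : φ z = 0 := (h.φ_ker z h.sing.mem).mpr (Or.inr rfl)

theorem φ_inv {a : G} (ha : a ∈ Q) : φ a⁻¹ = φ a := by
  have e := h.φ_mul a ha a⁻¹ (Q.inv_mem ha)
  rw [mul_inv_cancel, φ_one h] at e
  calc φ a⁻¹ = (φ a + φ a⁻¹) + φ a := by rw [add_right_comm, v8_add_self, zero_add]
    _ = φ a := by rw [← e, zero_add]

theorem eq_of_φ {a b : G} (ha : a ∈ Q) (hb : b ∈ Q) (e : φ a = φ b) : b = a ∨ b = a * z := by
  have e' : φ (a⁻¹ * b) = 0 := by
    rw [h.φ_mul _ (Q.inv_mem ha) _ hb, φ_inv h ha, e, v8_add_self]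
  rcases (h.φ_ker _ (Q.mul_mem (Q.inv_mem ha) hb)).mp e' with e1 | e1
  · exact Or.inl (inv_mul_eq_one.mp e1).symm
  · exact Or.inr (inv_mul_eq_iff_eq_mul.mp e1)

theorem sq_sq {a : G} (ha : a ∈ Q) : a ^ 4 = 1 := by
  rw [show a ^ 4 = (a * a) * (a * a) by simp [pow_succ, mul_assoc], h.φ_sq a ha]
  unfold zb
  split_ifs
  · simp
  · exact h.sing.xx

theorem card_preimage_le (S : Set V8) (H : Subgroup G) (hH : ∀ a ∈ Q, φ a ∈ S → a ∈ H) [Finite G] :
    2 * Nat.card S ≤ Nat.card H := by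
  choose l hlQ hl using h.φ_surj
  have hz : ∀ v, l v * z ∈ Q ∧ φ (l v * z) = v := fun v =>
    ⟨Q.mul_mem (hlQ v) h.sing.mem, by rw [h.φ_mul _ (hlQ v) _ h.sing.mem, φ_z h, add_zero, hl]⟩
  let f : S × Bool → H := fun p => if p.2 then ⟨l p.1 * z, hH _ (hz p.1).1 (by rw [(hz p.1).2]; exact p.1.2)⟩
    else ⟨l p.1, hH _ (hlQ p.1) (by rw [hl]; exact p.1.2)⟩
  have hf : Function.Injective f := by
    rintro ⟨u, b⟩ ⟨v, c⟩ e
    have e' := congrArg (fun x : H => (x : G)) e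
    have eφ := congrArg φ e'
    rcases b with _ | _ <;> rcases c with _ | _ <;>
      simp only [f, Bool.false_eq_true, if_false, if_true, hl, (hz _).2] at e' eφ
    · rw [Subtype.ext eφ]
    · rw [eφ] at e'
      exact absurd (left_eq_mul.mp e') h.sing.xne
    · rw [eφ] at e'
      exact absurd (mul_eq_left.mp e') h.sing.xne
    · rw [Subtype.ext eφ]
  have := Nat.card_le_card_of_injective f hf
  rw [Nat.card_prod, Nat.card_eq_fintype_card (α := Bool), Fintype.card_bool] at this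
  omega

variable {g : G} (hc : z * (g * z * g⁻¹) = g * z * g⁻¹ * z)
include hc

omit hc in
theorem tt : (g * z * g⁻¹) * (g * z * g⁻¹) = 1 := (h.conj g).sing.xx

omit hc in
theorem t_inv : (g * z * g⁻¹)⁻¹ = g * z * g⁻¹ := inv_eq_of_mul_eq_one_right (tt h)

theorem πt_sq : π (g * z * g⁻¹) * π (g * z * g⁻¹) = 1 := by
  rw [← h.π_mul _ _ hc.symm hc.symm, tt h, h.toBase.π_one]

theorem conj_t_mem {x : G} (hx : x ∈ Q) : (g * z * g⁻¹) * x * (g * z * g⁻¹) ∈ Q := by
  have := h.sing.norm (g * z * g⁻¹) hc.symm x hx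
  rwa [t_inv h] at this

theorem φ_conj_t {x : G} (hx : x ∈ Q) :
    φ ((g * z * g⁻¹) * x * (g * z * g⁻¹)) = vAct (π (g * z * g⁻¹)) (φ x) := by
  have := h.φ_act (g * z * g⁻¹) hc.symm x hx
  rwa [t_inv h] at this

theorem mem_A_iff {a : G} (ha : a ∈ Q) :
    a ∈ pA z Q g ↔ (g * z * g⁻¹) * a * (g * z * g⁻¹) = a := by
  rw [mem_pA]
  constructor
  · rintro ⟨-, e⟩
    rw [mul_assoc, e, ← mul_assoc, tt h, one_mul]
  · intro e
    refine ⟨ha, ?_⟩
    calc a * (g * z * g⁻¹) = ((g * z * g⁻¹) * a * (g * z * g⁻¹)) * (g * z * g⁻¹) := by rw [e]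
      _ = (g * z * g⁻¹) * a * ((g * z * g⁻¹) * (g * z * g⁻¹)) := mul_assoc _ _ _
      _ = (g * z * g⁻¹) * a := by rw [tt h, mul_one]

theorem φ_A {a : G} (ha : a ∈ pA z Q g) : vAct (π (g * z * g⁻¹)) (φ a) = φ a := by
  rw [← φ_conj_t h hc (mem_pA.mp ha).1, (mem_A_iff h hc (mem_pA.mp ha).1).mp ha]

omit h hc in
/-- The commutator of `t` with an element. -/
def tcom (t y : G) : G := t * y * t * y⁻¹

theorem tcom_mem {y : G} (hy : y ∈ Q) : tcom (g * z * g⁻¹) y ∈ Q :=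
  Q.mul_mem (conj_t_mem h hc hy) (Q.inv_mem hy)

theorem φ_tcom {y : G} (hy : y ∈ Q) :
    φ (tcom (g * z * g⁻¹) y) = vAct (π (g * z * g⁻¹)) (φ y) + φ y := by
  rw [tcom, h.φ_mul _ (conj_t_mem h hc hy) _ (Q.inv_mem hy), φ_conj_t h hc hy, φ_inv h hy]

omit hc in
theorem t_tcom {y : G} : (g * z * g⁻¹) * tcom (g * z * g⁻¹) y = y * (g * z * g⁻¹) * y⁻¹ := by
  calc (g * z * g⁻¹) * tcom (g * z * g⁻¹) y
      = ((g * z * g⁻¹) * (g * z * g⁻¹)) * (y * (g * z * g⁻¹) * y⁻¹) := by unfold tcom; group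
    _ = _ := by rw [tt h, one_mul]

omit hc in
theorem tcom_inv {y : G} :
    (g * z * g⁻¹) * tcom (g * z * g⁻¹) y * (g * z * g⁻¹) = (tcom (g * z * g⁻¹) y)⁻¹ := by
  rw [t_tcom h, show (tcom (g * z * g⁻¹) y)⁻¹ = y * (g * z * g⁻¹)⁻¹ * y⁻¹ * (g * z * g⁻¹)⁻¹ by
    unfold tcom; group, t_inv h]

/-- An element of `Q` above `D v` is a commutator, possibly times `z`. -/
theorem eq_tcom_or {x y : G} (hx : x ∈ Q) (hy : y ∈ Q)
    (e : φ x = vAct (π (g * z * g⁻¹)) (φ y) + φ y) :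
    x = tcom (g * z * g⁻¹) y ∨ x = tcom (g * z * g⁻¹) y * z :=
  eq_of_φ h (tcom_mem h hc hy) hx ((φ_tcom h hc hy).trans e.symm)

/-- An element above the image of `π t + 1` of square one centralizes `t`. -/
theorem mem_A_of_image {a : G} (ha : a ∈ Q) (haa : a * a = 1) {w : V8}
    (hw : vAct (π (g * z * g⁻¹)) w + w = φ a) : a ∈ pA z Q g := by
  obtain ⟨y, hy, rfl⟩ := h.φ_surj w
  rw [mem_A_iff h hc ha]
  have hinv : a⁻¹ = a := inv_eq_of_mul_eq_one_right haa
  rcases eq_tcom_or h hc ha hy hw.symm with e | e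
  · rw [e, tcom_inv h, ← e, hinv]
  · have hcz : tcom (g * z * g⁻¹) y * z = z * tcom (g * z * g⁻¹) y :=
      h.sing.comm_x _ (tcom_mem h hc hy)
    calc (g * z * g⁻¹) * a * (g * z * g⁻¹)
        = (g * z * g⁻¹) * tcom (g * z * g⁻¹) y * (z * (g * z * g⁻¹)) := by rw [e]; group
      _ = ((g * z * g⁻¹) * tcom (g * z * g⁻¹) y * (g * z * g⁻¹)) * z := by rw [hc]; group
      _ = (tcom (g * z * g⁻¹) y)⁻¹ * z := by rw [tcom_inv h]
      _ = a⁻¹ := by
        rw [e, mul_inv_rev, inv_eq_of_mul_eq_one_right h.sing.xx]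
        exact comm_inv' hcz
      _ = a := hinv

theorem tcom_mem_X {y : G} (em : EqOfMem G) (hX : tcom (g * z * g⁻¹) y ∈ pX Q g) :
    tcom (g * z * g⁻¹) y = 1 := by
  have h' := h.conj g
  have e : y * (g * z * g⁻¹) * y⁻¹ = g * z * g⁻¹ :=
    em _ _ _ _ h' y (t_tcom h ▸ (cQ Q g).mul_mem h'.sing.mem hX.2)
  rw [← t_tcom h] at e
  exact mul_eq_left.mp e

omit hc in
theorem cπ_t : cπ π g (g * z * g⁻¹) = 1 := (h.conj g).toBase.π_Q (h.conj g).sing.mem

theorem t_notMem (hne : π (g * z * g⁻¹) ≠ 1) : g * z * g⁻¹ ∉ Q := fun e => hne (h.toBase.π_Q e)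

/-- For a commutator in `A`, `cπ` of it is the class of a conjugate of `t`. -/
theorem tcom_class {y : G} (hA : tcom (g * z * g⁻¹) y ∈ pA z Q g) {p : P36} (hp : Dead G p) :
    cπ π g (tcom (g * z * g⁻¹) y) ≠ p := by
  intro e
  have hat := (mem_pA.mp hA).2
  refine hp _ _ _ _ (h.conj g) y ?_ ?_
  · rw [← t_tcom h]
    exact (comm_mul' rfl hat).symm
  · rw [← t_tcom h, (h.conj g).π_mul _ _ rfl hat, cπ_t h, one_mul, e]

/-- `cπ` on `A`. -/
def fA : ↥(pA z Q g) →* P36 where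
  toFun a := cπ π g a
  map_one' := (h.conj g).toBase.π_one
  map_mul' a b := (h.conj g).π_mul _ _ (mem_pA.mp a.2).2 (mem_pA.mp b.2).2

theorem fA_ker [Finite G] : Nat.card (fA h (g := g)).ker = Nat.card (pX Q g) := by
  have : (fA h (g := g)).ker = (pX Q g).subgroupOf (pA z Q g) := by
    ext a
    rw [MonoidHom.mem_ker, Subgroup.mem_subgroupOf]
    exact ((h.conj g).π_ker _ (mem_pA.mp a.2).2).trans
      ⟨fun e => ⟨(mem_pA.mp a.2).1, e⟩, fun e => e.2⟩
  rw [this, Nat.card_congr (Subgroup.subgroupOfEquivOfLe (h.toBase.X_le_A g)).toEquiv]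

theorem card_A_eq [Finite G] :
    Nat.card (pA z Q g) = Nat.card (pX Q g) * Nat.card (fA h (g := g)).range := by
  rw [← fA_ker h hc, ← Subgroup.index_ker]
  exact (fA h (g := g)).ker.card_mul_index.symm

/-- Lifts of elements of odd order commuting with `π t`. -/
theorem lift_cent (himg : ∀ v, vAct (π (g * z * g⁻¹)) v = v → ∃ w, vAct (π (g * z * g⁻¹)) w + w = v)
    (q : P36) (hq : q ^ 4 = q) (hqs : Ev q) (hqc : q * π (g * z * g⁻¹) = π (g * z * g⁻¹) * q) :
    ∃ a : G, a * z = z * a ∧ a * (g * z * g⁻¹) = g * z * g⁻¹ * a ∧ π a = q := by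
  set t := g * z * g⁻¹ with ht
  have htt : t * t = 1 := tt h
  obtain ⟨a, ha, hπ⟩ := h.π_range (q * q) (by rw [Prod.fst_mul, map_mul, hqs.1, one_mul])
    (by rw [Prod.snd_mul, map_mul, hqs.2, one_mul])
  have ha' := comm_inv' ha
  have hcm : a * t * a⁻¹ * z = z * (a * t * a⁻¹) := comm_mul' (comm_mul' ha hc.symm) ha'
  have hqt : π a * π t * (π a)⁻¹ = π t := by
    have e2 : π a * π t = π t * π a := by
      rw [hπ]; exact comm_mul' hqc hqc
    rw [e2, mul_inv_cancel_right]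
  have hxQ : t * (a * t * a⁻¹) ∈ Q := by
    refine (h.π_ker _ (comm_mul' hc.symm hcm)).mp ?_
    rw [h.π_mul _ _ hc.symm hcm, h.toBase.π_conj ha hc.symm, hqt, πt_sq h hc]
  set x := t * (a * t * a⁻¹) with hx
  have htx : t * x = a * t * a⁻¹ := by rw [hx, ← mul_assoc, htt, one_mul]
  have hxinv : t * x * t = x⁻¹ := by
    have hti : t⁻¹ = t := inv_eq_of_mul_eq_one_right htt
    rw [htx, hx, mul_inv_rev, mul_inv_rev, mul_inv_rev, inv_inv, hti, mul_assoc a t a⁻¹]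
  obtain ⟨w, hw⟩ := himg (φ x) (by
    have e := φ_conj_t h hc hxQ
    rw [← ht, hxinv, φ_inv h hxQ] at e
    exact e.symm)
  obtain ⟨y, hy, rfl⟩ := h.φ_surj w
  have hyz := h.sing.comm_x y hy
  have hy' := comm_inv' hyz
  set b := y⁻¹ * a with hb
  have hbz : b * z = z * b := comm_mul' hy' ha
  have hπb : π b = q * q := by
    rw [hb, h.π_mul _ _ hy' ha, h.toBase.π_Q (Q.inv_mem hy), one_mul, hπ]
  have hbt : b * t * b⁻¹ = t ∨ b * t * b⁻¹ = t * z := by
    have e : b * t * b⁻¹ = y⁻¹ * (t * x) * y := by rw [htx, hb]; group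
    rcases eq_tcom_or h hc hxQ hy hw.symm with e' | e'
    · left
      rw [e, e', t_tcom h]
      simp [ht, mul_assoc]
    · right
      rw [e, e', ← mul_assoc t, t_tcom h, ← ht]
      calc y⁻¹ * (y * t * y⁻¹ * z) * y = t * (y⁻¹ * z) * y := by group
        _ = t * z := by rw [hy']; group
  refine ⟨b * b, comm_mul' hbz hbz, ?_, by rw [h.π_mul _ _ hbz hbz, hπb, ← pow_two q, ← pow_add]; exact hq⟩
  have e2 : b * b * t * (b * b)⁻¹ = t := by
    rcases hbt with e' | e'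
    · rw [show b * b * t * (b * b)⁻¹ = b * (b * t * b⁻¹) * b⁻¹ by group, e', e']
    · rw [show b * b * t * (b * b)⁻¹ = b * (b * t * b⁻¹) * b⁻¹ by group, e',
        show b * (t * z) * b⁻¹ = (b * t * b⁻¹) * (b * z * b⁻¹) by group, e', hbz,
        mul_inv_cancel_right, mul_assoc, h.sing.xx, mul_one]
  exact mul_inv_eq_iff_eq_mul.mp e2

end

theorem Dead.conj {p : P36} (hp : Dead G p) (h : Tensor z Q π φ) {g : G}
    (hc : z * (g * z * g⁻¹) = g * z * g⁻¹ * z) {q : P36} (hq : Ev q)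
    (e : q * π (g * z * g⁻¹) * q⁻¹ = p) : False := by
  obtain ⟨a, ha, rfl⟩ := h.π_range q hq.1 hq.2
  have et : a * g * z * (a * g)⁻¹ = a * (g * z * g⁻¹) * a⁻¹ := by group
  refine hp z Q π φ h (a * g) ?_ ?_
  · rw [et]
    exact (comm_mul' (comm_mul' ha hc.symm) (comm_inv' ha)).symm
  · rw [et, h.toBase.π_conj ha hc.symm, e]

/-- The swapped pair. -/
theorem swap_eq (g : G) : g⁻¹ * (g * z * g⁻¹) * g⁻¹⁻¹ = z := by group

theorem swap_cπ (g a : G) : cπ (cπ π g) g⁻¹ a = π a := by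
  show π (g⁻¹ * (g⁻¹⁻¹ * a * g⁻¹) * g) = π a
  rw [show g⁻¹ * (g⁻¹⁻¹ * a * g⁻¹) * g = a by group]

theorem Dead.swap {p : P36} (hp : Dead G p) (h : Tensor z Q π φ) {g : G}
    (hc : z * (g * z * g⁻¹) = g * z * g⁻¹ * z) {q : P36} (hq : Ev q)
    (e : q * cπ π g z * q⁻¹ = p) : False :=
  hp.conj (h.conj g) (g := g⁻¹) (by rw [swap_eq]; exact hc.symm) hq (by rw [swap_eq]; exact e)

/-- Change the conjugating element so that `cπ z` is conjugated by `q`. -/
theorem normalize_z (h : Tensor z Q π φ) (g : G) (hc : z * (g * z * g⁻¹) = g * z * g⁻¹ * z)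
    {q : P36} (hq : Ev q) :
    ∃ g' : G, g' * z * g'⁻¹ = g * z * g⁻¹ ∧ cπ π g' z = q * cπ π g z * q⁻¹ := by
  obtain ⟨b, hb, rfl⟩ := h.π_range q hq.1 hq.2
  refine ⟨g * b⁻¹, ?_, ?_⟩
  · rw [show g * b⁻¹ * z * (g * b⁻¹)⁻¹ = g * (b⁻¹ * z) * b * g⁻¹ by group, comm_inv' hb]
    group
  · show π ((g * b⁻¹)⁻¹ * z * (g * b⁻¹)) = π b * π (g⁻¹ * z * g) * (π b)⁻¹
    rw [show (g * b⁻¹)⁻¹ * z * (g * b⁻¹) = b * (g⁻¹ * z * g) * b⁻¹ by group]
    exact h.toBase.π_conj hb (comm_conj_iff.mp hc)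

variable [Finite G]

theorem cπz_sq (h : Tensor z Q π φ) {g : G} (hc : z * (g * z * g⁻¹) = g * z * g⁻¹ * z) :
    cπ π g z * cπ π g z = 1 := by
  rw [← (h.conj g).π_mul _ _ hc hc, h.sing.xx, (h.conj g).toBase.π_one]

theorem cπz_ne (h : Tensor z Q π φ) {g : G} (hc : z * (g * z * g⁻¹) = g * z * g⁻¹ * z)
    (hne : π (g * z * g⁻¹) ≠ 1) : cπ π g z ≠ 1 := fun e =>
  hne (h.toBase.π_Q ((h.toBase.mem_iff g).mpr (((h.conj g).π_ker z hc).mp e)))

/-! ### Nonsingular classes -/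

theorem dead_nonsingular (em : EqOfMem G) (ns : Dead G sig) {p : P36}
    (himg : ∀ v, vAct p v = v → ∃ w, vAct p w + w = v) (hq1 : ∃ v, vAct p v = v ∧ vq v = 1)
    (hcard : 8 ≤ Fintype.card {v : V8 // vAct p v = v ∧ vq v = 0}) : Dead G p := by
  intro z Q π φ h g hc hp
  subst hp
  obtain ⟨u, hu, hqu⟩ := hq1
  obtain ⟨w, hw⟩ := himg u hu
  obtain ⟨c, hcQ, hcw⟩ := h.φ_surj u
  obtain ⟨y₁, hy₁, rfl⟩ := h.φ_surj w
  -- conjugation by `t` multiplies `c` by `z`
  have hcinv : c⁻¹ = c * z := by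
    have e := h.φ_sq c hcQ
    rw [hcw, hqu] at e
    simp only [zb, one_ne_zero, if_false] at e
    rw [inv_eq_iff_mul_eq_one, ← mul_assoc, e, h.sing.xx]
  have hzc : c * z = z * c := h.sing.comm_x c hcQ
  have htc : (g * z * g⁻¹) * c * (g * z * g⁻¹) = c * z := by
    rw [← hcinv]
    rcases eq_tcom_or h hc hcQ hy₁ (hcw.trans hw.symm) with e | e
    · rw [e, tcom_inv h]
    · have hcz := h.sing.comm_x _ (tcom_mem h hc hy₁)
      calc (g * z * g⁻¹) * c * (g * z * g⁻¹)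
          = (g * z * g⁻¹) * tcom (g * z * g⁻¹) y₁ * (z * (g * z * g⁻¹)) := by rw [e]; group
        _ = ((g * z * g⁻¹) * tcom (g * z * g⁻¹) y₁ * (g * z * g⁻¹)) * z := by rw [hc]; group
        _ = (tcom (g * z * g⁻¹) y₁)⁻¹ * z := by rw [tcom_inv h]
        _ = c⁻¹ := by
          rw [e, mul_inv_rev, inv_eq_of_mul_eq_one_right h.sing.xx]
          exact comm_inv' hcz
  -- every element of `A` is a commutator of `t`
  have key : ∀ a ∈ pA z Q g, ∃ y, a = tcom (g * z * g⁻¹) y := by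
    intro a ha
    obtain ⟨v, hv⟩ := himg _ (φ_A h hc ha)
    obtain ⟨y, hy, rfl⟩ := h.φ_surj v
    rcases eq_tcom_or h hc (mem_pA.mp ha).1 hy hv.symm with e | e
    · exact ⟨y, e⟩
    · refine ⟨y * c, e.trans ?_⟩
      calc tcom (g * z * g⁻¹) y * z
          = ((g * z * g⁻¹) * y * (g * z * g⁻¹)) * z * y⁻¹ := by
            rw [tcom, mul_assoc _ z y⁻¹, ← comm_inv' (h.sing.comm_x y hy)]; group
        _ = ((g * z * g⁻¹) * y * (g * z * g⁻¹)) * ((c * z) * c⁻¹) * y⁻¹ := by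
            rw [hzc]; group
        _ = ((g * z * g⁻¹) * y * (g * z * g⁻¹)) *
              ((g * z * g⁻¹) * c * (g * z * g⁻¹) * c⁻¹) * y⁻¹ := by rw [htc]
        _ = (g * z * g⁻¹) * y * ((g * z * g⁻¹) * (g * z * g⁻¹)) * c * (g * z * g⁻¹) * c⁻¹ * y⁻¹ := by
            group
        _ = tcom (g * z * g⁻¹) (y * c) := by rw [tt h]; unfold tcom; group
  have hsq : ∀ a ∈ pA z Q g, a * a = 1 := by
    intro a ha
    obtain ⟨y, e⟩ := key a ha
    have e2 := (mem_A_iff h hc (mem_pA.mp ha).1).mp ha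
    rw [e, tcom_inv h] at e2
    rw [e]
    calc tcom (g * z * g⁻¹) y * tcom (g * z * g⁻¹) y
        = (tcom (g * z * g⁻¹) y)⁻¹ * tcom (g * z * g⁻¹) y := by rw [e2]
      _ = 1 := inv_mul_cancel _
  have hX : pX Q g = ⊥ := by
    rw [Subgroup.eq_bot_iff_forall]
    intro x hx
    obtain ⟨y, rfl⟩ := key x (h.toBase.X_le_A g hx)
    exact tcom_mem_X h hc em hx
  have hA : 2 * Nat.card {v : V8 | vAct (π (g * z * g⁻¹)) v = v ∧ vq v = 0} ≤ Nat.card (pA z Q g) := by
    refine card_preimage_le h _ _ fun a ha hS => ?_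
    obtain ⟨w, hw⟩ := himg _ hS.1
    refine mem_A_of_image h hc ha ?_ hw
    rw [h.φ_sq a ha, hS.2]
    rfl
  have h8 : 8 ≤ Nat.card {v : V8 | vAct (π (g * z * g⁻¹)) v = v ∧ vq v = 0} := by
    rwa [Nat.card_eq_fintype_card]
  rw [card_A_eq h hc, hX, Subgroup.card_bot, one_mul] at hA
  obtain ⟨s, hs, hss, hmem⟩ := (elementary_bound (fA h (g := g)).range (by
    rintro _ ⟨a, rfl⟩
    rw [← map_mul, show a * a = 1 from Subtype.ext (hsq a a.2), map_one])).2 (by omega)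
  obtain ⟨⟨a, ha⟩, hfa⟩ := hmem
  obtain ⟨y, rfl⟩ := key a ha
  obtain ⟨e, hev, he⟩ := (inv_three s hss).resolve_left hs
  have hd : Dead G (s, 1) := fun z' Q' π' φ' h' g' hc' hp' =>
    ns.conj h' hc' (q := (e, 1)) ⟨hev, map_one _⟩ (by rw [hp']; simp [sig, Prod.ext_iff, he])
  exact tcom_class h hc ha hd hfa

/-! ### Singular classes -/

/-- The properties of a class with totally singular fixed space equal to the image. -/
structure Sing16 (p : P36) : Prop where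
  img : ∀ v, vAct p v = v → ∃ w, vAct p w + w = v
  q0 : ∀ v, vAct p v = v → vq v = 0
  card : Fintype.card {v : V8 // vAct p v = v} = 16

section
variable (h : Tensor z Q π φ) {g : G} (hc : z * (g * z * g⁻¹) = g * z * g⁻¹ * z)
  (sp : Sing16 (π (g * z * g⁻¹)))
include h hc sp

theorem A_sq {a : G} (ha : a ∈ pA z Q g) : a * a = 1 := by
  rw [h.φ_sq a (mem_pA.mp ha).1, sp.q0 _ (φ_A h hc ha)]
  rfl

theorem mem_A_of_fix {a : G} (ha : a ∈ Q) (hv : vAct (π (g * z * g⁻¹)) (φ a) = φ a) :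
    a ∈ pA z Q g := by
  obtain ⟨w, hw⟩ := sp.img _ hv
  refine mem_A_of_image h hc ha ?_ hw
  rw [h.φ_sq a ha, sp.q0 _ hv]
  rfl

theorem card_A32 : 32 ≤ Nat.card (pA z Q g) := by
  have := card_preimage_le h {v : V8 | vAct (π (g * z * g⁻¹)) v = v} (pA z Q g)
    fun a ha hS => mem_A_of_fix h hc sp ha hS
  have e : Nat.card {v : V8 | vAct (π (g * z * g⁻¹)) v = v} = 16 := by
    rw [Nat.card_eq_fintype_card]; exact sp.card
  omega

theorem range_le : Nat.card (fA h (g := g)).range ≤ 16 :=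
  (elementary_bound (fA h (g := g)).range (by
    rintro _ ⟨a, rfl⟩
    rw [← map_mul, show a * a = 1 from Subtype.ext (A_sq h hc sp a.2), map_one])).1

theorem X_ne_bot : pX Q g ≠ ⊥ := fun e => by
  have := card_A32 h hc sp
  rw [card_A_eq h hc, e, Subgroup.card_bot, one_mul] at this
  have := range_le h hc sp
  omega

theorem X_pair (em : EqOfMem G) {a b : G} (ha : a ∈ pX Q g) (hb : b ∈ pX Q g) (ha1 : a ≠ 1)
    (hb1 : b ≠ 1) (hab : a ≠ b) {w : V8} (hw : vAct (π (g * z * g⁻¹)) w + w = φ a) :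
    vB w (φ b) = 1 := by
  by_contra hB
  have hB0 : vB w (φ b) = 0 := (zmod_two _).resolve_right hB
  obtain ⟨y, hy, rfl⟩ := h.φ_surj w
  obtain ⟨w', hw'⟩ := sp.img _ (φ_A h hc (h.toBase.X_le_A g hb))
  obtain ⟨y', hy', rfl⟩ := h.φ_surj w'
  set xa := tcom (g * z * g⁻¹) y with hxa
  set xb := tcom (g * z * g⁻¹) y' with hxb
  have hbQ : xb ∈ Q := tcom_mem h hc hy'
  have ea : a = xa * z := (eq_tcom_or h hc ha.1 hy hw.symm).resolve_left
    fun e => ha1 (by rw [e]; exact tcom_mem_X h hc em (e ▸ ha))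
  have eb : b = xb * z := (eq_tcom_or h hc hb.1 hy' hw'.symm).resolve_left
    fun e => hb1 (by rw [e]; exact tcom_mem_X h hc em (e ▸ hb))
  have hyb : y * xb = xb * y := by
    have e := h.φ_comm y hy xb hbQ
    rw [φ_tcom h hc hy', hw', hB0] at e
    simp only [zb, if_true] at e
    exact mul_inv_eq_iff_eq_mul.mp (mul_inv_eq_one.mp e)
  have eab : a * b = tcom (g * z * g⁻¹) (y * y') := by
    have e1 : a * b = xa * xb := by
      rw [ea, eb, mul_assoc, ← mul_assoc z, ← h.sing.comm_x _ hbQ, mul_assoc xb, h.sing.xx, mul_one]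
    calc a * b = xa * (y * xb * y⁻¹) := by rw [e1, hyb, mul_inv_cancel_right]
      _ = (g * z * g⁻¹) * y * ((g * z * g⁻¹) * (g * z * g⁻¹)) * y' * (g * z * g⁻¹) * y'⁻¹ * y⁻¹ := by
          rw [hxa, hxb]; unfold tcom; group
      _ = _ := by rw [tt h]; unfold tcom; group
  have h1 : a * b = 1 := eab.trans (tcom_mem_X h hc em (eab ▸ (pX Q g).mul_mem ha hb))
  exact hab (mul_right_cancel (h1.trans (A_sq h hc sp (h.toBase.X_le_A g hb)).symm))

theorem card_X_le (em : EqOfMem G) : Nat.card (pX Q g) ≤ 4 := by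
  obtain ⟨⟨a, ha⟩, ha'⟩ := Subgroup.ne_bot_iff_exists_ne_one.mp (X_ne_bot h hc sp)
  have ha1 : a ≠ 1 := fun e' => ha' (Subtype.ext e')
  obtain ⟨w, hw⟩ := sp.img _ (φ_A h hc (h.toBase.X_le_A g ha))
  have sq : ∀ x ∈ pX Q g, x * x = 1 := fun x hx => A_sq h hc sp (h.toBase.X_le_A g hx)
  by_cases hex : ∃ b ∈ pX Q g, b ≠ 1 ∧ b ≠ (a : G)
  · obtain ⟨b, hb, hb1, hba⟩ := hex
    have hsub : (pX Q g : Set G) ⊆ {1, (a : G), b, (a : G) * b} := by
      intro x hx
      simp only [Set.mem_insert_iff, Set.mem_singleton_iff]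
      by_contra hh
      push Not at hh
      obtain ⟨hx1, hxa, hxb, hxab⟩ := hh
      have e1 := X_pair h hc sp em ha hb ha1 hb1 hba.symm hw
      have e2 := X_pair h hc sp em ha hx ha1 hx1 (Ne.symm hxa) hw
      have hbx1 : b * x ≠ 1 := fun e => hxb (mul_left_cancel (e.trans (sq b hb).symm))
      have hbxa : (a : G) ≠ b * x := fun e => hxab (by
        have hcomm : (a : G) * b = b * a := by
          have eab := sq _ ((pX Q g).mul_mem ha hb)
          have := inv_eq_of_mul_eq_one_right eab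
          rw [mul_inv_rev, inv_eq_of_mul_eq_one_right (sq _ ha),
            inv_eq_of_mul_eq_one_right (sq _ hb)] at this
          exact this.symm
        rw [hcomm, e, ← mul_assoc, sq b hb, one_mul])
      have e3 := X_pair h hc sp em ha ((pX Q g).mul_mem hb hx) ha1 hbx1 hbxa hw
      rw [h.φ_mul _ hb.1 _ hx.1, vB_add_right, e1, e2] at e3
      exact absurd e3 (by decide)
    rw [← SetLike.coe_sort_coe, Nat.card_coe_set_eq]
    refine (Set.ncard_le_ncard hsub (Set.toFinite _)).trans ?_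
    refine (Set.ncard_insert_le _ _).trans (Nat.succ_le_succ ?_)
    refine (Set.ncard_insert_le _ _).trans (Nat.succ_le_succ ?_)
    exact (Set.ncard_insert_le _ _).trans (by simp)
  · push Not at hex
    have hsub : (pX Q g : Set G) ⊆ {1, (a : G)} := fun x hx => by
      rcases eq_or_ne x 1 with e | e
      · exact Or.inl e
      · exact Or.inr (hex x hx e)
    rw [← SetLike.coe_sort_coe, Nat.card_coe_set_eq]
    exact (Set.ncard_le_ncard hsub (Set.toFinite _)).trans ((Set.ncard_insert_le _ _).trans (by simp))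

end

theorem sing16_strp : Sing16 pSTrp := ⟨strp_image, strp_q, strp_card⟩
theorem sing16_dt : Sing16 pDt := ⟨dt_image, dt_q, dt_card⟩
theorem sing16_trp : Sing16 pTrp := ⟨trp_image, trp_q, trp_card⟩

theorem dead_strp (em : EqOfMem G) : Dead G pSTrp := by
  intro z Q π φ h g hc hp
  have sp : Sing16 (π (g * z * g⁻¹)) := hp ▸ sing16_strp
  obtain ⟨⟨a, ha⟩, ha1'⟩ := Subgroup.ne_bot_iff_exists_ne_one.mp (X_ne_bot h hc sp)
  have ha1 : a ≠ 1 := fun e => ha1' (Subtype.ext e)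
  obtain ⟨w, hw⟩ := sp.img _ (φ_A h hc (h.toBase.X_le_A g ha))
  have hu : φ a ≠ 0 := fun e => by
    rcases (h.φ_ker a ha.1).mp e with e | e
    · exact ha1 e
    · exact h.toBase.z_notMem_X (t_notMem h hc (by rw [hp]; decide +kernel)) (e ▸ ha)
  rw [hp] at hw
  obtain ⟨k, hk, hk1, hk2⟩ := strp_move w (by rw [hw]; exact hu)
  rw [hw] at hk1 hk2
  obtain ⟨hs, h4, hcm⟩ := trpThree_spec k hk
  obtain ⟨c, hcz, hct, hπc⟩ := lift_cent h hc sp.img (1, k) (by simp [Prod.ext_iff, h4]) ⟨map_one _, hs⟩ (by rw [hp]; exact hcm)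
  have hb : c * a * c⁻¹ ∈ pX Q g := h.toBase.norm_X hcz hct ha
  have hφb : φ (c * a * c⁻¹) = vAct (1, k) (φ a) := by rw [h.φ_act c hcz a ha.1, hπc]
  have hb1 : c * a * c⁻¹ ≠ 1 := fun e => ha1 (by
    calc a = c⁻¹ * (c * a * c⁻¹) * c := by group
      _ = 1 := by rw [e]; group)
  have hab : a ≠ c * a * c⁻¹ := fun e => hk1 (by rw [← hφb, ← e])
  have := X_pair h hc sp em ha hb ha1 hb1 hab (w := w) (by rw [hp]; exact hw)
  rw [hφb, hk2] at this
  exact zero_ne_one this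

theorem cyc_spec : cyc ^ 4 = cyc ∧ (Perm.sign cyc.1 = 1 ∧ Perm.sign cyc.2 = 1) ∧ cyc * pDt = pDt * cyc ∧
    cyc * pTrp = pTrp * cyc := by decide +kernel

section
variable (h : Tensor z Q π φ) {g : G} (hc : z * (g * z * g⁻¹) = g * z * g⁻¹ * z)
  (hp : π (g * z * g⁻¹) = pDt ∨ π (g * z * g⁻¹) = pTrp)
include h hc hp

theorem sing16_of : Sing16 (π (g * z * g⁻¹)) := by
  rcases hp with e | e <;> rw [e]
  · exact sing16_dt
  · exact sing16_trp

theorem cyc_lift : ∃ a : G, a * z = z * a ∧ a * (g * z * g⁻¹) = g * z * g⁻¹ * a ∧ π a = cyc :=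
  lift_cent h hc (sing16_of h hc hp).img cyc cyc_spec.1 cyc_spec.2.1 (by
    rcases hp with e | e <;> rw [e]
    · exact cyc_spec.2.2.1
    · exact cyc_spec.2.2.2)

theorem X_fpf {a x : G} (ha : a * z = z * a) (hπ : π a = cyc) (hx : x ∈ pX Q g)
    (e : a * x * a⁻¹ = x) : x = 1 := by
  have e1 := h.φ_act a ha x hx.1
  rw [e, hπ] at e1
  rcases (h.φ_ker x hx.1).mp (cyc_fpf _ e1.symm) with e2 | e2
  · exact e2
  · refine absurd (e2 ▸ hx) (h.toBase.z_notMem_X (t_notMem h hc ?_))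
    rcases hp with e | e <;> rw [e] <;> decide +kernel

/-- The case `cπ z = (1, dt)`. -/
theorem dead_gamma_dt (em : EqOfMem G) (hz : cπ π g z = pDt) : False := by
  have sp := sing16_of h hc hp
  obtain ⟨a₀, ha0, hat0, hπ0⟩ := cyc_lift h hc hp
  have h' := (h.conj g).toBase
  have ha2 := comm_mul' ha0 ha0
  have ha4 := comm_mul' ha2 ha2
  have hat2 := comm_mul' hat0 hat0
  have hat4 := comm_mul' hat2 hat2
  set a := a₀ * a₀ * (a₀ * a₀) with ha
  have hπ : π a = cyc := by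
    rw [ha, h.π_mul _ _ ha2 ha2, h.π_mul _ _ ha0 ha0, hπ0, ← pow_two cyc, ← pow_add]
    exact cyc_spec.1
  set γ₀ := cπ π g a₀ with hγ0
  have hγ : cπ π g a = γ₀ ^ 4 := by
    rw [ha, h'.π_mul _ _ hat2 hat2, h'.π_mul _ _ hat0 hat0, ← pow_two γ₀, ← pow_add]
  have hcz : γ₀ * pDt = pDt * γ₀ := by
    rw [← hz, ← h'.π_mul _ _ hat0 hc, ← h'.π_mul _ _ hc hat0, ha0]
  have hγ2 : (γ₀ ^ 4).2 = 1 := dt_exp γ₀.2 (congrArg Prod.snd hcz)
  have hγ1 : (γ₀ ^ 4).1 ^ 3 = 1 := three_exp γ₀.1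
  have hnorm : ∀ b ∈ pA z Q g, a * b * a⁻¹ ∈ pA z Q g := fun b hb => mem_pA.mpr
    ⟨h.sing.norm a ha4 b (mem_pA.mp hb).1, comm_mul' (comm_mul' hat4 (mem_pA.mp hb).2) (comm_inv' hat4)⟩
  have hfix : ∀ b ∈ pA z Q g, a * b * a⁻¹ * b⁻¹ ∈ pX Q g := by
    intro b hb
    have hb' := hnorm b hb
    have hcomm : b * (a * b * a⁻¹) = a * b * a⁻¹ * b := by
      have e := A_sq h hc sp ((pA z Q g).mul_mem hb hb')
      have := inv_eq_of_mul_eq_one_right e
      rw [mul_inv_rev, inv_eq_of_mul_eq_one_right (A_sq h hc sp hb'),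
        inv_eq_of_mul_eq_one_right (A_sq h hc sp hb)] at this
      exact this.symm
    have hsame : cπ π g (a * b * a⁻¹) = cπ π g b := by
      have hbt := (mem_pA.mp hb).2
      have hbt' := (mem_pA.mp hb').2
      have ec : cπ π g b * cπ π g (a * b * a⁻¹) = cπ π g (a * b * a⁻¹) * cπ π g b := by
        rw [← h'.π_mul _ _ hbt hbt', ← h'.π_mul _ _ hbt' hbt, hcomm]
      have ek : cπ π g b * cπ π g b = 1 := by
        rw [← h'.π_mul _ _ hbt hbt, A_sq h hc sp hb, h'.π_one]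
      rw [h'.π_conj hat4 hbt, hγ] at ec ⊢
      refine Prod.ext ?_ ?_
      · exact three_comm _ _ hγ1 (congrArg Prod.fst ek) (congrArg Prod.fst ec)
      · simp only [Prod.snd_mul, Prod.snd_inv, hγ2, one_mul, inv_one, mul_one]
    refine ⟨Q.mul_mem (mem_pA.mp hb').1 (Q.inv_mem (mem_pA.mp hb).1), ?_⟩
    refine (h'.π_ker _ ?_).mp ?_
    · exact comm_mul' (mem_pA.mp hb').2 (comm_inv' (mem_pA.mp hb).2)
    · rw [h'.π_mul _ _ (mem_pA.mp hb').2 (comm_inv' (mem_pA.mp hb).2),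
        h'.π_inv (mem_pA.mp hb).2, hsame, mul_inv_cancel]
  choose l hlQ hl using h.φ_surj
  have hlA : ∀ v : {v : V8 // vAct (π (g * z * g⁻¹)) v = v}, l v ∈ pA z Q g := fun v =>
    mem_A_of_fix h hc sp (hlQ v) (by rw [hl]; exact v.2)
  let f : {v : V8 // vAct (π (g * z * g⁻¹)) v = v} → pX Q g :=
    fun v => ⟨_, hfix _ (hlA v)⟩
  have hf : Function.Injective f := by
    intro u v e
    have e' := congrArg (fun x : pX Q g => φ (x : G)) e
    simp only [f] at e'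
    rw [h.φ_mul _ (mem_pA.mp (hnorm _ (hlA u))).1 _ (Q.inv_mem (hlQ u)),
      h.φ_mul _ (mem_pA.mp (hnorm _ (hlA v))).1 _ (Q.inv_mem (hlQ v)),
      h.φ_act a ha4 _ (hlQ u), h.φ_act a ha4 _ (hlQ v), φ_inv h (hlQ u), φ_inv h (hlQ v), hπ, hl, hl] at e'
    apply Subtype.ext
    have h0 : vAct cyc ((u : V8) + v) = (u : V8) + v := by
      rw [vAct_add]
      calc vAct cyc u + vAct cyc v
          = (vAct cyc u + u) + (vAct cyc v + v) + ((u : V8) + v) := by
            rw [show ∀ p q r s : V8, p + q + (r + s) + (q + s) = p + r + ((q + q) + (s + s)) from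
              fun p q r s => by abel, v8_add_self, v8_add_self, add_zero, add_zero]
        _ = (u : V8) + v := by rw [e', v8_add_self, zero_add]
    have h1 := cyc_fpf _ h0
    calc (u : V8) = (u : V8) + v + v := by rw [add_assoc, v8_add_self, add_zero]
      _ = v := by rw [h1, zero_add]
  have := Nat.card_le_card_of_injective f hf
  rw [Nat.card_eq_fintype_card, sp.card] at this
  have := card_X_le h hc sp em
  omega

end

/-! ### The class `(1, tau)` -/

section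
variable (h : Tensor z Q π φ) {g : G} (hc : z * (g * z * g⁻¹) = g * z * g⁻¹ * z)
  (hp : π (g * z * g⁻¹) = pTau)
include h hc hp

theorem tau_t_fix {a : G} (ha : a ∈ Q) (hv : vAct pTau (φ a) = φ a) (hA : a ∉ pA z Q g) :
    (g * z * g⁻¹) * a * (g * z * g⁻¹) = a * z :=
  (eq_of_φ h ha (conj_t_mem h hc ha) (by rw [φ_conj_t h hc ha, hp, hv])).resolve_left
    fun e => hA ((mem_A_iff h hc ha).mpr e)

theorem tau_A_mul {a b : G} (ha : a ∈ Q) (hav : vAct pTau (φ a) = φ a) (hA : a ∉ pA z Q g)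
    (hb : b ∈ Q) (hbv : vAct pTau (φ b) = φ b) (hB : b ∉ pA z Q g) : a * b ∈ pA z Q g := by
  rw [mem_A_iff h hc (Q.mul_mem ha hb)]
  calc (g * z * g⁻¹) * (a * b) * (g * z * g⁻¹)
      = (g * z * g⁻¹) * a * ((g * z * g⁻¹) * (g * z * g⁻¹)) * b * (g * z * g⁻¹) := by
        rw [tt h]; group
    _ = ((g * z * g⁻¹) * a * (g * z * g⁻¹)) * ((g * z * g⁻¹) * b * (g * z * g⁻¹)) := by group
    _ = a * (z * b) * z := by rw [tau_t_fix h hc hp ha hav hA, tau_t_fix h hc hp hb hbv hB]; group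
    _ = a * b * (z * z) := by rw [← h.sing.comm_x b hb]; group
    _ = a * b := by rw [h.sing.xx, mul_one]

theorem tau_card_A : 64 ≤ Nat.card (pA z Q g) := by
  choose l hlQ hl using h.φ_surj
  let P : Subgroup G :=
    { carrier := {a | a ∈ Q ∧ vAct pTau (φ a) = φ a}
      one_mem' := ⟨Q.one_mem, by rw [φ_one h, vAct_zero]⟩
      mul_mem' := fun {a b} ha hb => ⟨Q.mul_mem ha.1 hb.1, by
        rw [h.φ_mul _ ha.1 _ hb.1, vAct_add, ha.2, hb.2]⟩
      inv_mem' := fun {a} ha => ⟨Q.inv_mem ha.1, by rw [φ_inv h ha.1, ha.2]⟩ }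
  have hP : 128 ≤ Nat.card P := by
    have := card_preimage_le h {v : V8 | vAct pTau v = v} P fun a ha hS => ⟨ha, hS⟩
    have e : Nat.card {v : V8 | vAct pTau v = v} = 64 := by
      rw [Nat.card_eq_fintype_card]; exact tau_card
    omega
  classical
  by_cases hall : ∀ a ∈ P, a ∈ pA z Q g
  · have := Subgroup.card_le_of_le (fun a ha => hall a ha : P ≤ pA z Q g)
    omega
  · push Not at hall
    obtain ⟨a₀, ha0, hA0⟩ := hall
    let f : P → pA z Q g × Bool := fun a =>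
      if e : (a : G) ∈ pA z Q g then (⟨a, e⟩, false)
      else (⟨a * a₀, tau_A_mul h hc hp a.2.1 a.2.2 e ha0.1 ha0.2 hA0⟩, true)
    have hf : Function.Injective f := by
      intro a b e
      simp only [f] at e
      split_ifs at e <;> simp only [Prod.mk.injEq, Subtype.mk.injEq, Bool.false_eq_true,
        Bool.true_eq_false, and_false, and_true] at e
      · exact Subtype.ext e
      · exact Subtype.ext (mul_right_cancel e)
    have := Nat.card_le_card_of_injective f hf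
    rw [Nat.card_prod, Nat.card_eq_fintype_card (α := Bool), Fintype.card_bool] at this
    omega

theorem tau_noncomm : ∃ a ∈ pA z Q g, ∃ b ∈ pA z Q g, a * b * a⁻¹ * b⁻¹ = z := by
  choose l hlQ hl using h.φ_surj
  classical
  have hzA : z ∈ pA z Q g := mem_pA.mpr ⟨h.sing.mem, hc⟩
  have hfix : ∀ c : W4, vAct pTau (φ (l (tauVec c))) = φ (l (tauVec c)) := fun c => by
    rw [hl]; exact tauVec_fix c
  let L : W4 → ZMod 2 := fun c => if l (tauVec c) ∈ pA z Q g then 0 else 1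
  have hsum : ∀ c d : W4, tauVec (c + d) = tauVec c + tauVec d := fun c d => by
    simp [tauVec, Prod.ext_iff]
  have hL : ∀ c d : W4, L (c + d) = L c + L d := by
    intro c d
    have hcd : l (tauVec (c + d)) = l (tauVec c) * l (tauVec d) ∨
        l (tauVec (c + d)) = l (tauVec c) * l (tauVec d) * z :=
      eq_of_φ h (Q.mul_mem (hlQ _) (hlQ _)) (hlQ _) (by
        rw [h.φ_mul _ (hlQ _) _ (hlQ _), hl, hl, hl, hsum])
    have hiff : l (tauVec (c + d)) ∈ pA z Q g ↔ l (tauVec c) * l (tauVec d) ∈ pA z Q g := by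
      rcases hcd with e | e
      · rw [e]
      · rw [e]; exact Subgroup.mul_mem_cancel_right _ hzA
    simp only [L, hiff]
    by_cases hx : l (tauVec c) ∈ pA z Q g <;> by_cases hy : l (tauVec d) ∈ pA z Q g
    · rw [if_pos hx, if_pos hy, if_pos ((pA z Q g).mul_mem hx hy)]; rfl
    · rw [if_pos hx, if_neg hy, if_neg fun e => hy ((Subgroup.mul_mem_cancel_left _ hx).mp e)]; rfl
    · rw [if_neg hx, if_pos hy, if_neg fun e => hx ((Subgroup.mul_mem_cancel_right _ hy).mp e)]; rfl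
    · rw [if_neg hx, if_neg hy,
        if_pos (tau_A_mul h hc hp (hlQ _) (hfix _) hx (hlQ _) (hfix _) hy)]; rfl
  let Lh : W4 →+ ZMod 2 := AddMonoidHom.mk' L hL
  have hlin : ∀ c : W4, L c = c.1 * L (1, 0, 0, 0) + c.2.1 * L (0, 1, 0, 0) +
      c.2.2.1 * L (0, 0, 1, 0) + c.2.2.2 * L (0, 0, 0, 1) := by
    intro c
    have h0 : L (0, 0, 0, 0) = 0 := Lh.map_zero
    obtain ⟨a, b, x, y⟩ := c
    have e : ((a, b, x, y) : W4) = (a, 0, 0, 0) + (0, b, 0, 0) + (0, 0, x, 0) + (0, 0, 0, y) := by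
      simp
    rw [e, hL, hL, hL]
    simp only [Prod.mk_add_mk, add_zero, zero_add]
    congr 1
    · congr 1
      · congr 1
        · rcases zmod_two a with rfl | rfl
          · simp [h0]
          · simp
        · rcases zmod_two b with rfl | rfl
          · simp [h0]
          · simp
      · rcases zmod_two x with rfl | rfl
        · simp [h0]
        · simp
    · rcases zmod_two y with rfl | rfl
      · simp [h0]
      · simp
  obtain ⟨x, y, hx, hy, hB⟩ :=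
    tauVec_pair (L (1, 0, 0, 0), L (0, 1, 0, 0), L (0, 0, 1, 0), L (0, 0, 0, 1))
  have hmem : ∀ c, L c = 0 → l (tauVec c) ∈ pA z Q g := fun c e => by
    by_contra hn
    simp only [L, if_neg hn] at e
    exact one_ne_zero e
  refine ⟨_, hmem x ((hlin x).trans hx), _, hmem y ((hlin y).trans hy), ?_⟩
  rw [h.φ_comm _ (hlQ _) _ (hlQ _), hl, hl, hB]
  rfl

/-- Opposite to `(1, tau)` stands `(1, dt)`. -/
theorem tau_swap : ∃ q : P36, Ev q ∧ q * cπ π g z * q⁻¹ = pDt := by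
  obtain ⟨a, ha, b, hb, e⟩ := tau_noncomm h hc hp
  have h' := (h.conj g).toBase
  obtain ⟨haQ, hat⟩ := mem_pA.mp ha
  obtain ⟨hbQ, hbt⟩ := mem_pA.mp hb
  have hpow : ∀ x ∈ pA z Q g, cπ π g x ^ 4 = 1 := fun x hx => by
    have e1 := map_pow (fA h (g := g)) ⟨x, hx⟩ 4
    rw [show (⟨x, hx⟩ : pA z Q g) ^ 4 = 1 from Subtype.ext (sq_sq h (mem_pA.mp hx).1), map_one] at e1
    exact e1.symm
  have ez : cπ π g z = cπ π g a * cπ π g b * (cπ π g a)⁻¹ * (cπ π g b)⁻¹ := by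
    conv_lhs => rw [← e]
    rw [h'.π_mul _ _ (comm_mul' (comm_mul' hat hbt) (comm_inv' hat)) (comm_inv' hbt),
      h'.π_conj hat hbt, h'.π_inv hbt]
  rw [ez]
  refine comm_rep _ _ (hpow a ha) (hpow b hb) ?_ ?_ ?_
  · rw [← h'.π_mul _ _ hat hbt]; exact hpow _ ((pA z Q g).mul_mem ha hb)
  · rw [← ez]; exact cπz_sq h hc
  · rw [← ez]; exact cπz_ne h hc (by rw [hp]; decide +kernel)

end

theorem three_two : ∀ s : Equiv.Perm (Fin 3), s ^ 4 = 1 →
    (s * (cyc.1 * s * cyc.1⁻¹)) ^ 4 = 1 → cyc.1 * s * cyc.1⁻¹ = s := by decide +kernel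

section
variable (h : Tensor z Q π φ) {g : G} (hc : z * (g * z * g⁻¹) = g * z * g⁻¹ * z)
  (hp : π (g * z * g⁻¹) = pDt ∨ π (g * z * g⁻¹) = pTrp)
include h hc hp

/-- The case `cπ z = (1, tau)`. -/
theorem dead_gamma_tau (em : EqOfMem G) (hz : cπ π g z = pTau) : False := by
  have sp := sing16_of h hc hp
  have h' := h.conj g
  obtain ⟨a₀, ha0, hat0, hπ0⟩ := cyc_lift h hc hp
  have ha2 := comm_mul' ha0 ha0
  have ha4 := comm_mul' ha2 ha2
  have hat2 := comm_mul' hat0 hat0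
  have hat4 := comm_mul' hat2 hat2
  set a := a₀ * a₀ * (a₀ * a₀) with ha
  have hπ : π a = cyc := by
    rw [ha, h.π_mul _ _ ha2 ha2, h.π_mul _ _ ha0 ha0, hπ0, ← pow_two cyc, ← pow_add]
    exact cyc_spec.1
  set γ₀ := cπ π g a₀ with hγ0
  have hγ : cπ π g a = γ₀ ^ 4 := by
    rw [ha, h'.π_mul _ _ hat2 hat2, h'.π_mul _ _ hat0 hat0, ← pow_two γ₀, ← pow_add]
  have hcz : γ₀ * pTau = pTau * γ₀ := by
    rw [← hz, ← h'.π_mul _ _ hat0 hc, ← h'.π_mul _ _ hc hat0, ha0]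
  have hX1 := X_ne_bot h hc sp
  obtain ⟨⟨x₁, hx₁⟩, hx₁'⟩ := Subgroup.ne_bot_iff_exists_ne_one.mp hX1
  have hγne : γ₀ ^ 4 ≠ 1 := fun e => by
    have hQ' : a ∈ cQ Q g := (h'.π_ker a hat4).mp (hγ.trans e)
    have hm := h'.sing.comm hQ' hx₁.2
    have hm2 : a * x₁ * a⁻¹ * x₁⁻¹ ∈ pX Q g :=
      (pX Q g).mul_mem (h.toBase.norm_X ha4 hat4 hx₁) ((pX Q g).inv_mem hx₁)
    refine hx₁' (Subtype.ext (X_fpf h hc hp ha4 hπ hx₁ ?_))
    rcases h'.sing.pair hm with e1 | e1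
    · exact mul_inv_eq_one.mp e1
    · refine absurd (e1 ▸ hm2) (h.toBase.t_notMem_X (t_notMem h hc ?_))
      rcases hp with e2 | e2 <;> rw [e2] <;> decide +kernel
  -- `B` has order at least 64
  have hB : 64 ≤ Nat.card (pB z Q g) := by
    have e : pB z Q g = pA (g * z * g⁻¹) (cQ Q g) g⁻¹ := by
      ext b
      rw [mem_pB, mem_pA, swap_eq]
    rw [e]
    exact tau_card_A h' (by rw [swap_eq]; exact hc.symm) (by rw [swap_eq]; exact hz)
  let C : Subgroup G := pB z Q g ⊓ Subgroup.centralizer ({a} : Set G)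
  have hsurj : ∀ x₀ ∈ pX Q g, ∃ x ∈ pX Q g, x * (a * x * a⁻¹)⁻¹ = x₀ := by
    let η : pX Q g → pX Q g := fun x =>
      ⟨(x : G) * (a * x * a⁻¹)⁻¹, (pX Q g).mul_mem x.2 ((pX Q g).inv_mem (h.toBase.norm_X ha4 hat4 x.2))⟩
    have hη : Function.Injective η := by
      intro x y e
      have e' : (x : G) * (a * x * a⁻¹)⁻¹ = y * (a * y * a⁻¹)⁻¹ := congrArg Subtype.val e
      have e2 : a * ((y : G)⁻¹ * x) * a⁻¹ = (y : G)⁻¹ * x := by
        calc a * ((y : G)⁻¹ * x) * a⁻¹ = (a * y * a⁻¹)⁻¹ * (a * x * a⁻¹) := by group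
          _ = (y : G)⁻¹ * ((y : G) * (a * y * a⁻¹)⁻¹) * (a * x * a⁻¹) := by group
          _ = (y : G)⁻¹ * x := by rw [← e']; group
      exact Subtype.ext (inv_mul_eq_one.mp
        (X_fpf h hc hp ha4 hπ ((pX Q g).mul_mem ((pX Q g).inv_mem y.2) x.2) e2)).symm
    intro x₀ hx₀
    obtain ⟨x, hx⟩ := Finite.surjective_of_injective hη ⟨x₀, hx₀⟩
    exact ⟨x, x.2, congrArg Subtype.val hx⟩
  have hBC : Nat.card (pB z Q g) ≤ Nat.card (pX Q g) * Nat.card C := by
    let f : pX Q g × C → pB z Q g := fun p =>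
      ⟨(p.2 : G) * p.1, (pB z Q g).mul_mem p.2.2.1 (h.toBase.X_le_B g p.1.2)⟩
    have hf : Function.Surjective f := by
      rintro ⟨b, hb⟩
      obtain ⟨hbQ, hbz⟩ := mem_pB.mp hb
      have hb' : a * b * a⁻¹ ∈ pB z Q g :=
        mem_pB.mpr ⟨h'.sing.norm a hat4 b hbQ, comm_mul' (comm_mul' ha4 hbz) (comm_inv' ha4)⟩
      have hpow : ∀ c ∈ pB z Q g, π c ^ 4 = 1 := fun c hc' => by
        obtain ⟨hcQ, hcz'⟩ := mem_pB.mp hc'
        rw [show π c ^ 4 = π c * π c * (π c * π c) by simp [pow_succ, mul_assoc], ← h.π_mul _ _ hcz' hcz',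
          ← h.π_mul _ _ (comm_mul' hcz' hcz') (comm_mul' hcz' hcz'),
          show c * c * (c * c) = c ^ 4 by simp [pow_succ, mul_assoc], sq_sq h' hcQ, h.toBase.π_one]
      have hsame : π (a * b * a⁻¹) = π b := by
        have e1 := hpow b hb
        have e2 := hpow _ ((pB z Q g).mul_mem hb hb')
        rw [h.π_mul _ _ hbz (mem_pB.mp hb').2] at e2
        rw [h.toBase.π_conj ha4 hbz, hπ] at e2 ⊢
        refine Prod.ext (three_two _ (congrArg Prod.fst e1) (congrArg Prod.fst e2)) ?_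
        simp [cyc]
      have hx₀ : b⁻¹ * (a * b * a⁻¹) ∈ pX Q g := by
        refine (h.toBase.B_inf_Q ((pB z Q g).mul_mem ((pB z Q g).inv_mem hb) hb')).mp ?_
        rw [h.π_mul _ _ (comm_inv' hbz) (mem_pB.mp hb').2, h.toBase.π_inv hbz, hsame, inv_mul_cancel]
      obtain ⟨x, hx, hxe⟩ := hsurj _ hx₀
      have hfx : a * (b * x) * a⁻¹ = b * x := by
        calc a * (b * x) * a⁻¹ = b * (b⁻¹ * (a * b * a⁻¹)) * (a * x * a⁻¹) := by group
          _ = b * x := by rw [← hxe]; group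
      refine ⟨(⟨x⁻¹, (pX Q g).inv_mem hx⟩, ⟨b * x, ⟨(pB z Q g).mul_mem hb (h.toBase.X_le_B g hx),
        Subgroup.mem_centralizer_singleton_iff.mpr (mul_inv_eq_iff_eq_mul.mp hfx).symm⟩⟩), ?_⟩
      exact Subtype.ext (by simp [f, mul_assoc])
    refine (Nat.card_le_card_of_surjective f hf).trans ?_
    rw [Nat.card_prod]
  -- the centralizer of `a` in `B` is small
  have hC : Nat.card C ≤ 8 := by
    choose l hlQ hl using h'.φ_surj
    let S := {v : V8 // vAct pTau v = v ∧ vAct ((γ₀ ^ 4).1, (γ₀ ^ 4).2) v = v}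
    have hS : Fintype.card S ≤ 4 := by
      refine tau_fixed _ ?_ ?_ _ (three_exp γ₀.1) ?_
      · exact congrArg Prod.snd (Commute.pow_left (show Commute γ₀ pTau from hcz) 4).eq
      · rw [Prod.pow_snd, ← pow_mul]
        exact tau_exp γ₀.2 (congrArg Prod.snd hcz)
      · exact hγne
    have hmem : ∀ c : C, vAct pTau (cφ φ g c) = cφ φ g c ∧
        vAct ((γ₀ ^ 4).1, (γ₀ ^ 4).2) (cφ φ g c) = cφ φ g c := by
      intro c
      obtain ⟨hcQ, hcz'⟩ := mem_pB.mp c.2.1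
      have hca := Subgroup.mem_centralizer_singleton_iff.mp c.2.2
      refine ⟨?_, ?_⟩
      · rw [← hz, ← h'.φ_act z hc _ hcQ, ← hcz', mul_inv_cancel_right]
      · rw [Prod.mk.eta, ← hγ, ← h'.φ_act a hat4 _ hcQ, ← hca, mul_inv_cancel_right]
    classical
    let f : C → S × Bool := fun c => (⟨cφ φ g c, hmem c⟩, decide ((c : G) = l (cφ φ g c)))
    have hf : Function.Injective f := by
      intro c d e
      simp only [f, Prod.mk.injEq] at e
      obtain ⟨e1', e2⟩ := e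
      have e1 : cφ φ g (c : G) = cφ φ g (d : G) := congrArg Subtype.val e1'
      apply Subtype.ext
      rw [e1] at e2
      rcases eq_of_φ h' (hlQ (cφ φ g d)) (mem_pB.mp c.2.1).1 (by rw [hl]; exact e1.symm) with e3 | e3
      · rw [e3] at e2
        simp only [decide_true] at e2
        rw [e3]
        exact (of_decide_eq_true e2.symm).symm
      · rcases eq_of_φ h' (hlQ (cφ φ g d)) (mem_pB.mp d.2.1).1 (by rw [hl]) with e4 | e4
        · rw [decide_eq_true e4] at e2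
          exact (of_decide_eq_true e2).trans e4.symm
        · exact e3.trans e4.symm
    have := Nat.card_le_card_of_injective f hf
    rw [Nat.card_prod, Nat.card_eq_fintype_card (α := S), Nat.card_eq_fintype_card (α := Bool), Fintype.card_bool] at this
    omega
  have h4 := card_X_le h hc sp em
  have : 64 ≤ 4 * 8 := hB.trans (hBC.trans (Nat.mul_le_mul h4 hC))
  omega

end

/-! ### Assembly -/

theorem dead_dt (em : EqOfMem G) (ns : Dead G sig) (hst : Dead G pSTau) (hsd : Dead G pSDt)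
    (hsp : Dead G pSTrp) : Dead G pDt := by
  intro z Q π φ h g hc hp
  have hne : π (g * z * g⁻¹) ≠ 1 := by rw [hp]; decide +kernel
  obtain ⟨q, hq, e⟩ := exists_rep _ (cπz_sq h hc) (cπz_ne h hc hne)
  obtain ⟨g', hg', he'⟩ := normalize_z h g hc hq
  have hc' : z * (g' * z * g'⁻¹) = g' * z * g'⁻¹ * z := by rw [hg']; exact hc
  have hp' : π (g' * z * g'⁻¹) = pDt := by rw [hg']; exact hp
  rcases e with e | e | e | e | e | e | e
  · exact ns.swap h hc hq e
  · exact dead_gamma_dt h hc' (Or.inl hp') em (he'.trans e)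
  · refine dead_gamma_dt (h.conj g') (g := g'⁻¹) (by rw [swap_eq]; exact hc'.symm)
      (Or.inr (by rw [swap_eq]; exact he'.trans e)) em ?_
    rw [swap_cπ]; exact hp'
  · exact dead_gamma_tau h hc' (Or.inl hp') em (he'.trans e)
  · exact hst.swap h hc hq e
  · exact hsp.swap h hc hq e
  · exact hsd.swap h hc hq e

theorem dead_tau (hdt : Dead G pDt) : Dead G pTau := by
  intro z Q π φ h g hc hp
  obtain ⟨q, hq, e⟩ := tau_swap h hc hp
  exact hdt.swap h hc hq e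

theorem dead_trp (em : EqOfMem G) (ns : Dead G sig) (hst : Dead G pSTau) (hsd : Dead G pSDt)
    (hsp : Dead G pSTrp) (hdt : Dead G pDt) (htau : Dead G pTau) : Dead G pTrp := by
  intro z Q π φ h g₁ hc₁ hp₁
  have classify : ∀ (z : G) (Q : Subgroup G) (π : G → P36) (φ : G → V8), Tensor z Q π φ →
      ∀ g : G, z * (g * z * g⁻¹) = g * z * g⁻¹ * z → π (g * z * g⁻¹) ≠ 1 →
        ∃ q : P36, Ev q ∧ q * π (g * z * g⁻¹) * q⁻¹ = pTrp := by
    intro z Q π φ h g hc hne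
    obtain ⟨q, hq, e⟩ := exists_rep _ (πt_sq h hc) hne
    rcases e with e | e | e | e | e | e | e
    · exact (ns.conj h hc hq e).elim
    · exact (hdt.conj h hc hq e).elim
    · exact ⟨q, hq, e⟩
    · exact (htau.conj h hc hq e).elim
    · exact (hst.conj h hc hq e).elim
    · exact (hsp.conj h hc hq e).elim
    · exact (hsd.conj h hc hq e).elim
  have hne₁ : π (g₁ * z * g₁⁻¹) ≠ 1 := by rw [hp₁]; decide +kernel
  obtain ⟨q, hq, e⟩ := classify _ _ _ _ (h.conj g₁) g₁⁻¹ (by rw [swap_eq]; exact hc₁.symm)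
    (by rw [swap_eq]; exact cπz_ne h hc₁ hne₁)
  rw [swap_eq] at e
  obtain ⟨g, hg, he⟩ := normalize_z h g₁ hc₁ hq
  have hzb : cπ π g z = pTrp := he.trans e
  have hc : z * (g * z * g⁻¹) = g * z * g⁻¹ * z := by rw [hg]; exact hc₁
  have hp : π (g * z * g⁻¹) = pTrp := by rw [hg]; exact hp₁
  have sp : Sing16 (π (g * z * g⁻¹)) := hp ▸ sing16_trp
  have h' := (h.conj g).toBase
  set K := (fA h (g := g)).range with hK
  have hK8 : 8 ≤ Nat.card K := by
    have := card_A32 h hc sp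
    rw [card_A_eq h hc] at this
    have h4 := card_X_le h hc sp em
    nlinarith
  have hzK : pTrp ∈ K := ⟨⟨z, mem_pA.mpr ⟨h.sing.mem, hc⟩⟩, hzb⟩
  have hKsq : ∀ k ∈ K, k * k = 1 := by
    rintro _ ⟨a, rfl⟩
    rw [← map_mul, show a * a = 1 from Subtype.ext (A_sq h hc sp a.2), map_one]
  have hKc : ∀ k ∈ K, ∀ l ∈ K, k * l = l * k := fun k hk l hl => by
    have := inv_eq_of_mul_eq_one_right (hKsq _ (K.mul_mem hk hl))
    rw [mul_inv_rev, inv_eq_of_mul_eq_one_right (hKsq k hk), inv_eq_of_mul_eq_one_right (hKsq l hl)] at this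
    exact this.symm
  have trp_class : ∀ k : P36, (∃ q : P36, Ev q ∧ q * k * q⁻¹ = pTrp) →
      k.1 = 1 ∧ k.2.cycleType = trp6.cycleType := by
    rintro k ⟨q, -, e⟩
    refine ⟨conj_eq_one_iff.mp (congrArg Prod.fst e), ?_⟩
    have e2 : q.2 * k.2 * q.2⁻¹ = trp6 := congrArg Prod.snd e
    rw [← e2, Equiv.Perm.cycleType_conj]
  have good : ∀ k ∈ K, k ≠ 1 → k ≠ pTrp →
      (k.1 = 1 ∧ k.2.cycleType = trp6.cycleType) ∨
        ((k * pTrp).1 = 1 ∧ (k * pTrp).2.cycleType = trp6.cycleType) := by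
    rintro _ ⟨⟨a, ha⟩, rfl⟩ hk1 hk2
    obtain ⟨v, hv⟩ := sp.img _ (φ_A h hc ha)
    obtain ⟨y, hy, rfl⟩ := h.φ_surj v
    obtain ⟨haQ, hat⟩ := mem_pA.mp ha
    have cls : ∀ x, x = tcom (g * z * g⁻¹) y → x ∈ pA z Q g → cπ π g x ≠ 1 →
        (cπ π g x).1 = 1 ∧ (cπ π g x).2.cycleType = trp6.cycleType := by
      intro x hx hxA hx1
      subst hx
      have hxt := (mem_pA.mp hxA).2
      have e1 : cπ π g (y * (g * z * g⁻¹) * y⁻¹) = cπ π g (tcom (g * z * g⁻¹) y) := by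
        rw [← t_tcom h, h'.π_mul _ _ rfl hxt, cπ_t h, one_mul]
      rw [← e1] at hx1 ⊢
      exact trp_class _ (classify _ _ _ _ (h.conj g) y (by rw [← t_tcom h]; exact (comm_mul' rfl hxt).symm) hx1)
    rcases eq_tcom_or h hc haQ hy hv.symm with e | e
    · exact Or.inl (cls a e ha hk1)
    · right
      have e' : a * z = tcom (g * z * g⁻¹) y := by rw [e, mul_assoc, h.sing.xx, mul_one]
      have ek : cπ π g (a * z) = cπ π g a * pTrp := by rw [h'.π_mul _ _ hat hc, hzb]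
      show (cπ π g a * pTrp).1 = 1 ∧ (cπ π g a * pTrp).2.cycleType = trp6.cycleType
      rw [← ek]
      refine cls _ e' ((pA z Q g).mul_mem ha (mem_pA.mpr ⟨h.sing.mem, hc⟩)) ?_
      rw [ek]
      intro e3
      exact hk2 (mul_right_cancel (e3.trans (hKsq _ hzK).symm))
  have pick : ∀ s : Finset P36, s.card < 8 → ∃ k ∈ K, k ∉ s := by
    intro s hs
    by_contra hh
    push Not at hh
    have := Nat.card_le_card_of_injective (fun k : K => (⟨k.1, hh k.1 k.2⟩ : s))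
      fun a b e => Subtype.ext (congrArg (fun x : s => x.1) e)
    rw [Nat.card_eq_finsetCard] at this
    omega
  have get : ∀ k ∈ K, k ≠ 1 → k ≠ pTrp → ∃ a ∈ K, (a = k ∨ a = k * pTrp) ∧
      a.1 = 1 ∧ a.2.cycleType = trp6.cycleType := fun k hk h1 h2 => by
    rcases good k hk h1 h2 with h3 | h3
    · exact ⟨k, hk, Or.inl rfl, h3⟩
    · exact ⟨_, K.mul_mem hk hzK, Or.inr rfl, h3⟩
  obtain ⟨k, hk, hks⟩ := pick {1, pTrp} ((Finset.card_insert_le _ _).trans_lt (by simp))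
  simp only [Finset.mem_insert, Finset.mem_singleton, not_or] at hks
  obtain ⟨a, haK, hak, ha1, ha2⟩ := get k hk hks.1 hks.2
  obtain ⟨l, hl, hls⟩ := pick {1, pTrp, a, a * pTrp}
    ((Finset.card_le_four).trans_lt (by norm_num))
  simp only [Finset.mem_insert, Finset.mem_singleton, not_or] at hls
  obtain ⟨b, hbK, hbl, hb1, hb2⟩ := get l hl hls.1 hls.2.1
  have hzz : pTrp * pTrp = 1 := hKsq _ hzK
  have hat : a ≠ pTrp := by
    rintro rfl
    rcases hak with e | e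
    · exact hks.2 e.symm
    · exact hks.1 (right_eq_mul.mp e)
  have hbt : b ≠ pTrp := by
    rintro rfl
    rcases hbl with e | e
    · exact hls.2.1 e.symm
    · exact hls.1 (right_eq_mul.mp e)
  have hab : a ≠ b := by
    rintro rfl
    rcases hbl with e | e
    · exact hls.2.2.1 e.symm
    · exact hls.2.2.2 (by rw [e, mul_assoc, hzz, mul_one])
  have habt : a * b * pTrp ≠ 1 := by
    intro e
    have e' : b = a * pTrp := by
      calc b = (a * a) * b * (pTrp * pTrp) := by rw [hKsq a haK, hzz, one_mul, mul_one]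
        _ = a * (a * b * pTrp) * pTrp := by group
        _ = a * pTrp := by rw [e, mul_one]
    rcases hbl with e2 | e2
    · exact hls.2.2.2 (e2.symm.trans e')
    · exact hls.2.2.1 (mul_right_cancel (e2.symm.trans e'))
  have hab1 : (a * b).1 = 1 := by rw [Prod.fst_mul, ha1, hb1, one_mul]
  have hp1 : pTrp.1 = 1 := rfl
  refine fpf_cosets a.2 ha2 (congrArg Prod.snd (hKc a haK _ hzK)) b.2 hb2
    (congrArg Prod.snd (hKc a haK b hbK)) (congrArg Prod.snd (hKc b hbK _ hzK))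
    (fun e => hat (Prod.ext (ha1.trans hp1.symm) e))
    (fun e => hbt (Prod.ext (hb1.trans hp1.symm) e))
    (fun e => hab (Prod.ext (ha1.trans hb1.symm) e))
    (fun e => habt (Prod.ext (by rw [Prod.fst_mul, hab1, hp1, one_mul]; rfl) e)) ?_
  have hm1 : a * b ≠ 1 := fun e => hab (mul_right_cancel (e.trans (hKsq b hbK).symm)).symm.symm
  have hm2 : a * b ≠ pTrp := fun e => habt (by rw [e, hzz])
  rcases good _ (K.mul_mem haK hbK) hm1 hm2 with h3 | h3
  · exact Or.inl h3.2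
  · exact Or.inr h3.2

end Out

variable {G : Type*} [Group G] [Finite G] {z : G} {Q : Subgroup G} {π : G → P36} {φ : G → V8}

/-- In the tensor case the point `z` is isolated, given `EqOfMem` and the dead class `sig`. -/
theorem Tensor.isolated_aux (em : Out.EqOfMem G) (ns : Out.Dead G sig) (h : Tensor z Q π φ) (g : G)
    (hc : z * (g * z * g⁻¹) = g * z * g⁻¹ * z) : g * z * g⁻¹ = z := by
  open Out in
  have hst : Dead G pSTau := dead_nonsingular em ns stau_image stau_q stau_card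
  have hsd : Dead G Out.pSDt := Out.dead_nonsingular em ns Out.sdt_image Out.sdt_q Out.sdt_card
  have hsp : Out.Dead G Out.pSTrp := Out.dead_strp em
  have hdt := Out.dead_dt em ns hst hsd hsp
  have htau := Out.dead_tau hdt
  have htrp := Out.dead_trp em ns hst hsd hsp hdt htau
  by_cases hne : π (g * z * g⁻¹) = 1
  · exact em z Q π φ h g ((h.π_ker _ hc.symm).mp hne)
  obtain ⟨q, hq, e⟩ := Out.exists_rep _ (Out.πt_sq h hc) hne
  rcases e with e | e | e | e | e | e | e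
  · exact (ns.conj h hc hq e).elim
  · exact (hdt.conj h hc hq e).elim
  · exact (htrp.conj h hc hq e).elim
  · exact (htau.conj h hc hq e).elim
  · exact (hst.conj h hc hq e).elim
  · exact (hsp.conj h hc hq e).elim
  · exact (hsd.conj h hc hq e).elim

/-- In the tensor case no other conjugate of `z` commutes with `z`. -/
theorem Tensor.isolated (h : Tensor z Q π φ) (g : G)
    (hc : z * (g * z * g⁻¹) = g * z * g⁻¹ * z) : g * z * g⁻¹ = z :=
  Tensor.isolated_aux (fun _ _ _ _ h _ ht => h.eq_of_mem ht)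
    (fun _ _ _ _ h _ hc hp => h.no_sig hc hp) h g hc

end Cfsg.Agent.H70.CHZ
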