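import Cfsg.Agent.H70.CHZ.WCFacts

/-! The finite core of weak closure in the tensor case. -/

set_option autoImplicit false

namespace Cfsg.Agent.H70.CHZ

/-- What `R = π(C_{Q_t}(z))` and the image `L` of `Q ∩ Q_t` satisfy for `t ∈ Q` with coordinates `τ`. -/
structure WCHyp (τ : V8) (R : Subgroup P36) (L : AddSubgroup V8) : Prop where
  sq : ∀ r ∈ R, r * r = 1
  fix : ∀ r ∈ R, vAct r τ = τ
  norm : ∀ p : P36, Equiv.Perm.sign p.1 = 1 → Equiv.Perm.sign p.2 = 1 → vAct p τ = τ → ∀ r ∈ R, p * r * p⁻¹ ∈ R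
  chain : ∀ r ∈ R, ∀ y : V8, vB y τ = 0 → vAct r y + y ∈ L
  le : Nat.card L ≤ 16
  card : Nat.card R * Nat.card L = 128
  move : Nat.card L = 16 → ∀ r ∈ R, r ≠ 1 → ∃ l ∈ L, vAct r l ≠ l

theorem wAct_zero_right (g : Equiv.Perm (Fin 6)) : wAct g (0 : W4) = 0 := by
  have h : ∀ i : Fin 6, wLift (0 : W4) i = 0 := by decide
  simp [wAct, wRed, h]

theorem vAct_pure (p : P36) (u : W4) :
    vAct p ((u, 0) : V8) = ((ptVec (p.1 0)).1 • wAct p.2 u, (ptVec (p.1 0)).2 • wAct p.2 u) := by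
  simp only [vAct, wAct_zero_right, smul_zero, add_zero]

theorem vAct_pure_second (g : Equiv.Perm (Fin 6)) (u v : W4) :
    vAct (1, g) ((u, v) : V8) = (wAct g u, wAct g v) := by
  simp [vAct, ptVec]

theorem fix_tau1 {p : P36} (h : vAct p tau1 = tau1) : p.1 0 = 0 ∧ wAct p.2 w0 = w0 := by
  rw [tau1, vAct_pure] at h
  obtain ⟨h1, h2⟩ := Prod.ext_iff.mp h
  have hw : (w0 : W4) ≠ 0 := by decide
  generalize p.1 0 = i at h1 h2 ⊢
  fin_cases i
  · exact ⟨rfl, by simpa [ptVec] using h1⟩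
  · simp [ptVec] at h1
    exact absurd h1.symm hw
  · simp [ptVec] at h1 h2
    exact absurd (h1.symm.trans h2) hw

theorem zmod_smul_mem (L : AddSubgroup V8) {v : V8} (hv : v ∈ L) (a : ZMod 2) : a • v ∈ L := by
  rcases (show ∀ a : ZMod 2, a = 0 ∨ a = 1 by decide) a with rfl | rfl
  · rw [zero_smul]; exact L.zero_mem
  · rw [one_smul]; exact hv

theorem eq_of_card {P : V8 → Prop} [DecidablePred P] (L : AddSubgroup V8) (hP : Fintype.card {v // P v} = 16)
    (hsub : ∀ v, P v → v ∈ L) (hle : Nat.card L ≤ 16) : (∀ v, v ∈ L ↔ P v) ∧ Nat.card L = 16 := by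
  classical
  have hinj : Function.Injective (fun v : {v // P v} => (⟨v.1, hsub v.1 v.2⟩ : L)) := fun a b e =>
    Subtype.ext (congrArg (fun x : L => (x : V8)) e)
  have hge := Nat.card_le_card_of_injective _ hinj
  rw [Nat.card_eq_fintype_card, hP] at hge
  have hbij := hinj.bijective_of_nat_card_le (by rw [Nat.card_eq_fintype_card (α := {v // P v}), hP]; exact hle)
  refine ⟨fun v => ⟨fun hv => ?_, hsub v⟩, le_antisymm hle hge⟩
  obtain ⟨w, hw⟩ := hbij.2 ⟨v, hv⟩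
  have : w.1 = v := congrArg (fun x : L => (x : V8)) hw
  exact this ▸ w.2

variable {R : Subgroup P36} {L : AddSubgroup V8}

theorem WCHyp.eight_le {τ : V8} (h : WCHyp τ R L) : 8 ≤ Nat.card R := by
  have h1 := h.card
  have h2 := h.le
  by_contra hlt
  have : Nat.card R * Nat.card L ≤ 7 * 16 := Nat.mul_le_mul (by omega) h2
  omega

theorem WCHyp.comm_mem {τ : V8} (h : WCHyp τ R L) {p r : P36} (hp1 : Equiv.Perm.sign p.1 = 1)
    (hp : Equiv.Perm.sign p.2 = 1)
    (hfix : vAct p τ = τ) (hr : r ∈ R) : p * r * p⁻¹ * r⁻¹ ∈ R :=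
  R.mul_mem (h.norm p hp1 hp hfix r hr) (R.inv_mem hr)

theorem not_tau2 (h : WCHyp tau2 R L) : False := by
  classical
  have hfst : ∀ r ∈ R, r.1 = 1 := by
    intro r hr
    by_contra hne
    have hsq : r.1 * r.1 = 1 := congrArg Prod.fst (h.sq r hr)
    have hk := h.sq _ (h.comm_mem (p := (finRotate 3, e2)) (by simp [sign_finRotate]) e2_fix.1 e2_fix.2 hr)
    exact fst_comm r.1 hsq hne (congrArg Prod.fst hk)
  have hK : ∀ r ∈ R, r.2 ∈ K2 := by
    intro r hr
    have hf := h.fix r hr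
    have e : r = (1, r.2) := Prod.ext (hfst r hr) rfl
    rw [e, tau2, vAct_pure_second] at hf
    obtain ⟨h1, h2⟩ := Prod.ext_iff.mp hf
    exact mem_K2 _ (mem_stab0 _ h1) h2
  let f : R → {g // g ∈ K2.toFinset} := fun r => ⟨r.1.2, List.mem_toFinset.mpr (hK r.1 r.2)⟩
  have hf : Function.Injective f := fun a b e => Subtype.ext
    (Prod.ext ((hfst a.1 a.2).trans (hfst b.1 b.2).symm) (congrArg Subtype.val e))
  have h8 : Nat.card {g // g ∈ K2.toFinset} ≤ 8 := by
    rw [Nat.card_eq_fintype_card, Fintype.card_coe]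
    exact le_trans (List.toFinset_card_le _) (by simp [K2])
  have hbij := hf.bijective_of_nat_card_le (le_trans h8 h.eight_le)
  have hall : ∀ g ∈ K2, ((1, g) : P36) ∈ R := by
    intro g hg
    obtain ⟨r, hr⟩ := hbij.2 ⟨g, List.mem_toFinset.mpr hg⟩
    have hv : r.1.2 = g := congrArg Subtype.val hr
    have : r.1 = (1, g) := Prod.ext (hfst r.1 r.2) hv
    exact this ▸ r.2
  obtain ⟨w1', w2', w3', w4', p1, p2, p3⟩ := L2_witness
  have hsub : ∀ v, L2 v → v ∈ L := by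
    intro v hv
    obtain ⟨a, b, c, d, rfl⟩ := L2_gen v hv
    have g1 := h.chain _ (hall (Equiv.swap 4 5) (by simp [K2])) _ p1
    have g2 := h.chain _ (hall (Equiv.swap 4 5) (by simp [K2])) _ p2
    have g3 := h.chain _ (hall (Equiv.swap 2 3) (by simp [K2])) _ p3
    have g4 := h.chain _ (hall (Equiv.swap 2 3) (by simp [K2])) _ p2
    rw [w1'] at g1; rw [w2'] at g2; rw [w3'] at g3; rw [w4'] at g4
    exact L.add_mem (L.add_mem (L.add_mem (zmod_smul_mem L g1 a) (zmod_smul_mem L g2 b))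
      (zmod_smul_mem L g3 c)) (zmod_smul_mem L g4 d)
  obtain ⟨hL, hL16⟩ := eq_of_card L L2_card hsub h.le
  have hk : ((1, Equiv.swap 4 5) : P36) ≠ 1 := fun e =>
    absurd (congrArg Prod.snd e) (by decide)
  obtain ⟨l, hl, hmove⟩ := h.move hL16 _ (hall (Equiv.swap 4 5) (by simp [K2])) hk
  exact hmove (K2_fix _ (by simp [K2]) l ((hL l).mp hl))

theorem tau1_struct (h : WCHyp tau1 R L) :
    (∀ v, v ∈ L ↔ L0 v) ∧ ∀ r ∈ R, r ≠ 1 → (∀ a : W4, a.2.1 = 0 → vAct r ((a, 0) : V8) = (a, 0)) →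
      r = sig ∨ r = sig * (1, tauP) := by
  classical
  have hst : ∀ r ∈ R, (r.1 = 1 ∨ r.1 = Equiv.swap 1 2) ∧ r.2 ∈ stab0 := fun r hr =>
    ⟨fix_zero _ (fix_tau1 (h.fix r hr)).1, mem_stab0 _ (fix_tau1 (h.fix r hr)).2⟩
  have hfixe : ∀ e ∈ [1] ++ evList, Equiv.Perm.sign e = 1 ∧ vAct (1, e) tau1 = tau1 := by
    intro e he
    rw [tau1, vAct_pure_second, wAct_zero_right]
    rcases List.mem_append.mp he with h1 | h1
    · rw [List.mem_singleton] at h1; subst h1
      exact ⟨map_one _, by decide⟩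
    · exact ⟨(evList_even e h1).1, by rw [(evList_even e h1).2]⟩
  obtain ⟨r, hr, hr1, hr2⟩ : ∃ r ∈ R, r.2 ≠ 1 ∧ r.2 ≠ tauP := by
    by_contra! hcon
    let f : R → Fin 2 × Fin 2 := fun r =>
      (if r.1.1 = 1 then 0 else 1, if r.1.2 = 1 then 0 else 1)
    have hf : Function.Injective f := by
      intro a b e
      simp only [f, Prod.mk.injEq] at e
      refine Subtype.ext (Prod.ext ?_ ?_)
      · rcases (hst _ a.2).1 with ha | ha <;> rcases (hst _ b.2).1 with hb | hb <;>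
          simp [ha, hb] at e ⊢
      · by_cases ha : a.1.2 = 1 <;> by_cases hb : b.1.2 = 1 <;> simp [ha, hb] at e ⊢
        exact (hcon _ a.2 ha).trans (hcon _ b.2 hb).symm
    have := Nat.card_le_card_of_injective f hf
    have := h.eight_le
    simp only [Nat.card_eq_fintype_card, Fintype.card_prod, Fintype.card_fin] at *
    omega
  have hrsq : r.2 * r.2 = 1 := congrArg Prod.snd (h.sq r hr)
  obtain ⟨e, he, hek⟩ := comm_hits r.2 (hst r hr).2 hrsq hr1 hr2
  have hem : e ∈ [1] ++ evList := List.mem_append.mpr (Or.inr he)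
  have hcomm := h.comm_mem (p := (1, e)) (map_one _) (hfixe e hem).1 (hfixe e hem).2 hr
  obtain ⟨k, hk, hkR⟩ : ∃ k ∈ [k1, k2, k3], ((1, k) : P36) ∈ R := by
    refine ⟨e * r.2 * e⁻¹ * r.2⁻¹, by simpa using hek, ?_⟩
    convert hcomm using 1
    exact Prod.ext (by simp) rfl
  have hks : ∀ k' ∈ [k1, k2], ((1, k') : P36) ∈ R := by
    intro k' hk'
    obtain ⟨e', he', rfl⟩ := k_rot k hk k' hk'
    convert h.norm (1, e') (map_one _) (hfixe e' he').1 (hfixe e' he').2 _ hkR using 1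
    exact Prod.ext (by simp) rfl
  obtain ⟨w1', w2', w3', p1, p2⟩ := L0_witness
  have htau : tau1 ∈ L := by
    have g := h.chain _ (hks k1 (by simp)) ((((0, 0, 0, 1) : W4), 0) : V8) (by decide)
    have e1 : vAct (1, k1) ((((0, 0, 0, 1) : W4), 0) : V8) + ((((0, 0, 0, 1) : W4), 0) : V8) = tau1 := by
      decide +kernel
    rwa [e1] at g
  have hsub : ∀ v, L0 v → v ∈ L := by
    intro v hv
    obtain ⟨a, b, c, d, rfl⟩ := L0_gen v hv
    have g1 := h.chain _ (hks k1 (by simp)) _ p1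
    have g2 := h.chain _ (hks k1 (by simp)) _ p2
    have g3 := h.chain _ (hks k2 (by simp)) _ p2
    rw [w1'] at g1; rw [w2'] at g2; rw [w3'] at g3
    exact L.add_mem (L.add_mem (L.add_mem (zmod_smul_mem L htau a) (zmod_smul_mem L g1 b))
      (zmod_smul_mem L g2 c)) (zmod_smul_mem L g3 d)
  obtain ⟨hL, hL16⟩ := eq_of_card L L0_card hsub h.le
  refine ⟨hL, fun r hr hne hF => ?_⟩
  obtain ⟨ha, hg⟩ := hst r hr
  have hgfix : ∀ a : W4, a.2.1 = 0 → wAct r.2 a = a := by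
    intro a h0
    have := congrArg Prod.fst (hF a h0)
    rw [vAct_pure, (fix_tau1 (h.fix r hr)).1] at this
    simpa [ptVec] using this
  rcases ha with ha | ha <;> rcases fixF _ hg hgfix with hb | hb
  · exact absurd (Prod.ext ha hb : r = 1) hne
  · obtain ⟨l, hl, hm⟩ := h.move hL16 r hr hne
    rw [show r = (1, tauP) from Prod.ext ha hb] at hm
    exact absurd (tauP_fix l ((hL l).mp hl)) hm
  · exact Or.inl (Prod.ext ha hb)
  · refine Or.inr (Prod.ext ?_ ?_)
    · simp [sig, ha]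
    · simp [sig, hb]

end Cfsg.Agent.H70.CHZ
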