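import Cfsg.Agent.H70.CHZ.Pair
import Cfsg.Agent.H70.CHZ.WCFinite

/-! The data of a conjugate `t ∈ Q` in the tensor case. -/

set_option autoImplicit false

namespace Cfsg.Agent.H70.CHZ

variable {G : Type*} [Group G] {z : G} {Q : Subgroup G} {π : G → P36} {φ : G → V8}

theorem zb_eq_one_iff {z : G} (hz : z ≠ 1) (e : ZMod 2) : zb z e = 1 ↔ e = 0 := by
  unfold zb
  split_ifs with h
  · simp [h]
  · simp [hz, h]

theorem Tensor.φ_one (h : Tensor z Q π φ) : φ 1 = 0 :=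
  (h.φ_ker 1 Q.one_mem).mpr (Or.inl rfl)

theorem Tensor.φ_z (h : Tensor z Q π φ) : φ z = 0 :=
  (h.φ_ker z h.sing.mem).mpr (Or.inr rfl)

theorem add_self_V8 : ∀ v : V8, v + v = 0 := by decide +kernel

theorem Tensor.φ_inv (h : Tensor z Q π φ) {a : G} (ha : a ∈ Q) : φ a⁻¹ = φ a := by
  have e := h.φ_mul _ (Q.inv_mem ha) _ ha
  rw [inv_mul_cancel, h.φ_one] at e
  calc φ a⁻¹ = φ a⁻¹ + (φ a + φ a) := by rw [add_self_V8, add_zero]
    _ = (φ a⁻¹ + φ a) + φ a := (add_assoc _ _ _).symm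
    _ = φ a := by rw [← e, zero_add]

/-- Equal coordinates mean equal up to `z`. -/
theorem Tensor.φ_eq_iff (h : Tensor z Q π φ) {a b : G} (ha : a ∈ Q) (hb : b ∈ Q) :
    φ a = φ b ↔ a = b ∨ a = z * b := by
  constructor
  · intro e
    have h0 : φ (a * b⁻¹) = 0 := by rw [h.φ_mul _ ha _ (Q.inv_mem hb), h.φ_inv hb, e, add_self_V8]
    rcases (h.φ_ker _ (Q.mul_mem ha (Q.inv_mem hb))).mp h0 with e' | e'
    · exact Or.inl (mul_inv_eq_one.mp e')
    · exact Or.inr (mul_inv_eq_iff_eq_mul.mp e')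
  · rintro (rfl | rfl)
    · rfl
    · rw [h.φ_mul _ h.sing.mem _ hb, h.φ_z, zero_add]

theorem Tensor.vq_eq_zero (h : Tensor z Q π φ) {a : G} (ha : a ∈ Q) (he : a * a = 1) : vq (φ a) = 0 :=
  (zb_eq_one_iff h.sing.xne _).mp ((h.φ_sq a ha).symm.trans he)

theorem Tensor.comm_iff (h : Tensor z Q π φ) {a b : G} (ha : a ∈ Q) (hb : b ∈ Q) :
    a * b = b * a ↔ vB (φ a) (φ b) = 0 := by
  rw [← zb_eq_one_iff h.sing.xne, ← h.φ_comm a ha b hb]
  constructor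
  · intro e; rw [e]; group
  · intro e; rw [mul_inv_eq_one, mul_inv_eq_iff_eq_mul] at e; exact e

/-- The image of `C_{Q_t}(z)` in `C(z)/Q`. -/
def pR (h : Base z Q π) (g : G) : Subgroup P36 where
  carrier := π '' (pB z Q g : Set G)
  one_mem' := ⟨1, (pB z Q g).one_mem, h.π_one⟩
  mul_mem' := by
    rintro _ _ ⟨a, ha, rfl⟩ ⟨b, hb, rfl⟩
    exact ⟨a * b, (pB z Q g).mul_mem ha hb, h.π_mul _ _ (mem_pB.mp ha).2 (mem_pB.mp hb).2⟩
  inv_mem' := by
    rintro _ ⟨a, ha, rfl⟩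
    exact ⟨a⁻¹, (pB z Q g).inv_mem ha, h.π_inv (mem_pB.mp ha).2⟩

/-- The coordinates of `Q ∩ Q_t`. -/
def pL (h : Tensor z Q π φ) (g : G) : AddSubgroup V8 where
  carrier := φ '' (pX Q g : Set G)
  zero_mem' := ⟨1, (pX Q g).one_mem, h.φ_one⟩
  add_mem' := by
    rintro _ _ ⟨a, ha, rfl⟩ ⟨b, hb, rfl⟩
    exact ⟨a * b, (pX Q g).mul_mem ha hb, h.φ_mul _ ha.1 _ hb.1⟩
  neg_mem' := by
    rintro _ ⟨a, ha, rfl⟩
    refine ⟨a⁻¹, (pX Q g).inv_mem ha, ?_⟩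
    rw [h.φ_inv ha.1]
    exact (neg_eq_of_add_eq_zero_left (add_self_V8 _)).symm

variable [Finite G]

theorem Tensor.card_X (h : Tensor z Q π φ) {g : G} (ht : g * z * g⁻¹ ∈ Q) :
    Nat.card (pX Q g) = 2 * Nat.card (pL h g) := by
  let f : ↥(pX Q g) →* Multiplicative V8 :=
    { toFun := fun a => Multiplicative.ofAdd (φ a)
      map_one' := by simp [h.φ_one]
      map_mul' := fun a b => by
        show Multiplicative.ofAdd (φ (a * b : G)) = _
        rw [h.φ_mul _ a.2.1 _ b.2.1]; rfl }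
  have hk : f.ker = (Subgroup.zpowers z).subgroupOf (pX Q g) := by
    ext a
    rw [MonoidHom.mem_ker, Subgroup.mem_subgroupOf, H18.mem_zpowers_iff_pair h.sing.xx, ← h.φ_ker _ a.2.1]
    exact ofAdd_eq_one
  have hr : Nat.card ↥f.range = Nat.card (pL h g) := by
    refine Nat.card_congr
      { toFun := fun v => ⟨Multiplicative.toAdd v.1, by
          obtain ⟨a, ha⟩ := v.2; rw [← ha]; exact ⟨a.1, a.2, rfl⟩⟩
        invFun := fun v => ⟨Multiplicative.ofAdd v.1, by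
          obtain ⟨a, ha, e⟩ := v.2; exact ⟨⟨a, ha⟩, congrArg Multiplicative.ofAdd e⟩⟩
        left_inv := fun v => rfl
        right_inv := fun v => rfl }
  have hzX : Subgroup.zpowers z ≤ pX Q g :=
    Subgroup.zpowers_le.mpr ⟨h.sing.mem, (h.mem_iff g).mp ht⟩
  rw [← f.ker.card_mul_index, Subgroup.index_ker, hr, hk,
    Nat.card_congr (Subgroup.subgroupOfEquivOfLe hzX).toEquiv, Nat.card_zpowers,
    orderOf_eq_prime (p := 2) (by rw [pow_two]; exact h.sing.xx) h.sing.xne]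

section
variable (h : Tensor z Q π φ) {g : G} (ht : g * z * g⁻¹ ∈ Q) (hne : g * z * g⁻¹ ≠ z)
include h ht hne

/-- Elements of `C(z)` fixing the coordinates of `t` can be corrected by `Q` to centralize `t`. -/
theorem Tensor.lift_fix {a : G} (ha : a * z = z * a) (hfix : vAct (π a) (φ (g * z * g⁻¹)) = φ (g * z * g⁻¹)) :
    ∃ b : G, b * z = z * b ∧ b * (g * z * g⁻¹) = g * z * g⁻¹ * b ∧ π b = π a := by
  set t := g * z * g⁻¹ with htdef
  have e := h.φ_act a ha t ht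
  rw [hfix] at e
  rcases (h.φ_eq_iff (h.sing.norm a ha t ht) ht).mp e with e' | e'
  · exact ⟨a, ha, mul_inv_eq_iff_eq_mul.mp e', rfl⟩
  · obtain ⟨x, hx, hxt⟩ := h.exists_translate ht hne
    rw [← htdef] at hxt
    have hxz := h.sing.comm_x x hx
    refine ⟨x * a, by rw [mul_assoc, ha, ← mul_assoc, hxz, mul_assoc], ?_, ?_⟩
    · refine mul_inv_eq_iff_eq_mul.mp ?_
      calc x * a * t * (x * a)⁻¹ = x * (a * t * a⁻¹) * x⁻¹ := by group
        _ = x * (z * t) * x⁻¹ := by rw [e']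
        _ = (x * z) * t * x⁻¹ := by group
        _ = z * (x * t * x⁻¹) := by rw [hxz]; group
        _ = t := by rw [hxt, ← mul_assoc, h.sing.xx, one_mul]
    · rw [h.π_mul _ _ hxz ha, h.π_Q hx, one_mul]

/-- The data of a conjugate in `Q`. -/
theorem Tensor.wcHyp : WCHyp (φ (g * z * g⁻¹)) (pR h.toBase g) (pL h g) := by
  set t := g * z * g⁻¹ with htdef
  have hX := h.card_X ht
  have hB : Nat.card (pB z Q g) = Nat.card (pX Q g) * Nat.card (pR h.toBase g) := by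
    rw [h.card_B g]
    congr 1
  rw [h.card_pB ht hne] at hB
  refine ⟨?_, ?_, ?_, ?_, ?_, ?_, ?_⟩
  · rintro _ ⟨b, hb, rfl⟩
    obtain ⟨hbQ, hbz⟩ := mem_pB.mp hb
    rw [← h.π_mul _ _ hbz hbz]
    rcases (h.conj g).sing.pair ((h.conj g).sing.sq hbQ) with e | e <;> rw [e]
    · exact h.π_one
    · exact h.π_Q ht
  · rintro _ ⟨b, hb, rfl⟩
    obtain ⟨hbQ, hbz⟩ := mem_pB.mp hb
    rw [← h.φ_act b hbz t ht]
    congr 1
    exact mul_inv_eq_iff_eq_mul.mpr ((h.conj g).sing.comm_x b hbQ)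
  · rintro p hp1 hp hfix _ ⟨b, hb, rfl⟩
    obtain ⟨a, ha, rfl⟩ := h.π_range p hp1 hp
    obtain ⟨a', ha', hat', hpa⟩ := h.lift_fix ht hne ha hfix
    obtain ⟨hbQ, hbz⟩ := mem_pB.mp hb
    refine ⟨a' * b * a'⁻¹, mem_pB.mpr ⟨(h.conj g).sing.norm a' hat' b hbQ, ?_⟩, ?_⟩
    · calc a' * b * a'⁻¹ * z = a' * b * (a'⁻¹ * z * a') * a'⁻¹ := by group
        _ = a' * b * z * a'⁻¹ := by rw [mul_assoc a'⁻¹ z a', ← ha', inv_mul_cancel_left]
        _ = a' * (z * b) * a'⁻¹ := by rw [mul_assoc a' b z, hbz]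
        _ = (a' * z) * b * a'⁻¹ := by group
        _ = z * (a' * b * a'⁻¹) := by rw [ha']; group
    · rw [h.π_conj ha' hbz, hpa]
  · rintro _ ⟨b, hb, rfl⟩ y hy
    obtain ⟨hbQ, hbz⟩ := mem_pB.mp hb
    obtain ⟨a, ha, rfl⟩ := h.φ_surj y
    have haA : a ∈ pA z Q g := mem_pA.mpr ⟨ha, (h.comm_iff ha ht).mpr hy⟩
    have hx := h.comm_A_B haA hb
    refine ⟨a * b * a⁻¹ * b⁻¹, hx, ?_⟩
    rw [show a * b * a⁻¹ * b⁻¹ = a * (b * a⁻¹ * b⁻¹) by group,
      h.φ_mul _ ha _ (h.sing.norm b hbz a⁻¹ (Q.inv_mem ha)), h.φ_act b hbz _ (Q.inv_mem ha), h.φ_inv ha, add_comm]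
  · have hsub : pX Q g ≤ Q ⊓ Subgroup.centralizer (pX Q g : Set G) := fun x hx =>
      ⟨hx.1, Subgroup.mem_centralizer_iff.mpr fun y hy => h.X_comm hne hy hx⟩
    have h1 := Subgroup.card_le_of_le hsub
    have h2 := h.sing.card_mul (pX Q g) inf_le_left ⟨h.sing.mem, (h.mem_iff g).mp ht⟩
    rw [h.card] at h2
    by_contra hlt
    have : 34 * 34 ≤ Nat.card (pX Q g) * Nat.card (pX Q g) := Nat.mul_le_mul (by omega) (by omega)
    have := Nat.mul_le_mul_left (Nat.card (pX Q g)) h1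
    omega
  · rw [hX] at hB
    have e : 2 * Nat.card (pL h g) * Nat.card (pR h.toBase g) =
        2 * (Nat.card (pR h.toBase g) * Nat.card (pL h g)) := by ring
    omega
  · intro hL r hr hr1
    obtain ⟨b, hb, rfl⟩ := hr
    obtain ⟨hbQ, hbz⟩ := mem_pB.mp hb
    by_contra! hcon
    refine hr1 ((h.B_inf_Q hb).mpr (h.mem_X_of_centralizes ht hne (by rw [hX, hL]) hb fun x hx => ?_))
    refine (h.comm_X_B hne hx hb ?_).symm
    rw [H18.mem_zpowers_iff_pair h.sing.xx, ← h.φ_ker _ (Q.mul_mem (Q.inv_mem hx.1) (h.sing.norm b hbz x hx.1)),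
      h.φ_mul _ (Q.inv_mem hx.1) _ (h.sing.norm b hbz x hx.1), h.φ_act b hbz _ hx.1, hcon _ ⟨x, hx, rfl⟩,
      h.φ_inv hx.1, add_self_V8]

end

end Cfsg.Agent.H70.CHZ
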