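import Mathlib
import Cfsg.Agent.H70.CHZ.Model

/-! Coordinates on an 8-dimensional orthogonal space over the field with two elements with a fixed-point-free
element of order three inverted by an involution. -/

set_option autoImplicit false

namespace Cfsg.Agent.H70.CHZ.ToTensor

theorem zmod2_cases (e : ZMod 2) : e = 0 ∨ e = 1 := by revert e; decide

theorem zmod2_add_self (e : ZMod 2) : e + e = 0 := by revert e; decide

theorem wB_nondeg : ∀ a : W4, (∀ b, wB a b = 0) → a = 0 := by decide

/-- An element of order dividing five of the symmetries of a set moves the points outside its fixed set in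
orbits of five. -/
theorem card_modEq_fixed {α : Type*} [Finite α] (f : α → α) (h5 : ∀ x, f (f (f (f (f x)))) = x) :
    Nat.card α ≡ Nat.card {x : α // f x = x} [MOD 5] := by
  classical
  haveI : Fintype α := Fintype.ofFinite α
  haveI : Fact (Nat.Prime 5) := ⟨by norm_num⟩
  let F : Function.End α := f
  have hf : F ^ 5 ^ 1 = 1 := by
    funext x
    exact h5 x
  have := Equiv.Perm.card_fixedPoints_modEq (f := F) (p := 5) (n := 1) hf
  rw [← Nat.card_eq_fintype_card, ← Nat.card_eq_fintype_card] at this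
  exact this

/-- The linear data attached to the quotient of the extraspecial group. -/
structure Space {V : Type*} [AddCommGroup V] (q : V → ZMod 2) (B : V → V → ZMod 2) (c σ : V →+ V) : Prop where
  two : ∀ x : V, x + x = 0
  card : Nat.card V = 256
  q_add : ∀ x y, q (x + y) = q x + q y + B x y
  B_add : ∀ x y w, B (x + y) w = B x w + B y w
  nondeg : ∀ x, (∀ y, B x y = 0) → x = 0
  c_two : ∀ x, c (c x) = x + c x
  σ_two : ∀ x, σ (σ x) = x
  inv : ∀ x, σ (c x) = c (c (σ x))
  q_c : ∀ x, q (c x) = q x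
  q_σ : ∀ x, q (σ x) = q x

namespace Space

variable {V : Type*} [AddCommGroup V] {q : V → ZMod 2} {B : V → V → ZMod 2} {c σ : V →+ V}

theorem q_zero (h : Space q B c σ) : q 0 = 0 := by
  have h1 := h.q_add 0 0
  have h2 : B (0 : V) 0 = 0 := by
    have := h.B_add 0 0 0
    rw [add_zero] at this
    have e := zmod2_add_self (B (0 : V) 0)
    rw [e] at this
    exact this
  rw [add_zero, h2, add_zero, zmod2_add_self] at h1
  exact h1

theorem B_symm (h : Space q B c σ) (x y : V) : B x y = B y x := by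
  have h1 := h.q_add x y
  have h2 := h.q_add y x
  rw [add_comm y x] at h2
  rw [h1, add_comm (q y) (q x)] at h2
  exact add_left_cancel h2

theorem B_self (h : Space q B c σ) (x : V) : B x x = 0 := by
  have h1 := h.q_add x x
  rw [h.two, h.q_zero, zmod2_add_self, zero_add] at h1
  exact h1.symm

theorem B_add_right (h : Space q B c σ) (x y w : V) : B x (y + w) = B x y + B x w := by
  rw [h.B_symm, h.B_add, h.B_symm y, h.B_symm w]

theorem B_zero_left (h : Space q B c σ) (x : V) : B 0 x = 0 := by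
  have h1 := h.B_add 0 0 x
  rw [add_zero, zmod2_add_self] at h1
  exact h1

theorem B_zero_right (h : Space q B c σ) (x : V) : B x 0 = 0 := by rw [h.B_symm, h.B_zero_left]

theorem B_map (h : Space q B c σ) (f : V →+ V) (hq : ∀ x, q (f x) = q x) (x y : V) :
    B (f x) (f y) = B x y := by
  have h1 := h.q_add (f x) (f y)
  rw [← map_add, hq, hq, hq, h.q_add x y] at h1
  exact (add_left_cancel h1).symm

theorem B_c (h : Space q B c σ) (x : V) : B x (c x) = q x := by
  have h1 : q (c (c x)) = q x := by rw [h.q_c, h.q_c]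
  rw [h.c_two, h.q_add, h.q_c] at h1
  rw [zmod2_add_self, zero_add] at h1
  exact h1

theorem σ_c_fix (h : Space q B c σ) {x : V} (hx : σ x = x) : σ (c x) = x + c x := by
  rw [h.inv, hx, h.c_two]

theorem B_fix (h : Space q B c σ) {u v : V} (hu : σ u = u) (hv : σ v = v) : B u v = 0 := by
  have h1 := h.B_map σ h.q_σ u (c v)
  rw [hu, h.σ_c_fix hv, h.B_add_right] at h1
  exact add_eq_right.mp h1

theorem b_symm (h : Space q B c σ) {u v : V} (hu : σ u = u) (hv : σ v = v) :
    B v (c u) = B u (c v) := by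
  have h1 := h.B_map c h.q_c u (c v)
  rw [h.c_two, h.B_add_right, h.B_map c h.q_c u v, h.B_fix hu hv, add_zero, h.B_symm] at h1
  exact h1

theorem decomp (h : Space q B c σ) (x : V) :
    σ (x + σ x) = x + σ x ∧ σ (x + c (x + σ x)) = x + c (x + σ x) := by
  have h1 : σ (x + σ x) = x + σ x := by rw [map_add, h.σ_two, add_comm]
  refine ⟨h1, ?_⟩
  rw [map_add, h.σ_c_fix h1]
  calc σ x + (x + σ x + c (x + σ x)) = (σ x + σ x) + (x + c (x + σ x)) := by abel
    _ = x + c (x + σ x) := by rw [h.two, zero_add]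

theorem recomb (h : Space q B c σ) (x : V) : x + c (x + σ x) + c (x + σ x) = x := by
  rw [add_assoc, h.two, add_zero]

theorem card_fix (h : Space q B c σ) : Nat.card {x : V // σ x = x} = 16 := by
  let f : {x : V // σ x = x} × {x : V // σ x = x} → V := fun p => (p.1 : V) + c (p.2 : V)
  have hinj : Function.Injective f := by
    rintro ⟨⟨u, hu⟩, ⟨w, hw⟩⟩ ⟨⟨u', hu'⟩, ⟨w', hw'⟩⟩ he
    change u + c w = u' + c w' at he
    have h1 := congrArg σ he
    rw [map_add, map_add, hu, hu', h.σ_c_fix hw, h.σ_c_fix hw',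
      show u + (w + c w) = w + (u + c w) by abel, show u' + (w' + c w') = w' + (u' + c w') by abel, he] at h1
    have hww : w = w' := add_right_cancel h1
    subst hww
    obtain rfl : u = u' := add_right_cancel he
    rfl
  have hsurj : Function.Surjective f := fun x =>
    ⟨(⟨_, (h.decomp x).2⟩, ⟨_, (h.decomp x).1⟩), h.recomb x⟩
  have h1 := Nat.card_congr (Equiv.ofBijective f ⟨hinj, hsurj⟩)
  rw [h.card, Nat.card_prod] at h1
  nlinarith

theorem finite (h : Space q B c σ) : Finite V :=
  Nat.finite_of_card_ne_zero (by rw [h.card]; norm_num)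

/-- An element of order five commuting with `c` and `σ` forces `q` to vanish on the fixed space of `σ`. -/
theorem q_fix (h : Space q B c σ) (g : V →+ V) (gc : ∀ x, g (c x) = c (g x)) (gσ : ∀ x, g (σ x) = σ (g x))
    (gq : ∀ x, q (g x) = q x) (g5 : ∀ x, g (g (g (g (g x)))) = x) (gne : ∃ x, g x ≠ x)
    {u : V} (hu : σ u = u) : q u = 0 := by
  classical
  haveI := h.finite
  haveI : Fintype V := Fintype.ofFinite V
  by_contra hne
  have hu1 : q u = 1 := (zmod2_cases _).resolve_left hne
  let W : AddSubgroup V :=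
    { carrier := {x | σ x = x}
      zero_mem' := map_zero σ
      add_mem' := fun {a b} (ha : σ a = a) (hb : σ b = b) => by
        show σ (a + b) = a + b
        rw [map_add, ha, hb]
      neg_mem' := fun {a} (ha : σ a = a) => by
        show σ (-a) = -a
        rw [map_neg, ha] }
  have hqadd : ∀ x y : V, σ x = x → σ y = y → q (x + y) = q x + q y := fun x y hx hy => by
    rw [h.q_add, h.B_fix hx hy, add_zero]
  have hqneg : ∀ x : V, -x = x := fun x => neg_eq_of_add_eq_zero_left (h.two x)
  let K : AddSubgroup V :=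
    { carrier := {x | σ x = x ∧ q x = 0}
      zero_mem' := ⟨map_zero σ, h.q_zero⟩
      add_mem' := fun {a b} ha hb => ⟨W.add_mem ha.1 hb.1, by rw [hqadd a b ha.1 hb.1, ha.2, hb.2, add_zero]⟩
      neg_mem' := fun {a} ha => by rw [hqneg]; exact ha }
  have hW16 : Nat.card W = 16 := h.card_fix
  -- `K` has index two in `W`
  have hK : Nat.card K = 8 := by
    let e : K ⊕ K ≃ W :=
      { toFun := fun s => match s with
          | Sum.inl k => ⟨k, k.2.1⟩
          | Sum.inr k => ⟨(k : V) + u, W.add_mem k.2.1 hu⟩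
        invFun := fun w => if hq : q (w : V) = 0 then Sum.inl ⟨w, w.2, hq⟩ else
          Sum.inr ⟨(w : V) + u, W.add_mem w.2 hu, by
            rw [hqadd _ _ w.2 hu, (zmod2_cases _).resolve_left hq, hu1]; decide⟩
        left_inv := by
          rintro (k | k)
          · simp only
            rw [dif_pos k.2.2]
          · simp only
            rw [dif_neg (by rw [hqadd _ _ k.2.1 hu, k.2.2, hu1]; decide)]
            exact congrArg Sum.inr (Subtype.ext (by simp only [add_assoc, h.two, add_zero]))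
        right_inv := fun w => by
          by_cases hq : q (w : V) = 0
          · simp only [dif_pos hq]
          · simp only [dif_neg hq]
            exact Subtype.ext (by simp only [add_assoc, h.two, add_zero]) }
    have := Nat.card_congr e
    rw [Nat.card_sum, hW16] at this
    omega
  let F : AddSubgroup V :=
    { carrier := {x | σ x = x ∧ g x = x}
      zero_mem' := ⟨map_zero σ, map_zero g⟩
      add_mem' := fun {a b} ha hb => ⟨W.add_mem ha.1 hb.1, by rw [map_add, ha.2, hb.2]⟩
      neg_mem' := fun {a} ha => by rw [hqneg]; exact ha }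
  have gW : ∀ x, σ x = x → σ (g x) = g x := fun x hx => by rw [← gσ, hx]
  have hFK : Nat.card (F ⊓ K : AddSubgroup V) = 8 := by
    have h1 := card_modEq_fixed (α := K) (fun x => ⟨g (x : V), gW _ x.2.1, by rw [gq]; exact x.2.2⟩)
      (fun x => Subtype.ext (g5 x))
    let e : {x : K // (⟨g (x : V), gW _ x.2.1, by rw [gq]; exact x.2.2⟩ : K) = x} ≃ (F ⊓ K : AddSubgroup V) :=
      { toFun := fun x => ⟨(x : K), ⟨x.1.2.1, congrArg Subtype.val x.2⟩, x.1.2⟩
        invFun := fun x => ⟨⟨(x : V), x.2.2⟩, Subtype.ext x.2.1.2⟩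
        left_inv := fun _ => rfl
        right_inv := fun _ => rfl }
    rw [Nat.card_congr e, hK] at h1
    have hd : Nat.card (F ⊓ K : AddSubgroup V) ∣ 8 := hK ▸ AddSubgroup.card_dvd_of_le inf_le_right
    have hle : Nat.card (F ⊓ K : AddSubgroup V) ≤ 8 := Nat.le_of_dvd (by norm_num) hd
    have hpos : 0 < Nat.card (F ⊓ K : AddSubgroup V) := Nat.card_pos
    unfold Nat.ModEq at h1
    interval_cases hx : Nat.card (F ⊓ K : AddSubgroup V) <;> omega
  have hFW : Nat.card F = 16 := by
    have h1 := card_modEq_fixed (α := W) (fun x => ⟨g (x : V), gW _ x.2⟩) (fun x => Subtype.ext (g5 x))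
    let e : {x : W // (⟨g (x : V), gW _ x.2⟩ : W) = x} ≃ F :=
      { toFun := fun x => ⟨(x : W), x.1.2, congrArg Subtype.val x.2⟩
        invFun := fun x => ⟨⟨(x : V), x.2.1⟩, Subtype.ext x.2.2⟩
        left_inv := fun _ => rfl
        right_inv := fun _ => rfl }
    rw [Nat.card_congr e, hW16] at h1
    have hle : Nat.card F ≤ 16 :=
      hW16 ▸ AddSubgroup.card_le_of_le (H := F) (K := W) fun x hx => hx.1
    have hge : 8 ≤ Nat.card F := hFK ▸ AddSubgroup.card_le_of_le inf_le_left
    have hd : Nat.card F ∣ 16 := hW16 ▸ AddSubgroup.card_dvd_of_le fun x hx => hx.1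
    unfold Nat.ModEq at h1
    interval_cases hx : Nat.card F <;> omega
  have hgW : ∀ x, σ x = x → g x = x := by
    intro x hx
    have : F = W := AddSubgroup.eq_of_le_of_card_ge (fun x hx => hx.1) (by rw [hFW, hW16])
    exact (this.symm ▸ (show x ∈ W from hx) : x ∈ F).2
  obtain ⟨x, hx⟩ := gne
  apply hx
  obtain ⟨h1, h2⟩ := h.decomp x
  calc g x = g (x + c (x + σ x) + c (x + σ x)) := by rw [h.recomb]
    _ = x := by rw [map_add, gc, hgW _ h1, hgW _ h2, h.recomb]

/-- A basis of the fixed space of `σ` adapted to the form `(u, v) ↦ B u (c v)`. -/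
theorem exists_basis (h : Space q B c σ) (hq0 : ∀ u, σ u = u → q u = 0) :
    ∃ k : W4 → V, (∀ a b, k (a + b) = k a + k b) ∧ (∀ a, σ (k a) = k a) ∧
      ∀ a b, B (k a) (c (k b)) = wB a b := by
  classical
  haveI := h.finite
  have hne : ∀ u, σ u = u → u ≠ 0 → ∃ v, σ v = v ∧ B u (c v) = 1 := by
    intro u hu hu0
    by_contra hall
    push Not at hall
    apply hu0
    refine h.nondeg u fun y => ?_
    obtain ⟨h1, h2⟩ := h.decomp y
    rw [← h.recomb y, h.B_add_right, h.B_fix hu h2, zero_add]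
    exact (zmod2_cases _).resolve_right (hall _ h1)
  have hbq : ∀ u, σ u = u → B u (c u) = 0 := fun u hu => by rw [h.B_c, hq0 u hu]
  have hc : ∀ (a : ZMod 2) (u : V), σ u = u → σ (if a = 0 then 0 else u) = (if a = 0 then 0 else u) := by
    intro a u hu
    split_ifs
    · exact map_zero σ
    · exact hu
  have hadd : ∀ {u v : V}, σ u = u → σ v = v → σ (u + v) = u + v := fun hu hv => by rw [map_add, hu, hv]
  have hsc : ∀ (a : ZMod 2) (u w : V), B (if a = 0 then 0 else u) (c w) = a * B u (c w) := by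
    intro a u w
    rcases zmod2_cases a with rfl | rfl
    · simp [h.B_zero_left]
    · simp
  have h16 := h.card_fix
  obtain ⟨x1, hx1, hx10⟩ : ∃ x, σ x = x ∧ x ≠ 0 := by
    by_contra hall
    push Not at hall
    haveI : Subsingleton {x : V // σ x = x} :=
      ⟨fun a b => Subtype.ext ((hall _ a.2).trans (hall _ b.2).symm)⟩
    have := Finite.card_le_one_iff_subsingleton.mpr (inferInstance : Subsingleton {x : V // σ x = x})
    omega
  obtain ⟨x2, hx2, h12⟩ := hne x1 hx1 hx10
  obtain ⟨y1, hy1, hy10, h1y, h2y⟩ : ∃ y, σ y = y ∧ y ≠ 0 ∧ B x1 (c y) = 0 ∧ B x2 (c y) = 0 := by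
    by_contra hall
    push Not at hall
    let f : {x : V // σ x = x} → ZMod 2 × ZMod 2 := fun x => (B x1 (c x.1), B x2 (c x.1))
    have hinj : Function.Injective f := by
      rintro ⟨a, ha⟩ ⟨b, hb⟩ he
      simp only [f, Prod.mk.injEq] at he
      apply Subtype.ext
      show a = b
      by_contra hab
      have hab' : a + b ≠ 0 := fun e => hab (by
        rw [← add_zero a, ← h.two b, ← add_assoc, e, zero_add])
      apply hall (a + b) (hadd ha hb) hab'
      · rw [map_add, h.B_add_right, he.1, zmod2_add_self]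
      · rw [map_add, h.B_add_right, he.2, zmod2_add_self]
    have := Nat.card_le_card_of_injective f hinj
    rw [h16, Nat.card_prod, Nat.card_zmod] at this
    omega
  obtain ⟨v, hv, h34⟩ := hne y1 hy1 hy10
  set y2 := v + (if B v (c x2) = 0 then 0 else x1) + (if B v (c x1) = 0 then 0 else x2) with hy2d
  have hy2 : σ y2 = y2 := hadd (hadd hv (hc _ _ hx1)) (hc _ _ hx2)
  have e1 : B y2 (c x1) = 0 := by
    rw [hy2d, h.B_add, h.B_add, hsc, hsc, hbq x1 hx1, h.b_symm hx1 hx2, h12, mul_zero, add_zero,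
      mul_one, zmod2_add_self]
  have e2 : B y2 (c x2) = 0 := by
    rw [hy2d, h.B_add, h.B_add, hsc, hsc, hbq x2 hx2, h12, mul_zero, add_zero, mul_one, zmod2_add_self]
  have e3 : B y2 (c y1) = 1 := by
    rw [hy2d, h.B_add, h.B_add, hsc, hsc, h1y, h2y, mul_zero, mul_zero, add_zero, add_zero,
      h.b_symm hy1 hv, h34]
  set e := y1 + x1 with he
  have hee : σ e = e := hadd hy1 hx1
  have b11 := hbq x1 hx1
  have b22 := hbq x2 hx2
  have b33 := hbq e hee
  have b44 := hbq y2 hy2
  have b12 : B x1 (c x2) = 1 := h12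
  have b21 : B x2 (c x1) = 1 := by rw [h.b_symm hx1 hx2, h12]
  have b13 : B x1 (c e) = 0 := by rw [he, map_add, h.B_add_right, h1y, b11, add_zero]
  have b31 : B e (c x1) = 0 := by rw [h.b_symm hx1 hee, b13]
  have b23 : B x2 (c e) = 1 := by rw [he, map_add, h.B_add_right, h2y, b21, zero_add]
  have b32 : B e (c x2) = 1 := by rw [h.b_symm hx2 hee, b23]
  have b41 : B y2 (c x1) = 0 := e1
  have b14 : B x1 (c y2) = 0 := by rw [h.b_symm hy2 hx1, e1]
  have b42 : B y2 (c x2) = 0 := e2
  have b24 : B x2 (c y2) = 0 := by rw [h.b_symm hy2 hx2, e2]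
  have b43 : B y2 (c e) = 1 := by rw [he, map_add, h.B_add_right, e3, e1, add_zero]
  have b34 : B e (c y2) = 1 := by rw [h.b_symm hy2 hee, b43]
  refine ⟨fun a => (if a.1 = 0 then 0 else x1) + (if a.2.1 = 0 then 0 else x2) +
    (if a.2.2.1 = 0 then 0 else e) + (if a.2.2.2 = 0 then 0 else y2), ?_, ?_, ?_⟩
  · have hh : ∀ (a b : ZMod 2) (u : V),
        (if a + b = 0 then 0 else u) = (if a = 0 then 0 else u) + (if b = 0 then 0 else u) := by
      intro a b u
      rcases zmod2_cases a with rfl | rfl <;> rcases zmod2_cases b with rfl | rfl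
      · simp
      · simp
      · simp
      · simp [zmod2_add_self, h.two]
    intro a b
    simp only [Prod.fst_add, Prod.snd_add, hh]
    abel
  · intro a
    exact hadd (hadd (hadd (hc _ _ hx1) (hc _ _ hx2)) (hc _ _ hee)) (hc _ _ hy2)
  · intro a b
    have hsr : ∀ (t : ZMod 2) (w u : V), B w (c (if t = 0 then 0 else u)) = t * B w (c u) := by
      intro t w u
      rcases zmod2_cases t with rfl | rfl
      · simp [h.B_zero_right]
      · simp
    simp only [map_add, h.B_add, h.B_add_right, hsc, hsr, b11, b22, b33, b44, b12, b21, b13, b31, b23,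
      b32, b14, b41, b24, b42, b34, b43, wB]
    ring

/-- Coordinates `u + c w ↦ (u, w)`. -/
theorem exists_coord (h : Space q B c σ) (hq0 : ∀ u, σ u = u → q u = 0) :
    ∃ Φ : V ≃+ V8, (∀ x, q x = vq (Φ x)) ∧ (∀ x y, B x y = vB (Φ x) (Φ y)) ∧
      (∀ x, Φ (c x) = ((Φ x).2, (Φ x).1 + (Φ x).2)) ∧
      (∀ x, Φ (σ x) = ((Φ x).1 + (Φ x).2, (Φ x).2)) := by
  classical
  haveI := h.finite
  obtain ⟨k, kadd, kfix, kB⟩ := h.exists_basis hq0
  let K : V8 →+ V := AddMonoidHom.mk' (fun p => k p.1 + c (k p.2)) fun p p' => by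
    simp only [Prod.fst_add, Prod.snd_add, kadd, map_add]
    abel
  have kinj : ∀ a, k a = 0 → a = 0 := by
    intro a ha
    have h0 : ∀ b, wB a b = 0 := fun b => by rw [← kB, ha, h.B_zero_left]
    exact wB_nondeg a h0
  have hinj : Function.Injective K := by
    rw [injective_iff_map_eq_zero]
    intro p (hp : k p.1 + c (k p.2) = 0)
    have h1 := congrArg σ hp
    rw [map_add, map_zero, kfix, h.σ_c_fix (kfix _)] at h1
    have h2 : k p.2 = 0 := by
      calc k p.2 = k p.2 + (k p.1 + c (k p.2)) := by rw [hp, add_zero]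
        _ = k p.1 + (k p.2 + c (k p.2)) := by abel
        _ = 0 := h1
    have h3 : k p.1 = 0 := by rw [h2, map_zero, add_zero] at hp; exact hp
    exact Prod.ext (kinj _ h3) (kinj _ h2)
  have hbij : Function.Bijective K := by
    refine (Nat.bijective_iff_injective_and_card K).mpr ⟨hinj, ?_⟩
    rw [h.card]
    simp [Nat.card_prod, Nat.card_zmod]
  let E : V8 ≃+ V := AddEquiv.ofBijective K hbij
  refine ⟨E.symm, ?_, ?_, ?_, ?_⟩
  · intro x
    obtain ⟨p, rfl⟩ := E.surjective x
    rw [E.symm_apply_apply]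
    show q (k p.1 + c (k p.2)) = wB p.1 p.2
    rw [h.q_add, h.q_c, hq0 _ (kfix _), hq0 _ (kfix _), zero_add, zero_add, kB]
  · intro x y
    obtain ⟨p, rfl⟩ := E.surjective x
    obtain ⟨p', rfl⟩ := E.surjective y
    rw [E.symm_apply_apply, E.symm_apply_apply]
    show B (k p.1 + c (k p.2)) (k p'.1 + c (k p'.2)) = wB p.1 p'.2 + wB p.2 p'.1
    have hs : wB p'.1 p.2 = wB p.2 p'.1 := by unfold wB; ring
    rw [h.B_add, h.B_add_right, h.B_add_right, h.B_fix (kfix _) (kfix _), kB, h.B_symm (c (k p.2)) (k p'.1),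
      kB, h.B_map c h.q_c, h.B_fix (kfix _) (kfix _), zero_add, add_zero, hs]
  · intro x
    obtain ⟨p, rfl⟩ := E.surjective x
    rw [E.symm_apply_apply, AddEquiv.symm_apply_eq]
    show c (k p.1 + c (k p.2)) = k p.2 + c (k (p.1 + p.2))
    rw [map_add, h.c_two, kadd, map_add]
    abel
  · intro x
    obtain ⟨p, rfl⟩ := E.surjective x
    rw [E.symm_apply_apply, AddEquiv.symm_apply_eq]
    show σ (k p.1 + c (k p.2)) = k (p.1 + p.2) + c (k p.2)
    rw [map_add, kfix, h.σ_c_fix (kfix _), kadd]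
    abel

/-- A symmetry commuting with `c` and `σ` acts diagonally in coordinates by an isometry. -/
theorem diag (h : Space q B c σ) (Φ : V ≃+ V8) (hB : ∀ x y, B x y = vB (Φ x) (Φ y))
    (hc : ∀ x, Φ (c x) = ((Φ x).2, (Φ x).1 + (Φ x).2))
    (hs : ∀ x, Φ (σ x) = ((Φ x).1 + (Φ x).2, (Φ x).2))
    (f : V →+ V) (fc : ∀ x, f (c x) = c (f x)) (fσ : ∀ x, f (σ x) = σ (f x)) (fq : ∀ x, q (f x) = q x) :
    ∃ F : W4 → W4, (∀ a b, F (a + b) = F a + F b) ∧ (∀ a b, wB (F a) (F b) = wB a b) ∧
      ∀ x, Φ (f x) = (F (Φ x).1, F (Φ x).2) := by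
  have hsnd : ∀ a : W4, (Φ (f (Φ.symm (a, 0)))).2 = 0 := by
    intro a
    have h1 : σ (Φ.symm (a, 0)) = Φ.symm (a, 0) :=
      Φ.injective (by rw [hs, Φ.apply_symm_apply]; simp)
    have h2 := hs (f (Φ.symm (a, 0)))
    rw [← fσ, h1] at h2
    exact left_eq_add.mp (congrArg Prod.fst h2)
  have hcv : ∀ b : W4, c (Φ.symm (b, 0)) = Φ.symm (0, b) := fun b =>
    Φ.injective (by rw [hc, Φ.apply_symm_apply, Φ.apply_symm_apply]; simp)
  have hfst : ∀ a : W4, Φ (f (Φ.symm (a, 0))) = ((Φ (f (Φ.symm (a, 0)))).1, 0) := fun a =>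
    Prod.ext rfl (hsnd a)
  have hsec : ∀ b : W4, Φ (f (Φ.symm (0, b))) = (0, (Φ (f (Φ.symm (b, 0)))).1) := by
    intro b
    rw [← hcv, fc, hc, hsnd, add_zero]
  refine ⟨fun a => (Φ (f (Φ.symm (a, 0)))).1, ?_, ?_, ?_⟩
  · intro a b
    show (Φ (f (Φ.symm ((a + b, 0) : V8)))).1 = _
    rw [show ((a + b, 0) : V8) = (a, 0) + (b, 0) by simp]
    simp only [map_add, Prod.fst_add]
  · intro a b
    have h1 := h.B_map f fq (Φ.symm (a, 0)) (Φ.symm (0, b))
    rw [hB, hB (Φ.symm (a, 0)), Φ.apply_symm_apply, Φ.apply_symm_apply, hsec, hfst a] at h1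
    have e : ∀ a b : W4, vB (a, 0) (0, b) = wB a b := by
      intro a b
      simp [vB, wB]
    rwa [e, e] at h1
  · intro x
    obtain ⟨p, rfl⟩ := Φ.symm.surjective x
    rw [Φ.apply_symm_apply]
    conv_lhs => rw [show p = (p.1, 0) + (0, p.2) by simp]
    rw [map_add, map_add, map_add, hfst, hsec]
    simp

end Space

end Cfsg.Agent.H70.CHZ.ToTensor
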