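import Mathlib
import Cfsg.Agent.H70.CHZ.Base
import Cfsg.Agent.H70.CHZ.Fpf
import Cfsg.Agent.H70.CHZ.ModelFacts
import Cfsg.Agent.H70.CHZ.ToTensorLin

/-! In the fixed-point-free case the module `Q / ⟨z⟩` is the model tensor module. -/

set_option autoImplicit false

namespace Cfsg.Agent.H70.CHZ

universe u

namespace ToTensor

variable {G : Type u} [Group G] {z : G} {Q : Subgroup G} {π : G → P36}

open Classical in
/-- The exponent of `z` in an element of `⟨z⟩`. -/
noncomputable def bit (x : G) : ZMod 2 := if x = 1 then 0 else 1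

theorem bit_one : bit (1 : G) = 0 := if_pos rfl

theorem bit_eq_zero {x : G} (hx : bit x = 0) : x = 1 := by
  unfold bit at hx
  split_ifs at hx with h1
  · exact h1
  · exact absurd hx one_ne_zero

theorem zb_bit {x : G} (hx : x = 1 ∨ x = z) (hz : z ≠ 1) : x = zb z (bit x) := by
  rcases hx with rfl | rfl
  · simp [zb, bit]
  · simp [zb, bit, hz]

theorem bit_mul {x y : G} (hz1 : z ≠ 1) (hzz : z * z = 1) (hx : x = 1 ∨ x = z) (hy : y = 1 ∨ y = z) :
    bit (x * y) = bit x + bit y := by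
  rcases hx with rfl | rfl <;> rcases hy with rfl | rfl <;>
    simp [bit, hz1, hzz, zmod2_add_self]

/-- `L` is the quotient map of `Q` by `⟨z⟩`, written additively. -/
structure Lin {V : Type*} [AddCommGroup V] (z : G) (Q : Subgroup G) (L : G → V) : Prop where
  mul : ∀ a ∈ Q, ∀ b ∈ Q, L (a * b) = L a + L b
  ker : ∀ a ∈ Q, (L a = 0 ↔ a = 1 ∨ a = z)
  surj : ∀ v : V, ∃ a ∈ Q, L a = v

theorem exists_lin [Finite G] (h : Base z Q π) :
    ∃ (V : Type u) (_ : AddCommGroup V) (L : G → V), Lin z Q L ∧ Nat.card V = 256 := by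
  classical
  have hc : ∀ v w : ↥Q ⧸ Subgroup.center ↥Q, v * w = w * v := by
    intro v w
    induction v using QuotientGroup.induction_on with | H x => ?_
    induction w using QuotientGroup.induction_on with | H y => ?_
    rw [← QuotientGroup.mk_mul, ← QuotientGroup.mk_mul, QuotientGroup.eq, h.sing.center_iff]
    have := h.sing.comm (Q.inv_mem y.2) (Q.inv_mem x.2)
    simpa [mul_assoc] using this
  letI I : CommGroup (↥Q ⧸ Subgroup.center ↥Q) :=
    { (inferInstance : Group (↥Q ⧸ Subgroup.center ↥Q)) with mul_comm := hc }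
  refine ⟨Additive (↥Q ⧸ Subgroup.center ↥Q), inferInstance,
    fun a => if ha : a ∈ Q then Additive.ofMul (QuotientGroup.mk ⟨a, ha⟩) else 0,
    ⟨fun a ha b hb => ?_, fun a ha => ?_, fun v => ?_⟩, ?_⟩
  · simp only [dif_pos ha, dif_pos hb, dif_pos (Q.mul_mem ha hb)]
    rfl
  · simp only [dif_pos ha]
    show (QuotientGroup.mk (⟨a, ha⟩ : ↥Q) : ↥Q ⧸ Subgroup.center ↥Q) = 1 ↔ _
    rw [QuotientGroup.eq_one_iff, h.sing.center_iff, H18.mem_zpowers_iff_pair h.sing.xx]
  · obtain ⟨w, hw⟩ := QuotientGroup.mk_surjective (Additive.toMul v)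
    exact ⟨w, w.2, by simp only [dif_pos w.2]; exact congrArg Additive.ofMul hw⟩
  · have h1 := Subgroup.card_eq_card_quotient_mul_card_subgroup (Subgroup.center ↥Q)
    rw [h.card, h.sing.ext.2] at h1
    rw [Nat.card_congr Additive.toMul]
    omega

namespace Lin

variable {V : Type*} [AddCommGroup V] {L : G → V}

theorem one (hL : Lin z Q L) : L 1 = 0 := (hL.ker 1 Q.one_mem).mpr (Or.inl rfl)

theorem inv (hL : Lin z Q L) {a : G} (ha : a ∈ Q) : L a⁻¹ = -L a := by
  have h1 := hL.mul a ha a⁻¹ (Q.inv_mem ha)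
  rw [mul_inv_cancel, hL.one] at h1
  exact eq_neg_of_add_eq_zero_right h1.symm

theorem eq_iff (hs : H18.SingPt Q z) (hL : Lin z Q L) {a b : G} (ha : a ∈ Q) (hb : b ∈ Q) :
    L a = L b ↔ a⁻¹ * b ∈ Subgroup.zpowers z := by
  rw [H18.mem_zpowers_iff_pair hs.xx, ← hL.ker _ (Q.mul_mem (Q.inv_mem ha) hb),
    hL.mul _ (Q.inv_mem ha) _ hb, hL.inv ha, neg_add_eq_zero]

theorem two (hs : H18.SingPt Q z) (hL : Lin z Q L) (v : V) : v + v = 0 := by
  obtain ⟨a, ha, rfl⟩ := hL.surj v
  rw [← hL.mul a ha a ha, hL.ker _ (Q.mul_mem ha ha)]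
  exact hs.pair (hs.sq ha)

theorem exists_act (hs : H18.SingPt Q z) (hL : Lin z Q L) (a : G) :
    ∃ f : V →+ V, a * z = z * a → ∀ x ∈ Q, f (L x) = L (a * x * a⁻¹) := by
  by_cases ha : a * z = z * a
  · choose rep hrep hLrep using hL.surj
    have hkey : ∀ x ∈ Q, L (a * rep (L x) * a⁻¹) = L (a * x * a⁻¹) := by
      intro x hx
      rw [eq_iff hs hL (hs.norm a ha _ (hrep _)) (hs.norm a ha _ hx)]
      have h1 := (eq_iff hs hL (hrep _) hx).mp (hLrep (L x))
      rw [show (a * rep (L x) * a⁻¹)⁻¹ * (a * x * a⁻¹) = a * ((rep (L x))⁻¹ * x) * a⁻¹ by group,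
        hs.central_zp_mul' ha h1]
      exact h1
    refine ⟨AddMonoidHom.mk' (fun v => L (a * rep v * a⁻¹)) fun v w => ?_, fun _ x hx => hkey x hx⟩
    obtain ⟨x, hx, rfl⟩ := hL.surj v
    obtain ⟨y, hy, rfl⟩ := hL.surj w
    rw [← hL.mul x hx y hy, hkey _ (Q.mul_mem hx hy), hkey x hx, hkey y hy,
      ← hL.mul _ (hs.norm a ha x hx) _ (hs.norm a ha y hy)]
    congr 1
    group
  · exact ⟨0, fun h => absurd h ha⟩

theorem exists_form [Finite G] (hs : H18.SingPt Q z) (hL : Lin z Q L) :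
    ∃ (q : V → ZMod 2) (B : V → V → ZMod 2), (∀ a ∈ Q, q (L a) = bit (a * a)) ∧
      (∀ a ∈ Q, ∀ b ∈ Q, B (L a) (L b) = bit (a * b * a⁻¹ * b⁻¹)) ∧
      (∀ x y, q (x + y) = q x + q y + B x y) ∧ (∀ x y w, B (x + y) w = B x w + B y w) ∧
      (∀ x, (∀ y, B x y = 0) → x = 0) := by
  choose rep hrep hLrep using hL.surj
  have hq : ∀ a ∈ Q, bit (rep (L a) * rep (L a)) = bit (a * a) := fun a ha => by
    rw [hs.sq_eq_of_coset' (hrep _) ((eq_iff hs hL (hrep _) ha).mp (hLrep (L a)))]
  have key : ∀ a ∈ Q, ∀ b ∈ Q,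
      bit (a * b * (a * b)) = bit (a * a) + bit (b * b) + bit (a * b * a⁻¹ * b⁻¹) := by
    intro a ha b hb
    have h1 := hs.pair (hs.comm ha hb)
    have h2 : a * b * (a * b) = (a * b * a⁻¹ * b⁻¹)⁻¹ * (a * a) * (b * b) := by
      have hcz : ∀ c : G, c = 1 ∨ c = z → ∀ w ∈ Q, w * c = c * w := fun c hc w hw => by
        rcases hc with rfl | rfl
        · simp
        · exact hs.comm_x w hw
      have h3 : b * a = (a * b * a⁻¹ * b⁻¹)⁻¹ * (a * b) := by group
      calc a * b * (a * b) = a * (b * a) * b := by group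
        _ = a * ((a * b * a⁻¹ * b⁻¹)⁻¹ * (a * b)) * b := by rw [h3]
        _ = (a * (a * b * a⁻¹ * b⁻¹)⁻¹) * (a * b * b) := by group
        _ = ((a * b * a⁻¹ * b⁻¹)⁻¹ * a) * (a * b * b) := by
          rw [hcz _ (by rcases h1 with e | e <;> simp [e, hs.x_inv]) a ha]
        _ = (a * b * a⁻¹ * b⁻¹)⁻¹ * (a * a) * (b * b) := by group
    have hk : (a * b * a⁻¹ * b⁻¹)⁻¹ = a * b * a⁻¹ * b⁻¹ := by
      rcases h1 with e | e <;> simp [e, hs.x_inv]
    have hp : a * b * a⁻¹ * b⁻¹ * (a * a) = 1 ∨ a * b * a⁻¹ * b⁻¹ * (a * a) = z :=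
      hs.pair (Subgroup.mul_mem _ (hs.comm ha hb) (hs.sq ha))
    rw [h2, hk, bit_mul hs.xne hs.xx hp (hs.pair (hs.sq hb)), bit_mul hs.xne hs.xx h1 (hs.pair (hs.sq ha))]
    ring
  let q : V → ZMod 2 := fun v => bit (rep v * rep v)
  have hB : ∀ a ∈ Q, ∀ b ∈ Q, q (L a + L b) + q (L a) + q (L b) = bit (a * b * a⁻¹ * b⁻¹) := by
    intro a ha b hb
    simp only [q, ← hL.mul a ha b hb, hq _ (Q.mul_mem ha hb), hq a ha, hq b hb, key a ha b hb]
    linear_combination zmod2_add_self (bit (a * a)) + zmod2_add_self (bit (b * b))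
  refine ⟨q, fun x y => q (x + y) + q x + q y, hq, hB, ?_, ?_, ?_⟩
  · intro x y
    linear_combination -zmod2_add_self (q x) - zmod2_add_self (q y)
  · intro x y w
    obtain ⟨a, ha, rfl⟩ := hL.surj x
    obtain ⟨b, hb, rfl⟩ := hL.surj y
    obtain ⟨c, hc, rfl⟩ := hL.surj w
    show q (L a + L b + L c) + q (L a + L b) + q (L c) = _
    rw [← hL.mul a ha b hb, hB _ (Q.mul_mem ha hb) c hc]
    show _ = (q (L a + L c) + q (L a) + q (L c)) + (q (L b + L c) + q (L b) + q (L c))
    rw [hB a ha c hc, hB b hb c hc, ← bit_mul hs.xne hs.xx (hs.pair (hs.comm ha hc)) (hs.pair (hs.comm hb hc))]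
    congr 1
    calc a * b * c * (a * b)⁻¹ * c⁻¹ = a * (b * c * b⁻¹ * c⁻¹) * (c * a⁻¹ * c⁻¹) := by group
      _ = (b * c * b⁻¹ * c⁻¹) * (a * c * a⁻¹ * c⁻¹) := by
        rw [hs.x_central ha (hs.comm hb hc)]; group
      _ = (a * c * a⁻¹ * c⁻¹) * (b * c * b⁻¹ * c⁻¹) := by
        rw [hs.x_central (hs.zp_le (hs.comm hb hc)) (hs.comm ha hc)]
  · intro x hx
    obtain ⟨a, ha, rfl⟩ := hL.surj x
    rw [hL.ker a ha]
    refine hs.cent a fun w hw => ?_
    have h1 : q (L a + L w) + q (L a) + q (L w) = 0 := hx (L w)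
    rw [hB a ha w hw] at h1
    have h2 := bit_eq_zero h1
    rw [mul_inv_eq_one, mul_inv_eq_iff_eq_mul] at h2
    exact h2.symm

end Lin

theorem perm3_cases : ∀ s : Equiv.Perm (Fin 3),
    s = finRotate 3 * (finRotate 3 * finRotate 3) ∨ s = finRotate 3 ∨ s = finRotate 3 * finRotate 3 ∨
    s = Equiv.swap 1 2 ∨ s = finRotate 3 * Equiv.swap 1 2 ∨
    s = finRotate 3 * finRotate 3 * Equiv.swap 1 2 := by decide

/-- An element of order five of the second factor. -/
def five : P36 :=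
  (1, Equiv.swap 0 1 * Equiv.swap 1 2 * Equiv.swap 2 3 * Equiv.swap 3 4)

theorem five_facts : Equiv.Perm.sign five.2 = 1 ∧ five * (five * (five * (five * five))) = 1 ∧ five ≠ 1 := by
  decide

theorem cyc_facts : Equiv.Perm.sign cyc.2 = 1 ∧ Equiv.Perm.sign sig.2 = 1 ∧ cyc * (cyc * cyc) = 1 ∧
    sig * sig = 1 ∧ sig * cyc = cyc * (cyc * sig) := by
  decide

end ToTensor

open ToTensor in
/-- In the fixed-point-free case, `Q / ⟨z⟩` with the action of `C(z)` is the model. -/
theorem exists_tensor {G : Type u} [Group G] [Finite G] {z : G} {Q : Subgroup G} {π : G → P36}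
    (h : Base z Q π) (hf : Fpf z Q π)
    (hfull : ∀ p : P36, Equiv.Perm.sign p.2 = 1 → ∃ a : G, a * z = z * a ∧ π a = p) :
    ∃ π' φ, Tensor z Q π' φ := by
  classical
  obtain ⟨V, _, L, hL, hV⟩ := exists_lin h
  have hs := h.sing
  obtain ⟨q, B, hq, hB, qadd, Badd, nd⟩ := hL.exists_form hs
  choose act hact using hL.exists_act hs
  have czm : ∀ {a b : G}, a * z = z * a → b * z = z * b → a * b * z = z * (a * b) := fun ha hb => by
    rw [mul_assoc, hb, ← mul_assoc, ha, mul_assoc]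
  have czi : ∀ {a : G}, a * z = z * a → a⁻¹ * z = z * a⁻¹ := fun ha => by
    rw [inv_mul_eq_iff_eq_mul, ← mul_assoc, ha, mul_inv_cancel_right]
  have act_one : ∀ v, act 1 v = v := by
    intro v
    obtain ⟨x, hx, rfl⟩ := hL.surj v
    rw [hact 1 (by simp) x hx]; simp
  have act_mul : ∀ {a b : G}, a * z = z * a → b * z = z * b → ∀ v, act (a * b) v = act a (act b v) := by
    intro a b ha hb v
    obtain ⟨x, hx, rfl⟩ := hL.surj v
    rw [hact _ (czm ha hb) x hx, hact b hb x hx, hact a ha _ (hs.norm b hb x hx)]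
    congr 1
    group
  have act_Q : ∀ {a : G}, a ∈ Q → ∀ v, act a v = v := by
    intro a ha v
    obtain ⟨x, hx, rfl⟩ := hL.surj v
    rw [hact a (hs.comm_x a ha) x hx, hL.mul _ (Q.mul_mem ha hx) _ (Q.inv_mem ha), hL.mul a ha x hx,
      hL.inv ha]
    abel
  have act_ker : ∀ {a : G}, a * z = z * a → (∀ v, act a v = v) → a ∈ Q := by
    intro a ha hv
    refine hs.mem_of_disp ha fun x hx => (hL.eq_iff hs hx (hs.norm a ha x hx)).mp ?_
    rw [← hact a ha x hx, hv]
  have π_one : π 1 = 1 := (h.π_ker 1 (by simp)).mpr Q.one_mem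
  have act_eq : ∀ {a b : G}, a * z = z * a → b * z = z * b → π a = π b → ∀ v, act a v = act b v := by
    intro a b ha hb he v
    have h1 : π (a⁻¹ * b) = 1 := by
      have h2 := h.π_mul a (a⁻¹ * b) ha (czm (czi ha) hb)
      rw [mul_inv_cancel_left, ← he] at h2
      exact mul_left_cancel (h2.symm.trans (mul_one _).symm)
    have h3 := act_mul ha (czm (czi ha) hb) v
    rw [mul_inv_cancel_left, act_Q ((h.π_ker _ (czm (czi ha) hb)).mp h1)] at h3
    exact h3.symm
  have act_q : ∀ {a : G}, a * z = z * a → ∀ v, q (act a v) = q v := by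
    intro a ha v
    obtain ⟨x, hx, rfl⟩ := hL.surj v
    rw [hact a ha x hx, hq x hx, hq _ (hs.norm a ha x hx),
      show a * x * a⁻¹ * (a * x * a⁻¹) = a * (x * x) * a⁻¹ by group, hs.central_zp_mul' ha (hs.sq hx)]
  obtain ⟨ac, hac, hacp⟩ := hfull cyc cyc_facts.1
  obtain ⟨as, has, hasp⟩ := hfull sig cyc_facts.2.1
  have c3 : ∀ v, act ac (act ac (act ac v)) = v := by
    intro v
    rw [← act_mul hac hac, ← act_mul (czm hac hac) hac,
      act_eq (czm (czm hac hac) hac) (b := 1) (by simp) (by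
        rw [π_one, h.π_mul _ _ (czm hac hac) hac, h.π_mul _ _ hac hac, hacp, mul_assoc]
        exact cyc_facts.2.2.1)]
    exact act_one v
  have c2 : ∀ v, act ac (act ac v) = v + act ac v := by
    intro v
    set s := v + act ac v + act ac (act ac v) with hsd
    have hfix : act ac s = s := by
      rw [hsd, map_add, map_add, c3]; abel
    obtain ⟨y, hy, hys⟩ := hL.surj s
    rw [← hys, hact ac hac y hy] at hfix
    have h0 : s = 0 := by
      rw [← hys, hL.ker y hy]
      exact hs.pair (hf ac hac hacp y hy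
        ((hL.eq_iff hs hy (hs.norm ac hac y hy)).mp hfix.symm))
    have h2 := eq_neg_of_add_eq_zero_right (hsd.symm.trans h0)
    rw [h2]
    exact neg_eq_of_add_eq_zero_left (hL.two hs _)
  have S : ToTensor.Space q B (act ac) (act as) :=
    { two := hL.two hs
      card := hV
      q_add := qadd
      B_add := Badd
      nondeg := nd
      c_two := c2
      σ_two := fun v => by
        rw [← act_mul has has, act_eq (czm has has) (b := 1) (by simp) (by
          rw [π_one, h.π_mul _ _ has has, hasp]; exact cyc_facts.2.2.2.1)]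
        exact act_one v
      inv := fun v => by
        rw [← act_mul has hac, ← act_mul hac has, ← act_mul hac (czm hac has)]
        refine act_eq (czm has hac) (czm hac (czm hac has)) ?_ v
        rw [h.π_mul _ _ has hac, h.π_mul _ _ hac (czm hac has), h.π_mul _ _ hac has, hacp, hasp]
        exact cyc_facts.2.2.2.2
      q_c := act_q hac
      q_σ := act_q has }
  have hcomm : ∀ {a b : G}, a * z = z * a → b * z = z * b → π a * π b = π b * π a →
      ∀ v, act a (act b v) = act b (act a v) := by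
    intro a b ha hb he v
    rw [← act_mul ha hb, ← act_mul hb ha]
    exact act_eq (czm ha hb) (czm hb ha) (by rw [h.π_mul _ _ ha hb, h.π_mul _ _ hb ha, he]) v
  have hfst : ∀ {p p' : P36}, p.1 = 1 → p'.2 = 1 → p * p' = p' * p := fun h1 h2 =>
    Prod.ext (by simp [h1]) (by simp [h2])
  obtain ⟨a5, ha5, ha5p⟩ := hfull five five_facts.1
  have hq0 : ∀ u, act as u = u → q u = 0 := by
    intro u hu
    refine S.q_fix (act a5) (hcomm ha5 hac (hfst (by rw [ha5p]; rfl) (by rw [hacp]; rfl)))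
      (hcomm ha5 has (hfst (by rw [ha5p]; rfl) (by rw [hasp]; rfl))) (act_q ha5) ?_ ?_ hu
    · intro v
      rw [show act a5 (act a5 (act a5 (act a5 (act a5 v)))) = act (a5 * (a5 * (a5 * (a5 * a5)))) v by
        rw [act_mul ha5 (czm ha5 (czm ha5 (czm ha5 ha5))), act_mul ha5 (czm ha5 (czm ha5 ha5)),
          act_mul ha5 (czm ha5 ha5), act_mul ha5 ha5]]
      rw [act_eq (czm ha5 (czm ha5 (czm ha5 (czm ha5 ha5)))) (b := 1) (by simp) (by
        rw [π_one, h.π_mul _ _ ha5 (czm ha5 (czm ha5 (czm ha5 ha5))),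
          h.π_mul _ _ ha5 (czm ha5 (czm ha5 ha5)), h.π_mul _ _ ha5 (czm ha5 ha5), h.π_mul _ _ ha5 ha5, ha5p]
        exact five_facts.2.1)]
      exact act_one v
    · by_contra hall
      push Not at hall
      exact five_facts.2.2 (ha5p ▸ (h.π_ker a5 ha5).mpr (act_ker ha5 hall))
  obtain ⟨Φ, Φq, ΦB, Φc, Φs⟩ := S.exists_coord hq0
  have hdiag : ∀ {a : G}, a * z = z * a → (π a).1 = 1 →
      ∃ g, ∀ v, Φ (act a v) = vAct (1, g) (Φ v) := by
    intro a ha hp
    obtain ⟨F, Fadd, FB, hF⟩ := S.diag Φ ΦB Φc Φs (act a)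
      (hcomm ha hac (hfst hp (by rw [hacp]; rfl))) (hcomm ha has (hfst hp (by rw [hasp]; rfl))) (act_q ha)
    obtain ⟨g, hg⟩ := exists_wAct_of_isometry F Fadd FB
    exact ⟨g, fun v => by rw [hF, vAct_snd, hg, hg]⟩
  let P : Equiv.Perm (Fin 3) → Prop := fun s =>
    ∀ a : G, a * z = z * a → π a = (s, 1) → ∀ v, Φ (act a v) = vAct (s, 1) (Φ v)
  have Pc : P (finRotate 3) := fun a ha hp v => by
    rw [act_eq ha hac (by rw [hp, hacp]; rfl) v, Φc]
    exact (CHZ.vAct_cyc _).symm
  have Ps : P (Equiv.swap 1 2) := fun a ha hp v => by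
    rw [act_eq ha has (by rw [hp, hasp]; rfl) v, Φs]
    exact (CHZ.vAct_sig _).symm
  have Pm : ∀ {s t}, P s → P t → P (s * t) := by
    intro s t hsP htP a ha hp v
    obtain ⟨a1, ha1, hp1⟩ := hfull (s, 1) (by simp)
    obtain ⟨a2, ha2, hp2⟩ := hfull (t, 1) (by simp)
    rw [act_eq ha (czm ha1 ha2) (by rw [hp, h.π_mul _ _ ha1 ha2, hp1, hp2]; simp) v,
      act_mul ha1 ha2, hsP a1 ha1 hp1, htP a2 ha2 hp2, ← vAct_mul]
    simp
  have hP : ∀ s, P s := by
    intro s
    rcases perm3_cases s with e | e | e | e | e | e <;> subst e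
    exacts [Pm Pc (Pm Pc Pc), Pc, Pm Pc Pc, Ps, Pm Pc Ps, Pm (Pm Pc Pc) Ps]
  have hall : ∀ a : G, ∃ g, a * z = z * a → ∀ v, Φ (act a v) = vAct ((π a).1, g) (Φ v) := by
    intro a
    by_cases ha : a * z = z * a
    · obtain ⟨a0, ha0, hp0⟩ := hfull ((π a).1, 1) (by simp)
      have hp1 : π (a0⁻¹ * a) = (1, (π a).2) := by
        have h1 := h.π_mul a0 (a0⁻¹ * a) ha0 (czm (czi ha0) ha)
        rw [mul_inv_cancel_left, hp0] at h1
        have h2 := congrArg Prod.fst h1
        have h3 := congrArg Prod.snd h1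
        exact Prod.ext (by simpa using h2) (by simpa using h3.symm)
      obtain ⟨g, hg⟩ := hdiag (czm (czi ha0) ha) (by rw [hp1])
      refine ⟨g, fun _ v => ?_⟩
      have h4 := act_mul ha0 (czm (czi ha0) ha) v
      rw [mul_inv_cancel_left] at h4
      rw [h4, hP _ a0 ha0 hp0, hg, ← vAct_mul]
      simp
    · exact ⟨1, fun h => absurd h ha⟩
  choose gg hgg using hall
  let π' : G → P36 := fun a => ((π a).1, gg a)
  have hπ' : ∀ {a : G}, a * z = z * a → ∀ v, Φ (act a v) = vAct (π' a) (Φ v) := fun ha => hgg _ ha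
  have faith : ∀ {p p' : P36}, (∀ v : V, vAct p (Φ v) = vAct p' (Φ v)) → p = p' := fun hv =>
    vAct_injective (funext fun x => by simpa using hv (Φ.symm x))
  have pmul : ∀ a b : G, a * z = z * a → b * z = z * b → π' (a * b) = π' a * π' b := by
    intro a b ha hb
    refine faith fun v => ?_
    rw [← hπ' (czm ha hb), act_mul ha hb, hπ' ha, hπ' hb, vAct_mul]
  have pone : ∀ x : V8, vAct 1 x = x := vAct_one
  have pker : ∀ a : G, a * z = z * a → (π' a = 1 ↔ a ∈ Q) := by
    intro a ha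
    constructor
    · intro he
      refine act_ker ha fun v => Φ.injective ?_
      rw [hπ' ha, he, pone]
    · intro hq'
      refine faith fun v => ?_
      rw [← hπ' ha, act_Q hq', pone]
  have peq : ∀ a b : G, a * z = z * a → b * z = z * b → π a = π b → π' a = π' b := by
    intro a b ha hb he
    refine faith fun v => ?_
    rw [← hπ' ha, ← hπ' hb, act_eq ha hb he]
  have prange : ∀ p : P36, Equiv.Perm.sign p.2 = 1 → ∃ a : G, a * z = z * a ∧ π' a = p := by
    have hl : ∀ k : ↥(alternatingGroup (Fin 6)), ∃ a : G, a * z = z * a ∧ π a = (1, (k : Equiv.Perm (Fin 6))) :=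
      fun k => hfull (1, (k : Equiv.Perm (Fin 6))) (Equiv.Perm.mem_alternatingGroup.mp k.2)
    choose l hlz hlp using hl
    let f : ↥(alternatingGroup (Fin 6)) →* Equiv.Perm (Fin 6) :=
      MonoidHom.mk' (fun k => gg (l k)) fun j k => by
        have h1 := peq (l (j * k)) (l j * l k) (hlz _) (czm (hlz j) (hlz k)) (by
          rw [h.π_mul _ _ (hlz j) (hlz k), hlp, hlp, hlp]; simp)
        rw [pmul _ _ (hlz j) (hlz k)] at h1
        exact congrArg Prod.snd h1
    have hinj : Function.Injective f := by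
      rw [injective_iff_map_eq_one]
      intro k hk
      have h1 : π' (l k) = 1 := Prod.ext (by simp [π', hlp]) hk
      have h2 := (h.π_ker _ (hlz k)).mpr ((pker _ (hlz k)).mp h1)
      rw [hlp] at h2
      exact Subtype.ext (congrArg Prod.snd h2)
    have hidx : f.range.index = 2 := by
      have h1 := Subgroup.index_mul_card f.range
      have h2 := Subgroup.index_mul_card (alternatingGroup (Fin 6))
      rw [alternatingGroup.index_eq_two] at h2
      rw [← Nat.card_congr (MonoidHom.ofInjective hinj).toEquiv, ← h2] at h1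
      exact Nat.eq_of_mul_eq_mul_right Nat.card_pos h1
    have hA := Equiv.Perm.eq_alternatingGroup_of_index_eq_two hidx
    intro p hp
    have hm : p.2 ∈ f.range := by rw [hA]; exact Equiv.Perm.mem_alternatingGroup.mpr hp
    obtain ⟨k, hk⟩ := hm
    obtain ⟨a0, ha0, hp0⟩ := hfull (p.1, 1) (by simp)
    refine ⟨a0 * l k, czm ha0 (hlz k), ?_⟩
    have hg0 : gg a0 = 1 := congrArg Prod.snd (show π' a0 = (p.1, 1) from faith fun v => by
      rw [← hπ' ha0]; exact hP _ a0 ha0 hp0 v)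
    rw [pmul _ _ ha0 (hlz k)]
    exact Prod.ext (by simp [π', hp0, hlp]) (by simp only [π', Prod.snd_mul, hg0, one_mul]; exact hk)
  refine ⟨π', fun a => Φ (L a),
    { sing := h.sing
      core := h.core
      card := h.card
      π_mul := pmul
      π_ker := pker
      π_range := fun p _ hp => prange p hp
      φ_mul := fun a ha b hb => by rw [hL.mul a ha b hb, map_add]
      φ_ker := fun a ha => by rw [map_eq_zero_iff Φ Φ.injective, hL.ker a ha]
      φ_surj := fun v => by
        obtain ⟨a, ha, hv⟩ := hL.surj (Φ.symm v)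
        exact ⟨a, ha, by rw [hv, Φ.apply_symm_apply]⟩
      φ_sq := fun a ha => by rw [← Φq, hq a ha]; exact zb_bit (hs.pair (hs.sq ha)) hs.xne
      φ_comm := fun a ha b hb => by rw [← ΦB, hB a ha b hb]; exact zb_bit (hs.pair (hs.comm ha hb)) hs.xne
      φ_act := fun a ha x hx => by rw [← hact a ha x hx]; exact hπ' ha (L x) }⟩

end Cfsg.Agent.H70.CHZ
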