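import Cfsg.Agent.H70.CHZ.Model

/-! Finite facts for weak closure in the tensor case: the possible `Q ∩ Q_t` for `t ∈ Q`. -/

set_option autoImplicit false
set_option maxRecDepth 10000
set_option synthInstance.maxSize 4096
set_option synthInstance.maxHeartbeats 200000

namespace Cfsg.Agent.H70.CHZ

/-- `e₁₂`. -/
def w0 : W4 := (1, 0, 0, 0)

/-- `e₃₄`. -/
def w1 : W4 := (0, 0, 1, 0)

/-- The pure singular representative `1 ⊗ e₁₂`. -/
def tau1 : V8 := (w0, 0)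

/-- The mixed singular representative. -/
def tau2 : V8 := (w0, w1)

/-- The maximal singular subspace attached to `tau1`. -/
def L0 (v : V8) : Prop := v.1.2.1 = 0 ∧ (v.2 = 0 ∨ v.2 = w0)

instance : DecidablePred L0 := fun v => inferInstanceAs (Decidable (_ ∧ _))

/-- Permutations from pairs of transpositions. -/
def tauP : Equiv.Perm (Fin 6) := Equiv.swap 0 1

/-- The three double transpositions of `{2,3,4,5}`. -/
def k1 : Equiv.Perm (Fin 6) := Equiv.swap 2 3 * Equiv.swap 4 5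
/-- See `k1`. -/
def k2 : Equiv.Perm (Fin 6) := Equiv.swap 2 4 * Equiv.swap 3 5
/-- See `k1`. -/
def k3 : Equiv.Perm (Fin 6) := Equiv.swap 2 5 * Equiv.swap 3 4

/-- The stabilizer of `e₁₂` as a list. -/
def stab0 : List (Equiv.Perm (Fin 6)) :=
  ([1, tauP].flatMap fun a =>
    [1, k1, k2, k3].flatMap fun b =>
      [1, Equiv.swap 2 3 * Equiv.swap 3 4, Equiv.swap 3 4 * Equiv.swap 2 3].flatMap fun c =>
        [1, Equiv.swap 2 3].map fun d => a * (b * (c * d)))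

theorem mem_stab0 : ∀ g : Equiv.Perm (Fin 6), wAct g w0 = w0 → g ∈ stab0 := by decide +kernel

/-- Elements of the even stabilizer used for commutators. -/
def evList : List (Equiv.Perm (Fin 6)) :=
  [Equiv.swap 2 3 * Equiv.swap 3 4, Equiv.swap 3 4 * Equiv.swap 2 3, k1, k2, k3]

theorem evList_even : ∀ e ∈ evList, Equiv.Perm.sign e = 1 ∧ wAct e w0 = w0 := by decide +kernel

theorem comm_hits : ∀ g ∈ stab0, g * g = 1 → g ≠ 1 → g ≠ tauP →
    ∃ e ∈ evList, e * g * e⁻¹ * g⁻¹ = k1 ∨ e * g * e⁻¹ * g⁻¹ = k2 ∨ e * g * e⁻¹ * g⁻¹ = k3 := by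
  decide +kernel

theorem k_rot : ∀ k ∈ [k1, k2, k3], ∀ k' ∈ [k1, k2], ∃ e ∈ ([1] ++ evList), e * k * e⁻¹ = k' := by
  decide +kernel

theorem L0_gen : ∀ v : V8, L0 v → ∃ a b c d : ZMod 2,
    v = a • tau1 + b • ((0, w0) : V8) + c • (((0, 0, 1, 0), 0) : V8) + d • (((0, 0, 1, 1), 0) : V8) := by
  decide +kernel

theorem L0_witness :
    vAct (1, k1) ((0, (0, 0, 0, 1)) : V8) + ((0, (0, 0, 0, 1)) : V8) = ((0, w0) : V8) ∧
    vAct (1, k1) (((0, 1, 0, 0), 0) : V8) + (((0, 1, 0, 0), 0) : V8) = (((0, 0, 1, 0), 0) : V8) ∧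
    vAct (1, k2) (((0, 1, 0, 0), 0) : V8) + (((0, 1, 0, 0), 0) : V8) = (((0, 0, 1, 1), 0) : V8) ∧
    vB ((0, (0, 0, 0, 1)) : V8) tau1 = 0 ∧ vB (((0, 1, 0, 0), 0) : V8) tau1 = 0 := by
  decide +kernel

theorem L0_card : Fintype.card {v : V8 // L0 v} = 16 := by decide +kernel

theorem fixF : ∀ g ∈ stab0, (∀ a : W4, a.2.1 = 0 → wAct g a = a) → g = 1 ∨ g = tauP := by
  decide +kernel

theorem tauP_fix : ∀ v : V8, L0 v → vAct (1, tauP) v = v := by decide +kernel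

/-- The pointwise stabilizer of `tau2` in the second factor. -/
def K2 : List (Equiv.Perm (Fin 6)) :=
  [1, Equiv.swap 4 5, Equiv.swap 2 3, k1, tauP, tauP * Equiv.swap 4 5, tauP * Equiv.swap 2 3, tauP * k1]

theorem mem_K2 : ∀ g ∈ stab0, wAct g w1 = w1 → g ∈ K2 := by decide +kernel

/-- The subspace attached to `tau2`. -/
def L2 (v : V8) : Prop :=
  (v.1 = 0 ∨ v.1 = w0 ∨ v.1 = w1 ∨ v.1 = w0 + w1) ∧ (v.2 = 0 ∨ v.2 = w0 ∨ v.2 = w1 ∨ v.2 = w0 + w1)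

instance : DecidablePred L2 := fun v => inferInstanceAs (Decidable (_ ∧ _))

theorem L2_card : Fintype.card {v : V8 // L2 v} = 16 := by decide +kernel

theorem L2_gen : ∀ v : V8, L2 v → ∃ a b c d : ZMod 2,
    v = a • ((w0 + w1, 0) : V8) + b • ((0, w0 + w1) : V8) + c • ((w1, 0) : V8) + d • ((0, w1) : V8) := by
  decide +kernel

theorem L2_witness :
    vAct (1, Equiv.swap 4 5) (((0, 0, 0, 1), (0, 1, 0, 0)) : V8) + (((0, 0, 0, 1), (0, 1, 0, 0)) : V8) =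
      ((w0 + w1, 0) : V8) ∧
    vAct (1, Equiv.swap 4 5) ((0, (0, 0, 0, 1)) : V8) + ((0, (0, 0, 0, 1)) : V8) = ((0, w0 + w1) : V8) ∧
    vAct (1, Equiv.swap 2 3) (((0, 0, 0, 1), (0, 1, 0, 1)) : V8) + (((0, 0, 0, 1), (0, 1, 0, 1)) : V8) =
      ((w1, 0) : V8) ∧
    vAct (1, Equiv.swap 2 3) ((0, (0, 0, 0, 1)) : V8) + ((0, (0, 0, 0, 1)) : V8) = ((0, w1) : V8) ∧
    vB (((0, 0, 0, 1), (0, 1, 0, 0)) : V8) tau2 = 0 ∧ vB ((0, (0, 0, 0, 1)) : V8) tau2 = 0 ∧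
    vB (((0, 0, 0, 1), (0, 1, 0, 1)) : V8) tau2 = 0 := by
  decide +kernel

theorem K2_fix : ∀ g ∈ K2, ∀ v : V8, L2 v → vAct (1, g) v = v := by decide +kernel

/-- The element of order three of the stabilizer of `tau2` outside the second factor. -/
def e2 : Equiv.Perm (Fin 6) :=
  Equiv.swap 0 2 * Equiv.swap 0 4 * (Equiv.swap 1 3 * Equiv.swap 1 5)

theorem e2_fix : Equiv.Perm.sign e2 = 1 ∧ vAct (finRotate 3, e2) tau2 = tau2 := by decide +kernel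

theorem fst_comm : ∀ a : Equiv.Perm (Fin 3), a * a = 1 → a ≠ 1 →
    (finRotate 3 * a * (finRotate 3)⁻¹ * a⁻¹) * (finRotate 3 * a * (finRotate 3)⁻¹ * a⁻¹) ≠ 1 := by
  decide +kernel

theorem fix_zero : ∀ a : Equiv.Perm (Fin 3), a 0 = 0 → a = 1 ∨ a = Equiv.swap 1 2 := by decide +kernel

end Cfsg.Agent.H70.CHZ
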